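/-
Monomial subgroups of SL(3) over a group of allowed entries, and stabilisers of three lines.
-/
import Cfsg.Agent.Lib.Geo.Asch.Irred
import Cfsg.Prelude.Def_GeometricClasses

set_option autoImplicit false

namespace CfsgLib.Geo.SL3.Maximal

open Matrix Cfsg.Geo
open scoped MatrixGroups

variable {F : Type*} [Field F]

local notation "M3" => Matrix (Fin 3) (Fin 3) F

/-- The matrix sending the `j`-th basis vector to `c j` times the `τ j`-th. -/
def monMat (τ : Equiv.Perm (Fin 3)) (c : Fin 3 → F) : M3 :=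
  Matrix.of fun i j => if i = τ j then c j else 0

theorem monMat_mulVec_single (τ : Equiv.Perm (Fin 3)) (c : Fin 3 → F) (j : Fin 3) :
    monMat τ c *ᵥ Pi.single j 1 = c j • (Pi.single (τ j) 1 : Fin 3 → F) := by
  ext i
  simp [monMat, Pi.single_apply]

theorem monMat_mul (τ σ : Equiv.Perm (Fin 3)) (c d : Fin 3 → F) :
    monMat τ c * monMat σ d = monMat (τ * σ) fun j => c (σ j) * d j := by
  refine Matrix.ext_of_mulVec_single fun j => ?_
  rw [← Matrix.mulVec_mulVec, monMat_mulVec_single, Matrix.mulVec_smul, monMat_mulVec_single,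
    monMat_mulVec_single, smul_smul, mul_comm, Equiv.Perm.mul_apply]

theorem monMat_one : monMat (1 : Equiv.Perm (Fin 3)) (fun _ => (1 : F)) = 1 := by
  ext i j
  by_cases h : i = j <;> simp [monMat, Matrix.one_apply, h]

theorem mem_specialLinear {g : GL (Fin 3) F} (h : (g : M3).det = 1) : g ∈ specialLinear (Fin 3) F :=
  MonoidHom.mem_ker.2 (Units.ext h)

theorem monMat_injective {τ σ : Equiv.Perm (Fin 3)} {c d : Fin 3 → F} (hc : ∀ j, c j ≠ 0)
    (h : monMat τ c = monMat σ d) : τ = σ ∧ c = d := by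
  have e : ∀ j, τ j = σ j ∧ c j = d j := fun j => by
    have h1 := congrFun (congrFun h (τ j)) j
    simp only [monMat, Matrix.of_apply, if_true] at h1
    by_cases hj : τ j = σ j
    · exact ⟨hj, by rwa [if_pos hj] at h1⟩
    · rw [if_neg hj] at h1
      exact absurd h1 (hc j)
  exact ⟨Equiv.ext fun j => (e j).1, funext fun j => (e j).2⟩

theorem det_monMat (τ : Equiv.Perm (Fin 3)) (c : Fin 3 → F) :
    (monMat τ c).det = (Equiv.Perm.sign τ : ℤ) * (c 0 * c 1 * c 2) := by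
  have h : monMat τ c = (Matrix.diagonal c).submatrix τ.symm id := by
    ext i j
    by_cases hij : i = τ j
    · subst hij; simp [monMat]
    · simp [monMat, hij, Matrix.diagonal_apply, Equiv.symm_apply_eq]
  rw [h, Matrix.det_permute, Equiv.Perm.sign_symm, Matrix.det_diagonal, Fin.prod_univ_three]

/-- The monomial matrices in the basis `B` with entries in `μ`. -/
def monGroup (B : GL (Fin 3) F) (μ : Subgroup Fˣ) : Subgroup (GL (Fin 3) F) where
  carrier := {g | ∃ (τ : Equiv.Perm (Fin 3)) (c : Fin 3 → Fˣ), (∀ j, c j ∈ μ) ∧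
    (g : M3) * (B : M3) = (B : M3) * monMat τ fun j => (c j : F)}
  mul_mem' := by
    rintro a b ⟨τ, c, hc, ha⟩ ⟨σ, d, hd, hb⟩
    refine ⟨τ * σ, fun j => c (σ j) * d j, fun j => mul_mem (hc _) (hd j), ?_⟩
    rw [Units.val_mul, mul_assoc, hb, ← mul_assoc, ha, mul_assoc, monMat_mul]
    simp
  one_mem' := ⟨1, fun _ => 1, fun _ => one_mem μ, by simp [monMat_one]⟩
  inv_mem' := by
    rintro a ⟨τ, c, hc, ha⟩
    refine ⟨τ⁻¹, fun j => (c (τ⁻¹ j))⁻¹, fun j => inv_mem (hc _), ?_⟩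
    have h1 : monMat τ (fun j => (c j : F)) * monMat τ⁻¹ (fun j => (((c (τ⁻¹ j))⁻¹ : Fˣ) : F)) = 1 := by
      rw [monMat_mul, mul_inv_cancel, ← monMat_one]
      congr 1
      funext j
      simp
    calc ((a⁻¹ : GL (Fin 3) F) : M3) * (B : M3)
        = ((a⁻¹ : GL (Fin 3) F) : M3) * ((B : M3) * (monMat τ (fun j => (c j : F)) *
            monMat τ⁻¹ (fun j => (((c (τ⁻¹ j))⁻¹ : Fˣ) : F)))) := by rw [h1, mul_one]
      _ = (B : M3) * monMat τ⁻¹ (fun j => (((c (τ⁻¹ j))⁻¹ : Fˣ) : F)) := by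
        rw [← mul_assoc (B : M3), ← ha, ← mul_assoc, ← mul_assoc ((a⁻¹ : GL (Fin 3) F) : M3), ← Units.val_mul,
          inv_mul_cancel, Units.val_one, one_mul]

/-- The element with given permutation and entries. -/
def monElem (B : GL (Fin 3) F) (τ : Equiv.Perm (Fin 3)) (c : Fin 3 → Fˣ) : GL (Fin 3) F :=
  Matrix.GeneralLinearGroup.mkOfDetNeZero ((B : M3) * monMat τ (fun j => (c j : F)) * ((B⁻¹ : GL (Fin 3) F) : M3))
    (by
      rw [Matrix.det_units_conj, det_monMat]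
      refine mul_ne_zero ?_ (mul_ne_zero (mul_ne_zero (c 0).ne_zero (c 1).ne_zero) (c 2).ne_zero)
      rcases Int.units_eq_one_or (Equiv.Perm.sign τ) with h | h <;> simp [h])

theorem monElem_mul_basis (B : GL (Fin 3) F) (τ : Equiv.Perm (Fin 3)) (c : Fin 3 → Fˣ) :
    (monElem B τ c : M3) * (B : M3) = (B : M3) * monMat τ fun j => (c j : F) := by
  show (B : M3) * _ * ((B⁻¹ : GL (Fin 3) F) : M3) * (B : M3) = _
  rw [mul_assoc, ← Units.val_mul, inv_mul_cancel, Units.val_one, mul_one]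

theorem det_monElem (B : GL (Fin 3) F) (τ : Equiv.Perm (Fin 3)) (c : Fin 3 → Fˣ) :
    (monElem B τ c : M3).det = (Equiv.Perm.sign τ : ℤ) * ((c 0 : F) * c 1 * c 2) := by
  show ((B : M3) * _ * ((B⁻¹ : GL (Fin 3) F) : M3)).det = _
  rw [Matrix.det_units_conj, det_monMat]

theorem monElem_mem {B : GL (Fin 3) F} {μ : Subgroup Fˣ} {τ : Equiv.Perm (Fin 3)} {c : Fin 3 → Fˣ}
    (hc : ∀ j, c j ∈ μ) : monElem B τ c ∈ monGroup B μ := ⟨τ, c, hc, monElem_mul_basis B τ c⟩

theorem eq_monElem {B g : GL (Fin 3) F} {τ : Equiv.Perm (Fin 3)} {c : Fin 3 → Fˣ}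
    (h : (g : M3) * (B : M3) = (B : M3) * monMat τ fun j => (c j : F)) : g = monElem B τ c :=
  mul_right_cancel (b := B) (Units.ext (by rw [Units.val_mul, Units.val_mul, h, monElem_mul_basis]))

/-- The sign of a permutation as an allowed entry. -/
def sgn (τ : Equiv.Perm (Fin 3)) : Fˣ := Units.map (Int.castRingHom F).toMonoidHom (Equiv.Perm.sign τ)

theorem sgn_val (τ : Equiv.Perm (Fin 3)) : ((sgn τ : Fˣ) : F) = ((Equiv.Perm.sign τ : ℤ) : F) := rfl

theorem sgn_mul_self (τ : Equiv.Perm (Fin 3)) : (sgn τ : Fˣ) * sgn τ = 1 := by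
  rw [sgn, ← map_mul, Int.units_mul_self, map_one]

theorem sgn_mem {μ : Subgroup Fˣ} (hμ : (-1 : Fˣ) ∈ μ) (τ : Equiv.Perm (Fin 3)) : sgn τ ∈ μ := by
  rcases Int.units_eq_one_or (Equiv.Perm.sign τ) with h | h <;> rw [sgn, h]
  · rw [map_one]; exact one_mem μ
  · convert hμ
    ext; simp

/-- The elements of determinant one with given permutation and last two entries. -/
def monParam (B : GL (Fin 3) F) (μ : Subgroup Fˣ) (x : Equiv.Perm (Fin 3) × μ × μ) : GL (Fin 3) F :=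
  monElem B x.1 ![sgn x.1 * ((x.2.1 : Fˣ) * (x.2.2 : Fˣ))⁻¹, (x.2.1 : Fˣ), (x.2.2 : Fˣ)]

theorem monParam_mem {B : GL (Fin 3) F} {μ : Subgroup Fˣ} (hμ : (-1 : Fˣ) ∈ μ) (x : Equiv.Perm (Fin 3) × μ × μ) :
    monParam B μ x ∈ monGroup B μ ⊓ specialLinear (Fin 3) F := by
  refine ⟨monElem_mem fun j => ?_, ?_⟩
  · fin_cases j
    · exact mul_mem (sgn_mem hμ _) (inv_mem (mul_mem x.2.1.2 x.2.2.2))
    · exact x.2.1.2
    · exact x.2.2.2
  · refine mem_specialLinear ?_
    rw [monParam, det_monElem, ← sgn_val]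
    simp only [Units.val_one, Matrix.cons_val_zero, Matrix.cons_val_one, Matrix.cons_val_two, Matrix.head_cons,
      Matrix.tail_cons, ← Units.val_mul]
    rw [← Units.val_one]
    congr 1
    rw [mul_assoc (sgn x.1 * _), mul_assoc, inv_mul_cancel, mul_one, sgn_mul_self]

/-- The order of a monomial group of determinant one. -/
theorem card_monGroup [Finite F] (B : GL (Fin 3) F) {μ : Subgroup Fˣ} (hμ : (-1 : Fˣ) ∈ μ) :
    Nat.card (monGroup B μ ⊓ specialLinear (Fin 3) F : Subgroup _) = 6 * Nat.card μ ^ 2 := by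
  have h : Nat.card (Equiv.Perm (Fin 3) × μ × μ) = 6 * Nat.card μ ^ 2 := by
    rw [Nat.card_prod, Nat.card_prod, Nat.card_perm, Nat.card_eq_fintype_card, Fintype.card_fin, pow_two]
    rfl
  rw [← h]
  refine (Nat.card_eq_of_bijective (fun x => (⟨monParam B μ x, monParam_mem hμ x⟩ : (monGroup B μ ⊓
    specialLinear (Fin 3) F : Subgroup _))) ⟨?_, ?_⟩).symm
  · rintro ⟨τ, a, b⟩ ⟨σ, a', b'⟩ e
    have e' := congrArg (fun g : GL (Fin 3) F => (g : M3) * (B : M3)) (congrArg Subtype.val e)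
    simp only [monParam, monElem_mul_basis] at e'
    obtain ⟨h1, h2⟩ := monMat_injective (fun j => Units.ne_zero _) ((B.mul_right_inj).1 e')
    exact Prod.ext h1 (Prod.ext (Subtype.ext (Units.ext (congrFun h2 1))) (Subtype.ext (Units.ext (congrFun h2 2))))
  · rintro ⟨g, ⟨τ, c, hc, hg⟩, hs⟩
    refine ⟨⟨τ, ⟨c 1, hc 1⟩, ⟨c 2, hc 2⟩⟩, Subtype.ext ?_⟩
    have hg' := eq_monElem hg
    subst hg'
    have hd : ((Equiv.Perm.sign τ : ℤ) : F) * ((c 0 : F) * c 1 * c 2) = 1 := by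
      rw [← det_monElem B]
      exact congrArg Units.val (show Matrix.GeneralLinearGroup.det (monElem B τ c) = 1 from hs)
    have h0 : c 0 = sgn τ * (c 1 * c 2)⁻¹ := by
      rw [eq_mul_inv_iff_mul_eq]
      have h1 : sgn τ * (c 0 * (c 1 * c 2)) = 1 := Units.ext (by
        simp only [Units.val_mul, sgn_val, Units.val_one]
        rw [← mul_assoc (c 0 : F)]
        exact hd)
      calc c 0 * (c 1 * c 2) = sgn τ * sgn τ * (c 0 * (c 1 * c 2)) := by rw [sgn_mul_self, one_mul]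
        _ = sgn τ := by rw [mul_assoc, h1, mul_one]
    show monParam B μ _ = monElem B τ c
    rw [monParam]
    congr 1
    funext j
    fin_cases j
    · exact h0.symm
    · rfl
    · rfl

/-- The lines of a basis. -/
theorem stabilizer_eq [Finite F] {B : GL (Fin 3) F} {D : Fin 3 → Submodule F (Fin 3 → F)}
    (hD : ∀ i, D i = F ∙ ((B : M3) *ᵥ Pi.single i 1)) :
    decompositionStabilizer D = monGroup B ⊤ := by
  have hne : ∀ i, (B : M3) *ᵥ (Pi.single i 1 : Fin 3 → F) ≠ 0 := fun i =>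
    CfsgLib.Geo.Asch.mulVec_ne_zero B (by simp)
  ext g
  constructor
  · rintro ⟨σ, hσ⟩
    have hcol : ∀ j, ∃ a : Fˣ, (g : M3) *ᵥ ((B : M3) *ᵥ Pi.single j 1) =
        (a : F) • ((B : M3) *ᵥ Pi.single (σ j) 1) := by
      intro j
      have h1 : (g : M3) *ᵥ ((B : M3) *ᵥ Pi.single j 1) ∈ D (σ j) := by
        rw [← hσ j]
        exact Submodule.mem_map_of_mem (f := Matrix.toLin' (g : M3)) (hD j ▸ Submodule.mem_span_singleton_self _)
      rw [hD, Submodule.mem_span_singleton] at h1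
      obtain ⟨a, ha⟩ := h1
      refine ⟨Units.mk0 a fun h0 => CfsgLib.Geo.Asch.mulVec_ne_zero g (hne j) ?_, ha.symm⟩
      rw [← ha, h0, zero_smul]
    choose c hc using hcol
    refine ⟨σ, c, fun _ => trivial, Matrix.ext_of_mulVec_single fun j => ?_⟩
    rw [← Matrix.mulVec_mulVec, hc, ← Matrix.mulVec_mulVec, monMat_mulVec_single, Matrix.mulVec_smul]
  · rintro ⟨τ, c, -, hg⟩
    refine ⟨τ, fun i => ?_⟩
    rw [hD, hD, Submodule.map_span, Set.image_singleton, Matrix.toLin'_apply, Matrix.mulVec_mulVec, hg,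
      ← Matrix.mulVec_mulVec, monMat_mulVec_single, Matrix.mulVec_smul]
    exact Submodule.span_singleton_smul_eq (c i).isUnit _

/-- Monomial groups with enough entries are irreducible. -/
theorem irreducible {B : GL (Fin 3) F} {μ : Subgroup Fˣ} (hμ : ∃ a ∈ μ, a * a ≠ (1 : Fˣ))
    (W : Submodule F (Fin 3 → F))
    (hW : ∀ g ∈ monGroup B μ ⊓ specialLinear (Fin 3) F, ∀ w ∈ W, (g : M3) *ᵥ w ∈ W) : W = ⊥ ∨ W = ⊤ := by
  classical
  obtain ⟨a, ha, ha2⟩ := hμ
  have ha1 : (a : F) ≠ 1 := fun h => ha2 (Units.ext (by rw [Units.val_mul, h, mul_one, Units.val_one]))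
  have ha2' : (a : F) ≠ ((a⁻¹ : Fˣ) : F) := fun h => ha2 (by
    have := Units.ext h
    nth_rewrite 2 [this]
    exact mul_inv_cancel a)
  have hmem : ∀ (τ : Equiv.Perm (Fin 3)) (c : Fin 3 → Fˣ), (∀ j, c j ∈ μ) →
      ((Equiv.Perm.sign τ : ℤ) : F) * ((c 0 : F) * c 1 * c 2) = 1 →
      ∀ w ∈ W, (monElem B τ c : M3) *ᵥ w ∈ W := fun τ c hc hd =>
    hW _ ⟨monElem_mem hc, mem_specialLinear (by rw [det_monElem, hd])⟩
  set U : Submodule F (Fin 3 → F) := W.comap (Matrix.toLin' (B : M3)) with hU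
  have hUW : U = ⊤ → W = ⊤ := fun h => eq_top_iff.2 fun x _ => by
    have : ((B⁻¹ : GL (Fin 3) F) : M3) *ᵥ x ∈ U := h ▸ Submodule.mem_top
    rw [hU, Submodule.mem_comap, Matrix.toLin'_apply, Matrix.mulVec_mulVec, ← Units.val_mul, mul_inv_cancel,
      Units.val_one, Matrix.one_mulVec] at this
    exact this
  have hU' : ∀ (τ : Equiv.Perm (Fin 3)) (c : Fin 3 → Fˣ), (∀ j, c j ∈ μ) →
      ((Equiv.Perm.sign τ : ℤ) : F) * ((c 0 : F) * c 1 * c 2) = 1 →
      ∀ v ∈ U, monMat τ (fun j => (c j : F)) *ᵥ v ∈ U := by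
    intro τ c hc hd v hv
    rw [hU, Submodule.mem_comap, Matrix.toLin'_apply] at hv ⊢
    rw [Matrix.mulVec_mulVec, ← monElem_mul_basis, ← Matrix.mulVec_mulVec]
    exact hmem τ c hc hd _ hv
  by_cases h0 : W = ⊥
  · exact Or.inl h0
  refine Or.inr (hUW ?_)
  obtain ⟨w, hw, hw0⟩ := W.ne_bot_iff.1 h0
  have hv : ((B⁻¹ : GL (Fin 3) F) : M3) *ᵥ w ∈ U := by
    rw [hU, Submodule.mem_comap, Matrix.toLin'_apply, Matrix.mulVec_mulVec, ← Units.val_mul, mul_inv_cancel,
      Units.val_one, Matrix.one_mulVec]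
    exact hw
  have hdiag : ∀ (c : Fin 3 → Fˣ), (∀ j, c j ∈ μ) → ((c 0 : F) * c 1 * c 2) = 1 → ∀ v ∈ U,
      (fun i => (c i : F) * v i) ∈ U := fun c hc hd v hv => by
    have := hU' 1 c hc (by simpa using hd) v hv
    convert this using 1
    funext i
    fin_cases i <;> simp [monMat, Matrix.mulVec, dotProduct, Fin.sum_univ_three]
  -- kill one coordinate, keeping another
  have hkill : ∀ v ∈ U, ∀ i j : Fin 3, i ≠ j → v i ≠ 0 → ∃ v' ∈ U, v' i ≠ 0 ∧ v' j = 0 ∧
      ∀ l, v l = 0 → v' l = 0 := by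
    intro v hv i j hij hvi
    obtain ⟨c, hc, hd, hne⟩ : ∃ c : Fin 3 → Fˣ, (∀ l, c l ∈ μ) ∧ ((c 0 : F) * c 1 * c 2) = 1 ∧ (c i : F) ≠ c j := by
      let k : Fin 3 := -(i + j)
      have hki : k ≠ i := by revert hij; simp only [k]; fin_cases i <;> fin_cases j <;> decide
      refine ⟨fun l => if l = i then a else if l = j then a⁻¹ else 1, fun l => ?_, ?_, ?_⟩
      · dsimp only; split_ifs <;> [exact ha; exact inv_mem ha; exact one_mem μ]
      · rw [← Units.val_mul, ← Units.val_mul, ← Units.val_one]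
        congr 1
        revert hij
        fin_cases i <;> fin_cases j <;> intro hij <;> simp at hij <;> simp
      · simpa [hij.symm] using ha2'
    refine ⟨(fun l => (c l : F) * v l) - (c j : F) • v, U.sub_mem (hdiag c hc hd v hv) (U.smul_mem _ hv), ?_, ?_,
      fun l hl => ?_⟩
    · simp only [Pi.sub_apply, Pi.smul_apply, smul_eq_mul, ← sub_mul]
      exact mul_ne_zero (sub_ne_zero.2 hne) hvi
    · simp
    · simp [hl]
  obtain ⟨i, hi⟩ : ∃ i, (((B⁻¹ : GL (Fin 3) F) : M3) *ᵥ w) i ≠ 0 :=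
    Function.ne_iff.1 (CfsgLib.Geo.Asch.mulVec_ne_zero B⁻¹ hw0)
  obtain ⟨j, k, hij, hik, hjk⟩ : ∃ j k, i ≠ j ∧ i ≠ k ∧ j ≠ k :=
    ⟨i + 1, i + 2, by fin_cases i <;> decide, by fin_cases i <;> decide, by fin_cases i <;> decide⟩
  obtain ⟨v1, hv1, h1i, h1j, -⟩ := hkill _ hv i j hij hi
  obtain ⟨v2, hv2, h2i, h2k, h2⟩ := hkill v1 hv1 i k hik h1i
  have hei : (Pi.single i 1 : Fin 3 → F) ∈ U := by
    have e : v2 = v2 i • (Pi.single i 1 : Fin 3 → F) := by
      funext l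
      rcases (show l = i ∨ l = j ∨ l = k by revert hij hik hjk; fin_cases i <;> fin_cases j <;> fin_cases k <;>
        fin_cases l <;> decide) with rfl | rfl | rfl
      · simp
      · simp [h2 _ h1j, hij.symm]
      · simp [h2k, hik.symm]
    have := U.smul_mem (v2 i)⁻¹ (e ▸ hv2)
    rwa [smul_smul, inv_mul_cancel₀ h2i, one_smul] at this
  have hrot : ∀ l, (Pi.single l 1 : Fin 3 → F) ∈ U → (Pi.single (finRotate 3 l) 1 : Fin 3 → F) ∈ U := fun l hl => by
    have := hU' (finRotate 3) (fun _ => 1) (fun _ => one_mem μ) (by rw [sign_finRotate]; norm_num) _ hl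
    rwa [monMat_mulVec_single, Units.val_one, one_smul] at this
  have hall : ∀ l, (Pi.single l 1 : Fin 3 → F) ∈ U := by
    have h1 := hrot i hei
    have h2 := hrot _ h1
    intro l
    fin_cases i <;> fin_cases l <;>
      first | exact hei | exact h1 | exact h2
  refine eq_top_iff.2 fun x _ => ?_
  rw [pi_eq_sum_univ' x]
  exact sum_mem fun l _ => U.smul_mem _ (hall l)

end CfsgLib.Geo.SL3.Maximal
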