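/-
Groups with socle of order 168 or socle alternating of degree 6, seen on the Sylow subgroups of the socle.
-/
import Cfsg.Agent.Lib.Perm.Simple168
import Cfsg.Agent.Lib.TwoGroups.OrderThreeSixty
import Cfsg.Agent.Lib.Known.GLFourTwoFacts

set_option autoImplicit false

namespace CfsgLib.Geo.SL3.Maximal

open Subgroup
open scoped Pointwise

variable {M : Type*} [Group M] (A : Subgroup M) [hAn : A.Normal]

/-- The action of the group on the Sylow subgroups of a normal subgroup. -/
noncomputable def sylHom (p : ℕ) : M →* Equiv.Perm (Sylow p A) :=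
  (MulAction.toPermHom (MulAut A) (Sylow p A)).comp (MulAut.conjNormal : M →* MulAut A)

theorem sylHom_apply {p : ℕ} (m : M) (P : Sylow p A) :
    sylHom A p m P = (MulAut.conjNormal m : MulAut A) • P := rfl

theorem sylHom_coe_apply {p : ℕ} (a : A) (P : Sylow p A) : sylHom A p (a : M) P = a • P := by
  rw [sylHom_apply, Sylow.smul_def]
  congr 1
  ext x
  simp [MulAut.conjNormal_apply]

theorem sylHom_fixed [Finite M] {p : ℕ} {m : M} {P : Sylow p A}
    (h : ∀ a ∈ (P : Subgroup A), (MulAut.conjNormal m : MulAut A) a ∈ (P : Subgroup A)) :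
    sylHom A p m P = P := by
  rw [sylHom_apply]
  refine Sylow.ext (Subgroup.eq_of_le_of_card_ge ?_ ?_)
  · rintro _ ⟨a, ha, rfl⟩
    exact h a ha
  · change _ ≤ Nat.card ((P : Subgroup A).map _)
    exact le_of_eq (Subgroup.card_map_of_injective (MulEquiv.injective _)).symm

theorem sylHom_injective [Finite M] [IsSimpleGroup A] {p : ℕ} [Fact p.Prime] (h1 : 1 < Nat.card (Sylow p A))
    (hC : centralizer (A : Set M) = ⊥) : Function.Injective (sylHom A p) := by
  classical
  rw [← MonoidHom.ker_eq_bot_iff]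
  have hA : (sylHom A p).ker.subgroupOf A = ⊥ := by
    refine ((inferInstance : ((sylHom A p).ker.subgroupOf A).Normal)).eq_bot_or_eq_top.resolve_right fun htop => ?_
    haveI := Fintype.ofFinite (Sylow p A)
    obtain ⟨P⟩ : Nonempty (Sylow p A) := inferInstance
    obtain ⟨Q, hQ⟩ : ∃ Q : Sylow p A, Q ≠ P := by
      rw [Nat.card_eq_fintype_card, Fintype.one_lt_card_iff] at h1
      obtain ⟨a, b, hab⟩ := h1
      by_cases h : a = P
      · exact ⟨b, fun e => hab (h.trans e.symm)⟩
      · exact ⟨a, h⟩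
    obtain ⟨g, hg⟩ := MulAction.exists_smul_eq A P Q
    have : g ∈ (sylHom A p).ker.subgroupOf A := htop ▸ Subgroup.mem_top g
    rw [Subgroup.mem_subgroupOf, MonoidHom.mem_ker] at this
    have h2 := sylHom_coe_apply A g P
    rw [this, Equiv.Perm.one_apply, hg] at h2
    exact hQ h2.symm
  refine eq_bot_iff.2 fun k hk => ?_
  rw [← hC, Subgroup.mem_centralizer_iff]
  intro a ha
  have hcomm : k * a * k⁻¹ * a⁻¹ ∈ (sylHom A p).ker := by
    rw [show k * a * k⁻¹ * a⁻¹ = k * (a * k⁻¹ * a⁻¹) by group]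
    exact Subgroup.mul_mem _ hk ((inferInstance : (sylHom A p).ker.Normal).conj_mem _ (Subgroup.inv_mem _ hk) a)
  have hmem : k * a * k⁻¹ * a⁻¹ ∈ A := A.mul_mem (hAn.conj_mem a ha k) (A.inv_mem ha)
  have : (⟨_, hmem⟩ : A) ∈ (⊥ : Subgroup A) := by
    rw [← hA, Subgroup.mem_subgroupOf]
    exact hcomm
  rw [Subgroup.mem_bot] at this
  have h3 : k * a * k⁻¹ * a⁻¹ = 1 := congrArg Subtype.val this
  rw [mul_inv_eq_one, mul_inv_eq_iff_eq_mul] at h3
  exact h3.symm

/-- A group whose socle has order 168 has order dividing 336. -/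
theorem card_dvd_of_168 [Finite M] [IsSimpleGroup A] (hA : Nat.card A = 168)
    (hC : centralizer (A : Set M) = ⊥) : Nat.card M ∣ 336 := by
  classical
  haveI : Fact (Nat.Prime 7) := ⟨by norm_num⟩
  have h8 := CfsgLib.Perm.Simple168.card_sylow_seven (G := A) hA
  haveI := Fintype.ofFinite (Sylow 7 A)
  let e : Sylow 7 A ≃ Fin 8 := Fintype.equivFinOfCardEq (by rw [← Nat.card_eq_fintype_card, h8])
  let f : M →* Equiv.Perm (Fin 8) := e.permCongrHom.toMonoidHom.comp (sylHom A 7)
  have hf : Function.Injective f :=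
    e.permCongrHom.injective.comp (sylHom_injective A (by rw [h8]; norm_num) hC)
  obtain ⟨x, hx⟩ := exists_prime_orderOf_dvd_card' (G := A) 7 (by rw [hA]; norm_num)
  set X : Subgroup M := zpowers (x : M) with hX
  have hxo : orderOf (x : M) = 7 := by rw [Subgroup.orderOf_coe, hx]
  obtain ⟨P, hP⟩ := (IsPGroup.of_card (p := 7) (n := 1) (G := zpowers x) (by
    rw [Nat.card_zpowers, hx, pow_one])).exists_le_sylow
  have hP7 := CfsgLib.Perm.Simple168.card_sylow_seven_subgroup hA P
  have hPx : (P : Subgroup A).map A.subtype = X := by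
    rw [← Subgroup.eq_of_le_of_card_ge hP (by rw [hP7, Nat.card_zpowers, hx]), MonoidHom.map_zpowers]
    rfl
  set N : Subgroup M := normalizer (X : Set M) with hN
  have hsup : N ⊔ A = ⊤ := by
    rw [hN, ← hPx]
    exact Sylow.normalizer_sup_eq_top P
  have hcent : Nat.card (centralizer (X : Set M)) ∣ 7 := by
    have h1 : centralizer (X : Set M) = centralizer {(x : M)} := by
      rw [hX, zpowers_eq_closure, centralizer_closure]
    rw [h1, Nat.card_congr ((centralizer {(x : M)}).equivMapOfInjective f hf).toEquiv]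
    refine (Subgroup.card_dvd_of_le ?_).trans (CfsgLib.Known.GLFourTwo.card_centralizer_perm_seven
      (σ := f x) (by rw [orderOf_injective _ hf, hxo])).dvd
    rintro _ ⟨c, hc, rfl⟩
    rw [mem_centralizer_singleton_iff, ← map_mul, ← map_mul, mem_centralizer_singleton_iff.1 hc]
  have hN42 : Nat.card N ∣ 42 := by
    let φ := X.normalizerMonoidHom
    have hrange : Nat.card φ.range ∣ 6 := by
      have h6 : Nat.card (MulAut X) = 6 := by
        haveI : IsCyclic X := inferInstanceAs (IsCyclic (zpowers (x : M)))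
        rw [IsCyclic.card_mulAut, hX, Nat.card_zpowers, hxo]
        decide
      exact h6 ▸ Subgroup.card_subgroup_dvd_card _
    have hker : Nat.card φ.ker ∣ 7 := by
      rw [show φ.ker = (centralizer (X : Set M)).subgroupOf N from X.normalizerMonoidHom_ker]
      rw [Nat.card_congr (Subgroup.subgroupOfEquivOfLe (Subgroup.centralizer_le_normalizer _ : centralizer (X : Set M) ≤ N)).toEquiv]
      exact hcent
    have hmul := φ.ker.card_mul_index
    rw [Subgroup.index_ker] at hmul
    rw [← hmul]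
    exact Nat.mul_dvd_mul hker hrange
  have hNA : Nat.card (N ⊓ A : Subgroup M) = 21 := by
    rw [← CfsgLib.Perm.Simple168.card_normalizer_seven hA P]
    refine ((Nat.card_congr (Subgroup.subgroupOfEquivOfLe inf_le_right).toEquiv).symm).trans ?_
    congr 2
    rw [hN, ← hPx]
    ext a
    simp only [Subgroup.mem_subgroupOf, Subgroup.mem_inf, Subgroup.mem_normalizer_iff]
    constructor
    · rintro ⟨h, -⟩ b
      have h2 := h b
      rw [← Subgroup.mem_map_iff_mem A.subtype_injective (x := b),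
        ← Subgroup.mem_map_iff_mem A.subtype_injective (x := a * b * a⁻¹)]
      simpa using h2
    · intro h
      refine ⟨fun b => ?_, a.2⟩
      constructor
      · rintro ⟨c, hc, rfl⟩
        exact ⟨a * c * a⁻¹, (h c).1 hc, by simp⟩
      · rintro ⟨c, hc, he⟩
        refine ⟨a⁻¹ * c * a, ?_, ?_⟩
        · refine (h _).2 ?_
          rw [show a * (a⁻¹ * c * a) * a⁻¹ = c by group]
          exact hc
        · simp only [Subgroup.coe_subtype] at he
          simp [he, mul_assoc]
  have hcard : Nat.card N * 168 = Nat.card M * 21 := by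
    have hrel : A.relIndex N = A.index := by
      rw [← Subgroup.relIndex_top_right, ← hsup]
      rw [sup_comm]
      exact (Subgroup.relIndex_sup_left N A).symm
    have h1 := Subgroup.card_mul_index (A.subgroupOf N)
    rw [Nat.card_congr (Subgroup.inf_subgroupOf_right A N ▸
      (Subgroup.subgroupOfEquivOfLe (inf_le_right : A ⊓ N ≤ N))).toEquiv, inf_comm, hNA] at h1
    have h2 := Subgroup.card_mul_index A
    rw [hA, ← hrel] at h2
    rw [← h2, ← h1]
    show 21 * A.relIndex N * 168 = _
    ring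
  obtain ⟨c, hc⟩ := hN42
  refine ⟨c, ?_⟩
  have : 42 * 168 = Nat.card M * 21 * c := by rw [← hcard, hc]; ring
  have h336 : 21 * 336 = 21 * (Nat.card M * c) := by rw [show 21 * 336 = 42 * 168 by norm_num, this]; ring
  exact Nat.eq_of_mul_eq_mul_left (by norm_num) h336

/-- An element of order five of a group of order 360 has a normaliser element inverting or powering it. -/
theorem exists_normalising {G : Type*} [Group G] [Finite G] [IsSimpleGroup G] (hG : Nat.card G = 360) {x : G}
    (hx : orderOf x = 5) :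
    ∃ w : G, ¬ Commute w x ∧ w * x * w⁻¹ ∈ zpowers x := by
  haveI : Fact (Nat.Prime 5) := ⟨by norm_num⟩
  obtain ⟨P, hP⟩ := (IsPGroup.of_card (p := 5) (n := 1) (G := zpowers x) (by
    rw [Nat.card_zpowers, hx, pow_one])).exists_le_sylow
  have hP5 : Nat.card (P : Subgroup G) = 5 := by
    rw [P.card_eq_multiplicity, hG, show (360 : ℕ) = 5 * 72 by norm_num,
      Nat.factorization_mul (by norm_num) (by norm_num), Nat.Prime.factorization (by norm_num),
      Finsupp.add_apply, Finsupp.single_eq_same, Nat.factorization_eq_zero_of_not_dvd (by norm_num)]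
    norm_num
  have hPx : zpowers x = (P : Subgroup G) := Subgroup.eq_of_le_of_card_ge hP (by rw [hP5, Nat.card_zpowers, hx])
  by_contra hno
  push Not at hno
  have hle : normalizer ((P : Subgroup G) : Set G) ≤ centralizer ((P : Subgroup G) : Set G) := by
    intro w hw
    have hwx : Commute w x := by
      by_contra hc
      exact hno w hc (hPx ▸ (Subgroup.mem_normalizer_iff.1 hw x).1 (hPx ▸ mem_zpowers x))
    rw [← hPx, Subgroup.mem_centralizer_iff]
    rintro _ ⟨k, rfl⟩
    exact ((hwx.zpow_right k).eq).symm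
  have hcomp := MonoidHom.ker_transferSylow_isComplement' P hle
  have hk := hcomp.card_mul
  rw [hP5, hG] at hk
  rcases (inferInstance : (MonoidHom.transferSylow P hle).ker.Normal).eq_bot_or_eq_top with h | h
  · rw [h, Subgroup.card_bot] at hk; omega
  · rw [h, Subgroup.card_top, hG] at hk; omega

section Six

variable {A} [Finite M] [IsSimpleGroup A]

theorem no_fixed (hA : Nat.card A = 360) [Fact (Nat.Prime 3)] {x : A} (hx : orderOf x = 5) (P : Sylow 3 A) :
    sylHom A 3 (x : M) P ≠ P := by
  intro h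
  rw [sylHom_coe_apply, Sylow.smul_eq_iff_mem_normalizer] at h
  have hN := CfsgLib.Perm.card_normalizer_mul_card_sylow P
  rw [CfsgLib.TwoGroups.OrderThreeSixty.card_sylow_three hA, hA] at hN
  have h1 : orderOf x ∣ Nat.card (normalizer ((P : Subgroup A) : Set A)) :=
    Subgroup.orderOf_dvd_natCard _ h
  rw [hx] at h1
  omega

/-- The Sylow subgroups reached from one by powers of an element. -/
def orbitSet (x : M) (P : Sylow 3 A) : Set (Sylow 3 A) :=
  {Q | ∃ i : ℕ, ((sylHom A 3 x) ^ i) P = Q}

variable (hA : Nat.card A = 360) (hC : centralizer (A : Set M) = ⊥) {x : A} (hx : orderOf x = 5)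

include hA hC hx

theorem sylHom_inj3 [Fact (Nat.Prime 3)] : Function.Injective (sylHom A 3) :=
  sylHom_injective A (by rw [CfsgLib.TwoGroups.OrderThreeSixty.card_sylow_three hA]; norm_num) hC

theorem pow_five [Fact (Nat.Prime 3)] : (sylHom A 3 (x : M)) ^ 5 = 1 := by
  rw [← map_pow, ← Subgroup.coe_pow, ← hx, pow_orderOf_eq_one, Subgroup.coe_one, map_one]

theorem orbit_ncard [Fact (Nat.Prime 3)] (P : Sylow 3 A) : (orbitSet (x : M) P).ncard = 5 := by
  classical
  set σ := sylHom A 3 (x : M) with hσ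
  have h5 : σ ^ 5 = 1 := pow_five hA hC hx
  have heq : orbitSet (x : M) P = (fun i : Fin 5 => (σ ^ (i : ℕ)) P) '' Set.univ := by
    ext Q
    constructor
    · rintro ⟨i, rfl⟩
      refine ⟨⟨i % 5, Nat.mod_lt _ (by norm_num)⟩, trivial, ?_⟩
      rw [← hσ]
      conv_rhs => rw [← Nat.div_add_mod i 5, pow_add, pow_mul, h5, one_pow, one_mul]
    · rintro ⟨i, -, rfl⟩
      exact ⟨i, rfl⟩
  rw [heq, Set.ncard_image_of_injective _ ?_, Set.ncard_univ, Nat.card_eq_fintype_card, Fintype.card_fin]
  intro i j hij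
  by_contra hne
  wlog hlt : (i : ℕ) < (j : ℕ) generalizing i j
  · exact this hij.symm (Ne.symm hne) (by have := Fin.val_ne_of_ne hne; omega)
  obtain ⟨d, hd⟩ := Nat.exists_eq_add_of_le hlt.le
  have hd0 : 0 < d ∧ d < 5 := by omega
  simp only at hij
  rw [hd, pow_add, Equiv.Perm.mul_apply] at hij
  have hdP : (σ ^ d) P = P := ((σ ^ (i : ℕ)).injective hij).symm
  rw [hσ, ← map_pow, ← Subgroup.coe_pow] at hdP
  refine no_fixed hA ?_ P hdP
  rw [orderOf_pow' x (by omega), hx]
  obtain ⟨h1, h2⟩ := hd0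
  interval_cases d <;> norm_num

omit hx in
theorem comm_apply [Fact (Nat.Prime 3)] {y : M} (hy : Commute y (x : M)) (i : ℕ) (P : Sylow 3 A) :
    sylHom A 3 y (((sylHom A 3 (x : M)) ^ i) P) = ((sylHom A 3 (x : M)) ^ i) (sylHom A 3 y P) := by
  rw [← Equiv.Perm.mul_apply, ← Equiv.Perm.mul_apply, ← map_pow, ← map_mul, ← map_mul, (hy.pow_right i).eq]

/-- An element centralising an element of order five and mapping a point into its orbit: the fifth power fixes
the orbit. -/
theorem pow_five_fix [Fact (Nat.Prime 3)] {y : M} (hy : Commute y (x : M)) {P : Sylow 3 A}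
    (hP : sylHom A 3 y P ∈ orbitSet (x : M) P) :
    ∀ Q ∈ orbitSet (x : M) P, sylHom A 3 (y ^ 5) Q = Q := by
  obtain ⟨i, hi⟩ := hP
  rintro _ ⟨j, rfl⟩
  have hit : ∀ k : ℕ, (sylHom A 3 y ^ k) (((sylHom A 3 (x : M)) ^ j) P) =
      ((sylHom A 3 (x : M)) ^ (j + k * i)) P := by
    intro k
    induction k with
    | zero => simp
    | succ k ih =>
      rw [pow_succ', Equiv.Perm.mul_apply, ih, comm_apply hA hC hy, ← hi, ← Equiv.Perm.mul_apply, ← pow_add]
      congr 2
      ring
  rw [map_pow, hit 5, pow_add, pow_mul, pow_five hA hC hx, one_pow, mul_one]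

theorem orbit_disjoint [Fact (Nat.Prime 3)] {P Q : Sylow 3 A} (hQ : Q ∉ orbitSet (x : M) P) :
    Disjoint (orbitSet (x : M) P) (orbitSet (x : M) Q) := by
  rw [Set.disjoint_left]
  rintro R ⟨i, rfl⟩ ⟨j, hj⟩
  refine hQ ⟨4 * j + i, ?_⟩
  rw [pow_add, Equiv.Perm.mul_apply, ← hj, ← Equiv.Perm.mul_apply, ← pow_add,
    show 4 * j + j = 5 * j by ring, pow_mul, pow_five hA hC hx, one_pow, Equiv.Perm.one_apply]

theorem orbit_union [Fact (Nat.Prime 3)] {P Q : Sylow 3 A} (hQ : Q ∉ orbitSet (x : M) P) :
    orbitSet (x : M) P ∪ orbitSet (x : M) Q = Set.univ := by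
  haveI := Fintype.ofFinite (Sylow 3 A)
  refine Set.eq_of_subset_of_ncard_le (Set.subset_univ _) ?_ (Set.toFinite _)
  rw [Set.ncard_univ, CfsgLib.TwoGroups.OrderThreeSixty.card_sylow_three hA,
    Set.ncard_union_eq (orbit_disjoint hA hC hx hQ) (Set.toFinite _) (Set.toFinite _), orbit_ncard hA hC hx,
    orbit_ncard hA hC hx]

theorem self_mem_orbit (P : Sylow 3 A) : P ∈ orbitSet (x : M) P := ⟨0, by simp⟩

/-- An element centralising an element of order five and keeping an orbit has order dividing twenty-five. -/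
theorem pow_twenty_five [Fact (Nat.Prime 3)] {y : M} (hy : Commute y (x : M)) {P : Sylow 3 A}
    (hP : sylHom A 3 y P ∈ orbitSet (x : M) P) : y ^ 25 = 1 := by
  classical
  have hfix := pow_five_fix hA hC hx hy hP
  refine sylHom_inj3 hA hC hx ((?_ : sylHom A 3 (y ^ 25) = 1).trans (map_one _).symm)
  refine Equiv.ext fun R => ?_
  rw [Equiv.Perm.one_apply, show (25 : ℕ) = 5 * 5 by norm_num, pow_mul]
  by_cases hR : R ∈ orbitSet (x : M) P
  · rw [map_pow]
    exact Equiv.Perm.pow_apply_eq_self_of_apply_eq_self (hfix R hR) 5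
  · refine pow_five_fix hA hC hx (hy.pow_left 5) (P := R) ?_ R (self_mem_orbit hA hC hx R)
    have h := Set.mem_univ (sylHom A 3 (y ^ 5) R)
    rw [← orbit_union hA hC hx hR] at h
    refine h.resolve_left fun h' => hR ?_
    rwa [← (sylHom A 3 (y ^ 5)).injective (hfix _ h')]

end Six

end CfsgLib.Geo.SL3.Maximal
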