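/-
A group with socle alternating of degree 6 in which no element of order five is conjugate to its square: it has
index at most two over the socle, and the elements of order four fixing a Sylow 3-subgroup lie in the socle.
-/
import Cfsg.Agent.Lib.Geo.SL3.Maximal.Socle

set_option autoImplicit false

namespace CfsgLib.Geo.SL3.Maximal

open Subgroup

section Perms

variable {α : Type*} [Fintype α] [DecidableEq α]

theorem two_dvd_card_support {c : Equiv.Perm α} (h : c ^ 2 = 1) : 2 ∣ c.support.card := by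
  rcases eq_or_ne c 1 with rfl | h1
  · simp
  · obtain ⟨n, hn⟩ := Equiv.Perm.cycleType_prime_order (σ := c) (by
      rw [orderOf_eq_prime h h1]; exact Nat.prime_two)
    rw [← Equiv.Perm.sum_cycleType, hn, orderOf_eq_prime h h1, Multiset.sum_replicate]
    exact ⟨n + 1, by simp [mul_comm]⟩

theorem sign_involution {c : Equiv.Perm α} (h : c ^ 2 = 1) (hs : c.support.card = 10) :
    Equiv.Perm.sign c = -1 := by
  have h1 : c ≠ 1 := fun e => by rw [e, Equiv.Perm.support_one] at hs; simp at hs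
  obtain ⟨n, hn⟩ := Equiv.Perm.cycleType_prime_order (σ := c) (by
    rw [orderOf_eq_prime h h1]; exact Nat.prime_two)
  rw [orderOf_eq_prime h h1] at hn
  rw [← Equiv.Perm.sum_cycleType, hn, Multiset.sum_replicate, smul_eq_mul] at hs
  obtain rfl : n = 4 := by omega
  rw [Equiv.Perm.sign_of_cycleType, hn]
  decide

theorem sign_four {g : Equiv.Perm α} (h : g ^ 4 = 1) (hfree : ∀ a, g a ≠ a → (g ^ 2) a ≠ a)
    (hs : g.support.card = 8) : Equiv.Perm.sign g = 1 := by
  classical
  have hall : ∀ k ∈ g.cycleType, k = 4 := by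
    intro k hk
    rw [Equiv.Perm.cycleType_def, Multiset.mem_map] at hk
    obtain ⟨σ, hσ, rfl⟩ := hk
    have hσ' : σ ∈ g.cycleFactorsFinset := hσ
    have hcyc := (Equiv.Perm.mem_cycleFactorsFinset_iff.1 hσ').1
    show σ.support.card = 4
    rw [← hcyc.orderOf]
    have hpow : ∀ k : ℕ, ∀ a ∈ σ.support, (σ ^ k) a = (g ^ k) a := by
      intro k a ha
      induction k with
      | zero => simp
      | succ k ih =>
        rw [pow_succ', pow_succ', Equiv.Perm.mul_apply, Equiv.Perm.mul_apply, ← ih]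
        exact (Equiv.Perm.mem_cycleFactorsFinset_iff.1 hσ').2 _ (Equiv.Perm.pow_apply_mem_support.2 ha)
    have h4 : σ ^ 4 = 1 := by
      refine Equiv.ext fun a => ?_
      by_cases ha : a ∈ σ.support
      · rw [hpow 4 a ha, h]
      · exact Equiv.Perm.pow_apply_eq_self_of_apply_eq_self (Equiv.Perm.notMem_support.1 ha) 4
    refine orderOf_eq_prime_pow (p := 2) (n := 1) ?_ h4
    rw [pow_one]
    intro h2
    obtain ⟨a, ha⟩ := Finset.card_pos.1 (Nat.lt_of_lt_of_le (by norm_num) hcyc.two_le_card_support)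
    have hga : g a ≠ a := by
      rw [← (Equiv.Perm.mem_cycleFactorsFinset_iff.1 hσ').2 a ha]
      exact Equiv.Perm.mem_support.1 ha
    exact hfree a hga (by rw [← hpow 2 a ha, h2, Equiv.Perm.one_apply])
  have hrep : g.cycleType = Multiset.replicate (Multiset.card g.cycleType) 4 :=
    Multiset.eq_replicate_card.2 hall
  have hsum := Equiv.Perm.sum_cycleType g
  rw [hrep, Multiset.sum_replicate, smul_eq_mul, hs] at hsum
  have h2 : Multiset.card g.cycleType = 2 := by omega
  rw [Equiv.Perm.sign_of_cycleType, hrep, h2]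
  decide

end Perms

variable {M : Type*} [Group M] [Finite M] {A : Subgroup M} [hAn : A.Normal] [IsSimpleGroup A]
  (hA : Nat.card A = 360) (hC : centralizer (A : Set M) = ⊥) (hM : Nat.card M ∣ 1440)

include hA hC hM

/-- An element centralising an element of order five and keeping one of its orbits is one of its powers. -/
theorem mem_zpowers_of_orbit [Fact (Nat.Prime 3)] {x : A} (hx : orderOf x = 5) {y : M} (hy : Commute y (x : M))
    {P : Sylow 3 A} (hP : sylHom A 3 y P ∈ orbitSet (x : M) P) : y ∈ zpowers (x : M) := by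
  haveI : Fact (Nat.Prime 5) := ⟨by norm_num⟩
  have hx5 : Nat.card (zpowers (x : M)) = 5 := by rw [Nat.card_zpowers, Subgroup.orderOf_coe, hx]
  have hnot : ¬ 25 ∣ Nat.card M := fun h => absurd (h.trans hM) (by norm_num)
  have hfac : (Nat.card M).factorization 5 = 1 := by
    have h0 : Nat.card M ≠ 0 := Nat.card_pos.ne'
    refine le_antisymm ?_ ?_
    · by_contra hlt
      exact hnot ((show (25 : ℕ) = 5 ^ 2 by norm_num) ▸ (Nat.Prime.pow_dvd_iff_le_factorization (by norm_num) h0).2 (by omega))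
    · refine (Nat.Prime.pow_dvd_iff_le_factorization (by norm_num) h0).1 ?_
      rw [pow_one, ← hx5]
      exact Subgroup.card_subgroup_dvd_card _
  let S : Sylow 5 M := Sylow.ofCard (zpowers (x : M)) (by rw [hx5, hfac, pow_one])
  have hyp : IsPGroup 5 (zpowers y) := by
    have h25 := pow_twenty_five hA hC hx hy hP
    obtain ⟨k, -, hk⟩ := (Nat.dvd_prime_pow (by norm_num : Nat.Prime 5)).1
      (show orderOf y ∣ 5 ^ 2 from orderOf_dvd_of_pow_eq_one h25)
    exact IsPGroup.of_card (n := k) (by rw [Nat.card_zpowers, hk])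
  have hnorm : y ∈ normalizer ((S : Subgroup M) : Set M) := by
    refine Subgroup.centralizer_le_normalizer _ ?_
    rw [Subgroup.mem_centralizer_iff]
    rintro _ ⟨k, rfl⟩
    exact ((hy.zpow_right k).eq).symm
  have h := Subgroup.mem_inf.1 ((hyp.inf_normalizer_sylow S).le ⟨mem_zpowers y, hnorm⟩)
  exact h.2

/-- An element centralising an element of order five, not a power of it, gives an involution doing so, which is
odd on the Sylow 3-subgroups. -/
theorem exists_odd_involution [Fact (Nat.Prime 3)] [Fintype (Sylow 3 A)] [DecidableEq (Sylow 3 A)] {x : A}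
    (hx : orderOf x = 5) {y : M} (hy : Commute y (x : M)) (hyX : y ∉ zpowers (x : M)) :
    ∃ c : M, c ^ 2 = 1 ∧ Commute c (x : M) ∧ Equiv.Perm.sign (sylHom A 3 c) = -1 ∧ y⁻¹ * c ∈ zpowers (x : M) := by
  obtain ⟨P⟩ : Nonempty (Sylow 3 A) := inferInstance
  have hout : ∀ {z : M}, Commute z (x : M) → z ∉ zpowers (x : M) → ∀ Q, sylHom A 3 z Q ∉ orbitSet (x : M) Q :=
    fun hz hzX Q h => hzX (mem_zpowers_of_orbit hA hC hM hx hz h)
  have hy2 : y ^ 2 ∈ zpowers (x : M) := by
    refine mem_zpowers_of_orbit hA hC hM hx (hy.pow_left 2) (P := P) ?_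
    have h1 := hout hy hyX P
    have h := Set.mem_univ (sylHom A 3 (y ^ 2) P)
    rw [← orbit_union hA hC hx h1] at h
    refine h.resolve_right fun h' => h1 ?_
    obtain ⟨i, hi⟩ := h'
    refine ⟨i, (sylHom A 3 y).injective ?_⟩
    rw [comm_apply hA hC hy, hi, map_pow, pow_two, Equiv.Perm.mul_apply]
  have h4 : y ^ 4 ∈ zpowers (x : M) := by
    rw [show y ^ 4 = y ^ 2 * y ^ 2 by rw [← pow_add]]
    exact mul_mem hy2 hy2
  refine ⟨y ^ 5, ?_, hy.pow_left 5, ?_, ?_⟩
  · rw [← pow_mul, show 5 * 2 = 2 * 5 by norm_num, pow_mul]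
    obtain ⟨k, hk⟩ := hy2
    simp only at hk
    rw [← hk, ← zpow_natCast, ← zpow_mul, mul_comm, zpow_mul, zpow_natCast, ← Subgroup.coe_pow, ← hx,
      pow_orderOf_eq_one, Subgroup.coe_one, one_zpow]
  · have hc5 : y ^ 5 ∉ zpowers (x : M) := fun h => hyX (by
      have := mul_mem (inv_mem h4) h
      rwa [show (y ^ 4)⁻¹ * y ^ 5 = y by group] at this)
    have hfree : ∀ Q, sylHom A 3 (y ^ 5) Q ≠ Q := fun Q h => hout (hy.pow_left 5) hc5 Q (by
      rw [h]; exact self_mem_orbit hA hC hx Q)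
    refine sign_involution ?_ ?_
    · rw [← map_pow]
      obtain ⟨k, hk⟩ := hy2
      simp only at hk
      rw [← pow_mul, show 5 * 2 = 2 * 5 by norm_num, pow_mul, ← hk, ← zpow_natCast, ← zpow_mul, mul_comm, zpow_mul,
        zpow_natCast, ← Subgroup.coe_pow, ← hx, pow_orderOf_eq_one, Subgroup.coe_one, one_zpow, map_one]
    · rw [Finset.eq_univ_of_forall (fun Q => Equiv.Perm.mem_support.2 (hfree Q)), Finset.card_univ,
        ← Nat.card_eq_fintype_card, CfsgLib.TwoGroups.OrderThreeSixty.card_sylow_three hA]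
  · rw [show y⁻¹ * y ^ 5 = y ^ 4 by group]
    exact h4

omit hM in
theorem sign_of_mem [Fintype (Sylow 3 A)] [DecidableEq (Sylow 3 A)] (a : A) :
    Equiv.Perm.sign (sylHom A 3 (a : M)) = 1 := by
  let χ : A →* ℤˣ := Equiv.Perm.sign.comp ((sylHom A 3).comp A.subtype)
  rcases (inferInstance : χ.ker.Normal).eq_bot_or_eq_top with h | h
  · have := Nat.card_le_card_of_injective χ ((MonoidHom.ker_eq_bot_iff χ).1 h)
    rw [hA, Nat.card_eq_fintype_card, Fintype.card_units_int] at this
    omega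
  · exact MonoidHom.mem_ker.1 (h ▸ Subgroup.mem_top a : a ∈ χ.ker)

variable (hfus : ∀ x : A, orderOf x = 5 → ∀ m : M, m * (x : M) * m⁻¹ ≠ (x : M) ^ 2)

include hfus

omit hC hM in
theorem conj_cases {x : A} (hx : orderOf x = 5) {n : M} (hn : n * (x : M) * n⁻¹ ∈ zpowers (x : M)) :
    n * (x : M) * n⁻¹ = (x : M) ∨ n * (x : M) * n⁻¹ = (x : M) ^ 4 := by
  classical
  have h5 : (x : M) ^ 5 = 1 := by rw [← Subgroup.coe_pow, ← hx, pow_orderOf_eq_one, Subgroup.coe_one]
  have ho : orderOf (x : M) = 5 := by rw [Subgroup.orderOf_coe, hx]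
  rw [← (IsOfFinOrder.mem_powers_iff_mem_zpowers (isOfFinOrder_of_finite _)),
    (isOfFinOrder_of_finite (x : M)).mem_powers_iff_mem_range_orderOf, ho, Finset.mem_image] at hn
  obtain ⟨k, hk, e⟩ := hn
  rw [Finset.mem_range] at hk
  interval_cases k
  · exfalso
    rw [pow_zero] at e
    have h1 : (x : M) = 1 := by
      have := congrArg (fun z => n⁻¹ * z * n) e.symm
      simpa [mul_assoc] using this
    rw [h1, orderOf_one] at ho
    norm_num at ho
  · exact Or.inl (by rw [← e, pow_one])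
  · exact absurd e.symm (hfus x hx n)
  · exfalso
    refine hfus x hx (n * n * n) ?_
    have hc : ∀ j : ℕ, n * (x : M) ^ j * n⁻¹ = ((x : M) ^ 3) ^ j := fun j => by
      rw [← conj_pow, ← e]
    rw [show n * n * n * (x : M) * (n * n * n)⁻¹ = n * (n * (n * (x : M) * n⁻¹) * n⁻¹) * n⁻¹ by group, ← e, hc,
      ← pow_mul, hc, ← pow_mul, show 3 * (3 * 3) = 5 * 5 + 2 by norm_num, pow_add, pow_mul, h5, one_pow, one_mul]
  · exact Or.inr e.symm

/-- Outside the socle only one coset, with an involution centralising the element of order five. -/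
theorem exists_twist [Fact (Nat.Prime 3)] [Fintype (Sylow 3 A)] [DecidableEq (Sylow 3 A)] {x : A}
    (hx : orderOf x = 5) {m : M} (hm : m ∉ A) :
    ∃ c : M, c ^ 2 = 1 ∧ Commute c (x : M) ∧ Equiv.Perm.sign (sylHom A 3 c) = -1 ∧ m * c⁻¹ ∈ A := by
  haveI : Fact (Nat.Prime 5) := ⟨by norm_num⟩
  have h5A : ∀ P : Sylow 5 A, Nat.card (P : Subgroup A) = 5 := fun P => by
    rw [P.card_eq_multiplicity, hA, show (360 : ℕ) = 5 * 72 by norm_num,
      Nat.factorization_mul (by norm_num) (by norm_num), Nat.Prime.factorization (by norm_num),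
      Finsupp.add_apply, Finsupp.single_eq_same, Nat.factorization_eq_zero_of_not_dvd (by norm_num)]
    norm_num
  have hxo : orderOf (x : M) = 5 := by rw [Subgroup.orderOf_coe, hx]
  obtain ⟨P, hP⟩ := (IsPGroup.of_card (p := 5) (n := 1) (G := zpowers x) (by
    rw [Nat.card_zpowers, hx, pow_one])).exists_le_sylow
  have hPx : zpowers x = (P : Subgroup A) := Subgroup.eq_of_le_of_card_ge hP (by rw [h5A, Nat.card_zpowers, hx])
  have hmap : (P : Subgroup A).map A.subtype = zpowers (x : M) := by rw [← hPx, MonoidHom.map_zpowers]; rfl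
  have hsup := Sylow.normalizer_sup_eq_top P
  rw [hmap] at hsup
  obtain ⟨n, hn, a, ha, rfl⟩ := Subgroup.mem_sup_of_normal_right.1
    (show m ∈ normalizer (zpowers (x : M) : Set M) ⊔ A by rw [hsup]; exact Subgroup.mem_top m)
  have hnA : n ∉ A := fun h => hm (A.mul_mem h ha)
  have hnx : n * (x : M) * n⁻¹ ∈ zpowers (x : M) := (Subgroup.mem_normalizer_iff.1 hn _).1 (mem_zpowers _)
  obtain ⟨w, hw, hwx⟩ := exists_normalising hA hx
  have hw4 : (w : M) * (x : M) * (w : M)⁻¹ = (x : M) ^ 4 := by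
    have hwx' : (w : M) * (x : M) * (w : M)⁻¹ ∈ zpowers (x : M) := by
      obtain ⟨k, hk⟩ := hwx
      exact ⟨k, by simpa using congrArg (Subtype.val (p := (· ∈ A))) hk⟩
    refine (conj_cases hA hfus hx hwx').resolve_left fun h => hw (Subtype.ext ?_)
    rw [mul_inv_eq_iff_eq_mul] at h
    exact h
  obtain ⟨y, hy, hyA, hny⟩ : ∃ y : M, Commute y (x : M) ∧ y ∉ A ∧ n * y⁻¹ ∈ A := by
    rcases conj_cases hA hfus hx hnx with h | h
    · exact ⟨n, mul_inv_eq_iff_eq_mul.1 h, hnA, by simp⟩
    · refine ⟨(w : M)⁻¹ * n, ?_, fun hmem => hnA ?_, ?_⟩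
      · refine mul_inv_eq_iff_eq_mul.1 ?_
        rw [show (w : M)⁻¹ * n * (x : M) * ((w : M)⁻¹ * n)⁻¹ = (w : M)⁻¹ * (n * (x : M) * n⁻¹) * (w : M) by group,
          h, ← hw4]
        group
      · have := A.mul_mem w.2 hmem
        rwa [mul_inv_cancel_left] at this
      · rw [show n * ((w : M)⁻¹ * n)⁻¹ = (w : M) by group]
        exact w.2
  have hXA : zpowers (x : M) ≤ A := zpowers_le.2 x.2
  obtain ⟨c, hc2, hcx, hcs, hyc⟩ := exists_odd_involution hA hC hM hx hy fun h => hyA (hXA h)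
  refine ⟨c, hc2, hcx, hcs, ?_⟩
  rw [show n * a * c⁻¹ = (n * y⁻¹) * (y * a * y⁻¹) * (y * c⁻¹) by group]
  refine A.mul_mem (A.mul_mem hny (hAn.conj_mem a ha y)) ?_
  rw [show y * c⁻¹ = y * (y⁻¹ * c)⁻¹ * y⁻¹ by group]
  exact hAn.conj_mem _ (A.inv_mem (hXA hyc)) y

/-- The socle has index at most two. -/
theorem card_dvd_720 : Nat.card M ∣ 720 := by
  classical
  haveI : Fact (Nat.Prime 3) := ⟨by norm_num⟩
  haveI : Fact (Nat.Prime 5) := ⟨by norm_num⟩
  haveI := Fintype.ofFinite (Sylow 3 A)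
  obtain ⟨x, hx⟩ := exists_prime_orderOf_dvd_card' (G := A) 5 (by rw [hA]; norm_num)
  let χ : M →* ℤˣ := Equiv.Perm.sign.comp (sylHom A 3)
  have hker : χ.ker = A := by
    refine le_antisymm (fun m hm => ?_) fun a ha => MonoidHom.mem_ker.2 (sign_of_mem hA hC ⟨a, ha⟩)
    by_contra hmA
    obtain ⟨c, -, -, hcs, hmc⟩ := exists_twist hA hC hM hfus hx hmA
    have h1 : χ (m * c⁻¹) = 1 := sign_of_mem hA hC ⟨_, hmc⟩
    rw [map_mul, MonoidHom.mem_ker.1 hm, map_inv, show χ c = -1 from hcs] at h1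
    exact absurd h1 (by decide)
  have h := A.card_mul_index
  rw [hA] at h
  rw [← h]
  refine Nat.mul_dvd_mul_left 360 (?_ : A.index ∣ 2)
  rw [← hker, Subgroup.index_ker]
  refine (Subgroup.card_subgroup_dvd_card _).trans ?_
  rw [Nat.card_eq_fintype_card, Fintype.card_units_int]

/-- An element of order four fixing a Sylow 3-subgroup of the socle lies in the socle. -/
theorem mem_of_four [Fact (Nat.Prime 3)] {g : M} (hg : orderOf g = 4) {P : Sylow 3 A}
    (hP : sylHom A 3 g P = P) : g ∈ A := by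
  classical
  haveI : Fact (Nat.Prime 5) := ⟨by norm_num⟩
  haveI := Fintype.ofFinite (Sylow 3 A)
  obtain ⟨x, hx⟩ := exists_prime_orderOf_dvd_card' (G := A) 5 (by rw [hA]; norm_num)
  by_contra hgA
  obtain ⟨c, hc2, -, hcs, hgc⟩ := exists_twist hA hC hM hfus hx hgA
  have hsign : Equiv.Perm.sign (sylHom A 3 g) = -1 := by
    have h1 : Equiv.Perm.sign (sylHom A 3 (g * c⁻¹)) = 1 := sign_of_mem hA hC ⟨_, hgc⟩
    rw [map_mul, map_mul, map_inv, map_inv, hcs] at h1
    calc Equiv.Perm.sign (sylHom A 3 g) = Equiv.Perm.sign (sylHom A 3 g) * (-1)⁻¹ * (-1) := by group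
      _ = -1 := by rw [h1, one_mul]
  have hg2A : g ^ 2 ∈ A := by
    have hsq : Equiv.Perm.sign (sylHom A 3 (g ^ 2)) = 1 := by
      rw [map_pow, map_pow, hsign]; decide
    by_contra hno
    obtain ⟨d, -, -, hds, hd⟩ := exists_twist hA hC hM hfus hx hno
    have h1 : Equiv.Perm.sign (sylHom A 3 (g ^ 2 * d⁻¹)) = 1 := sign_of_mem hA hC ⟨_, hd⟩
    rw [map_mul, map_mul, map_inv, map_inv, hds, hsq] at h1
    exact absurd h1 (by decide)
  set σ := sylHom A 3 g with hσ
  have hσ4 : σ ^ 4 = 1 := by rw [hσ, ← map_pow, ← hg, pow_orderOf_eq_one, map_one]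
  have hτ : σ ^ 2 ≠ 1 := by
    rw [hσ, ← map_pow]
    intro h
    have := sylHom_injective A (by rw [CfsgLib.TwoGroups.OrderThreeSixty.card_sylow_three hA]; norm_num) hC
      (h.trans (map_one _).symm)
    exact absurd (orderOf_dvd_of_pow_eq_one this) (by rw [hg]; norm_num)
  set F : Finset (Sylow 3 A) := Finset.univ.filter fun Q => (σ ^ 2) Q = Q with hF
  have hPF : P ∈ F := by
    simp [hF, pow_two, hP]
  have hFc : F = (σ ^ 2).supportᶜ := by
    ext Q; simp [hF, Equiv.Perm.mem_support]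
  have hFle : F.card ≤ 2 := by
    by_contra hlt
    obtain ⟨a, ha, b, hb, d, hd, hab, had, hbd⟩ := Finset.two_lt_card.1 (by omega : 2 < F.card)
    simp only [hF, Finset.mem_filter, Finset.mem_univ, true_and, hσ, ← map_pow] at ha hb hd
    rw [show g ^ 2 = ((⟨_, hg2A⟩ : A) : M) from rfl, sylHom_coe_apply] at ha hb hd
    have := CfsgLib.TwoGroups.OrderThreeSixty.eq_one_of_three hA hab hbd had ha hb hd
    refine hτ ?_
    rw [hσ, ← map_pow, show g ^ 2 = ((⟨_, hg2A⟩ : A) : M) from rfl, this, Subgroup.coe_one, map_one]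
  have h10 : Fintype.card (Sylow 3 A) = 10 := by
    rw [← Nat.card_eq_fintype_card, CfsgLib.TwoGroups.OrderThreeSixty.card_sylow_three hA]
  have hF2 : F.card = 2 := by
    have hev : 2 ∣ (σ ^ 2).support.card := two_dvd_card_support (by rw [← pow_mul]; exact hσ4)
    have hc : F.card = 10 - (σ ^ 2).support.card := by rw [hFc, Finset.card_compl, h10]
    have hpos : 0 < F.card := Finset.card_pos.2 ⟨P, hPF⟩
    omega
  have hfree : ∀ a, σ a ≠ a → (σ ^ 2) a ≠ a := by
    intro a ha ha2
    have haF : a ∈ F := by simp [hF, ha2]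
    have hσaF : σ a ∈ F := by
      simp only [hF, Finset.mem_filter, Finset.mem_univ, true_and]
      rw [← Equiv.Perm.mul_apply, ← pow_succ, pow_succ', Equiv.Perm.mul_apply, ha2]
    have hne : a ≠ P := fun e => ha (e ▸ hP)
    have hne' : σ a ≠ P := fun e => hne (σ.injective (e.trans hP.symm))
    have h3 : ({P, a, σ a} : Finset (Sylow 3 A)).card = 3 := by
      rw [Finset.card_insert_of_notMem (by simp [hne.symm, hne'.symm]), Finset.card_pair (Ne.symm ha)]
    have := Finset.card_le_card (show ({P, a, σ a} : Finset (Sylow 3 A)) ⊆ F by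
      intro z hz
      simp at hz
      rcases hz with rfl | rfl | rfl
      exacts [hPF, haF, hσaF])
    omega
  have hsupp : σ.support = (σ ^ 2).support := by
    ext a
    simp only [Equiv.Perm.mem_support]
    exact ⟨hfree a, fun h e => h (Equiv.Perm.pow_apply_eq_self_of_apply_eq_self e 2)⟩
  have h8 : σ.support.card = 8 := by
    have hc : F.card = 10 - (σ ^ 2).support.card := by rw [hFc, Finset.card_compl, h10]
    rw [hsupp]
    omega
  have := sign_four hσ4 hfree h8
  rw [hsign] at this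
  exact absurd this (by decide)

/-- With no involution centralising an element of order five the socle is everything. -/
theorem eq_top_of_no_involution
    (hcom : ∀ x : A, orderOf x = 5 → ∀ c : M, c ^ 2 = 1 → Commute c (x : M) → c = 1) : A = ⊤ := by
  classical
  haveI : Fact (Nat.Prime 3) := ⟨by norm_num⟩
  haveI : Fact (Nat.Prime 5) := ⟨by norm_num⟩
  haveI := Fintype.ofFinite (Sylow 3 A)
  obtain ⟨x, hx⟩ := exists_prime_orderOf_dvd_card' (G := A) 5 (by rw [hA]; norm_num)
  refine eq_top_iff.2 fun m _ => ?_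
  by_contra hm
  obtain ⟨c, hc2, hcx, hcs, -⟩ := exists_twist hA hC hM hfus hx hm
  rw [hcom x hx c hc2 hcx, map_one, map_one] at hcs
  exact absurd hcs (by decide)

end CfsgLib.Geo.SL3.Maximal
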