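/-
Residual subgroups of SL(3): bounds on the order from the socle.
-/
import Cfsg.Agent.Lib.Geo.SL3.Maximal.SocleSix
import Cfsg.Agent.Lib.Classical.LinearOrder
import Cfsg.Agent.Lib.ClassSizes.AlternatingAut
import Cfsg.Prelude.Def_GeometricClasses

set_option autoImplicit false

namespace CfsgLib.Geo.SL3.Maximal

open Matrix Cfsg.Geo

variable {F : Type*} [Field F]

local notation "M3" => Matrix (Fin 3) (Fin 3) F

/-- The second coefficient of the characteristic polynomial. -/
def mid (A : M3) : F :=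
  A 0 0 * A 1 1 - A 0 1 * A 1 0 + (A 0 0 * A 2 2 - A 0 2 * A 2 0) + (A 1 1 * A 2 2 - A 1 2 * A 2 1)

theorem cayley (A : M3) : A ^ 3 = A.trace • A ^ 2 - mid A • A + A.det • (1 : M3) := by
  rw [pow_succ, pow_two]
  ext i j
  fin_cases i <;> fin_cases j <;>
    simp [mid, Matrix.mul_apply, Fin.sum_univ_three, Matrix.trace_fin_three, Matrix.det_fin_three] <;> ring

theorem trace_sq (A : M3) : (A ^ 2).trace = A.trace ^ 2 - 2 * mid A := by
  simp [pow_two, mid, Matrix.mul_apply, Fin.sum_univ_three, Matrix.trace_fin_three]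
  ring

/-- An element of order five is not conjugate to its square outside characteristic five. -/
theorem eq_one_of_conj_sq (h5 : (5 : F) ≠ 0) {x g : GL (Fin 3) F} (hx : x ^ 5 = 1)
    (hdet : (x : M3).det = 1) (hg : g * x * g⁻¹ = x ^ 2) : x = 1 := by
  set A : M3 := (x : M3) with hA
  have hconj : ∀ k : ℕ, ((x ^ (2 * k) : GL (Fin 3) F) : M3).trace = ((x ^ k : GL (Fin 3) F) : M3).trace := by
    intro k
    rw [pow_mul, ← hg, conj_pow, Units.val_mul, Units.val_mul, Matrix.trace_units_conj]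
  have hA5 : A ^ 5 = 1 := by rw [hA, ← Units.val_pow_eq_pow_val, hx, Units.val_one]
  have h2 : (A ^ 2).trace = A.trace := by simpa using hconj 1
  have h4 : (A ^ 4).trace = A.trace := by
    have h := hconj 2
    simp at h
    rw [← hA] at h
    rw [h, h2]
  have hb : mid A = A.trace := by
    have h := cayley A
    rw [hdet, one_smul] at h
    have h1 := congrArg (fun X => (X * A ^ 4).trace) h
    simp only [add_mul, sub_mul, smul_mul_assoc, one_mul, Matrix.trace_add, Matrix.trace_sub, Matrix.trace_smul,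
      smul_eq_mul, ← pow_add, ← pow_succ'] at h1
    rw [show A ^ 7 = A ^ 2 by rw [show 7 = 5 + 2 by norm_num, pow_add, hA5, one_mul],
      show A ^ 6 = A by rw [show 6 = 5 + 1 by norm_num, pow_add, hA5, one_mul, pow_one], hA5] at h1
    rw [trace_sq, h4, Matrix.trace_one, Fintype.card_fin] at h1
    push_cast at h1
    linear_combination h1
  have h3 : A.trace * (A.trace - 3) = 0 := by
    have := trace_sq A
    rw [h2, hb] at this
    linear_combination -this
  apply Units.ext
  rw [Units.val_one, ← hA]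
  have hcay := cayley A
  rw [hdet, one_smul, hb] at hcay
  rcases mul_eq_zero.1 h3 with h0 | h0
  · rw [h0, zero_smul, zero_smul, sub_zero, zero_add] at hcay
    have h6 : A ^ 6 = 1 := by rw [show 6 = 3 * 2 by norm_num, pow_mul, hcay, one_pow]
    rw [pow_succ, hA5, one_mul] at h6
    exact h6
  · rw [sub_eq_zero.1 h0] at hcay
    set N : M3 := A - 1 with hN
    have hA' : A = 1 + N := by rw [hN]; abel
    have hN3 : N ^ 3 = 0 := by
      have h := hcay
      rw [hA'] at h
      simp only [pow_succ, pow_zero, one_mul, mul_add, add_mul, mul_one, smul_add] at h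
      simp only [pow_succ, pow_zero, one_mul]
      linear_combination (norm := module) h
    have hpow : ∀ k, 3 ≤ k → N ^ k = 0 := fun k hk => pow_eq_zero_of_le hk hN3
    have h := hA5
    rw [hA', (Commute.one_left N).add_pow] at h
    simp only [Finset.sum_range_succ, Finset.sum_range_zero, one_pow, one_mul, pow_zero, pow_one, zero_add] at h
    rw [hpow 3 le_rfl, hpow 4 (by norm_num), hpow 5 (by norm_num)] at h
    norm_num [Nat.choose] at h
    have h1 : (5 : F) • N + (10 : F) • N ^ 2 = 0 := by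
      rw [← sub_eq_zero.2 h, show (5 : F) = ((5 : ℕ) : F) by norm_num, show (10 : F) = ((10 : ℕ) : F) by norm_num,
        Nat.cast_smul_eq_nsmul, Nat.cast_smul_eq_nsmul, nsmul_eq_mul, nsmul_eq_mul]
      push_cast
      noncomm_ring
    have hN2 : N ^ 2 = 0 := by
      have := congrArg (fun X => X * N) h1
      simp only [add_mul, smul_mul_assoc, ← pow_succ, zero_mul, ← pow_two] at this
      rw [hN3, smul_zero, add_zero] at this
      exact (smul_eq_zero.1 this).resolve_left h5
    rw [hN2, smul_zero, add_zero] at h1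
    rw [hA', (smul_eq_zero.1 h1).resolve_left h5, add_zero]

/-- An involution commuting with an element of order five, in characteristic two, when the fifth roots of unity
are trivial. -/
theorem eq_one_of_commute (h2 : (2 : F) = 0) (hroot : ∀ l : F, l ^ 5 = 1 → l = 1) {x c : GL (Fin 3) F}
    (hx : x ^ 5 = 1) (hx1 : x ≠ 1) (hdet : (x : M3).det = 1) (hc : c ^ 2 = 1) (hcx : Commute c x) : c = 1 := by
  by_contra hc1
  set A : M3 := (x : M3) with hA
  set N : M3 := (c : M3) - 1 with hN
  have hA5 : A ^ 5 = 1 := by rw [hA, ← Units.val_pow_eq_pow_val, hx, Units.val_one]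
  have h2' : ∀ X : M3, X + X = 0 := fun X => by rw [← two_smul F X, h2, zero_smul]
  have hN0 : N ≠ 0 := fun h => hc1 (Units.ext (sub_eq_zero.1 h))
  have hNN : N * N = 0 := by
    have h : (c : M3) * (c : M3) = 1 := by rw [← Units.val_mul, ← pow_two, hc, Units.val_one]
    rw [hN, sub_mul, one_mul, mul_sub, h, mul_one]
    rw [show (1 : M3) - c - (c - 1) = (1 + 1) - (c + c) by abel, h2', h2', sub_zero]
  have hNA : N * A = A * N := by
    rw [hN, sub_mul, mul_sub, one_mul, mul_one, hA, ← Units.val_mul, ← Units.val_mul, hcx.eq]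
  set T := Matrix.toLin' N with hT
  have hTA : ∀ v, T (A *ᵥ v) = A *ᵥ T v := fun v => by
    simp only [hT, Matrix.toLin'_apply, Matrix.mulVec_mulVec, hNA]
  have hrk : Module.finrank F (LinearMap.range T) = 1 := by
    have hle : LinearMap.range T ≤ LinearMap.ker T := by
      rintro _ ⟨v, rfl⟩
      rw [LinearMap.mem_ker, hT, Matrix.toLin'_apply, Matrix.toLin'_apply, Matrix.mulVec_mulVec, hNN,
        Matrix.zero_mulVec]
    have h1 := Submodule.finrank_mono hle
    have h3 := LinearMap.finrank_range_add_finrank_ker T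
    rw [Module.finrank_fin_fun] at h3
    have h4 : Module.finrank F (LinearMap.range T) ≠ 0 := fun h => hN0 (by
      rw [Submodule.finrank_eq_zero, LinearMap.range_eq_bot] at h
      exact Matrix.toLin'.injective (h.trans (map_zero _).symm))
    omega
  obtain ⟨⟨u, w, hu⟩, hu0, hgen⟩ := finrank_eq_one_iff'.1 hrk
  have hu0' : u ≠ 0 := fun h => hu0 (Subtype.ext h)
  have hfix : A *ᵥ u = u := by
    obtain ⟨l, hl⟩ := hgen ⟨A *ᵥ u, A *ᵥ w, by rw [hTA, hu]⟩
    have hl' : l • u = A *ᵥ u := congrArg Subtype.val hl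
    have hk : ∀ k : ℕ, (A ^ k) *ᵥ u = l ^ k • u := fun k => by
      induction k with
      | zero => simp
      | succ k ih => rw [pow_succ', ← Matrix.mulVec_mulVec, ih, Matrix.mulVec_smul, ← hl', smul_smul, pow_succ]
    have h5 := hk 5
    rw [hA5, Matrix.one_mulVec] at h5
    have hl5 : l ^ 5 = 1 := by
      have := sub_eq_zero.2 h5.symm
      rw [show l ^ 5 • u - u = (l ^ 5 - 1) • u by rw [sub_smul, one_smul], smul_eq_zero] at this
      exact sub_eq_zero.1 (this.resolve_right hu0')
    rw [← hl', hroot l hl5, one_smul]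
  set S := Matrix.toLin' (A - 1) with hS
  have hsub : LinearMap.range S ≤ LinearMap.ker T := by
    rintro _ ⟨v, rfl⟩
    rw [LinearMap.mem_ker, hS, Matrix.toLin'_apply (A - 1), Matrix.sub_mulVec, Matrix.one_mulVec, map_sub, hTA]
    obtain ⟨l, hl⟩ := hgen ⟨T v, v, rfl⟩
    have hl' : l • u = T v := congrArg Subtype.val hl
    rw [← hl', Matrix.mulVec_smul, hfix, sub_self]
  have hne : A - 1 ≠ 0 := fun h => hx1 (Units.ext (sub_eq_zero.1 h))
  have hS2 : 2 ≤ Module.finrank F (LinearMap.range S) := by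
    by_contra hlt
    have h4 : Module.finrank F (LinearMap.range S) ≠ 0 := fun h => hne (by
      rw [Submodule.finrank_eq_zero, LinearMap.range_eq_bot] at h
      exact Matrix.toLin'.injective (h.trans (map_zero _).symm))
    obtain ⟨⟨s, z, hz⟩, -, hg⟩ := finrank_eq_one_iff'.1 (show Module.finrank F (LinearMap.range S) = 1 by omega)
    choose ψ hψ using fun j : Fin 3 => hg ⟨S (Pi.single j 1), ⟨_, rfl⟩⟩
    have hrep : A - 1 = Matrix.vecMulVec s ψ := by
      ext i j
      have h1 := congrFun (congrArg Subtype.val (hψ j)) i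
      simp only [hS, Matrix.toLin'_apply, Matrix.mulVec_single_one, SetLike.val_smul, Pi.smul_apply, smul_eq_mul,
        Matrix.col_apply] at h1
      rw [Matrix.vecMulVec_apply, mul_comm, h1]
    have hdot : ψ ⬝ᵥ s = 0 := by
      have hd := hdet
      rw [show A = 1 + Matrix.vecMulVec s ψ by rw [← hrep]; abel, Matrix.vecMulVec_eq (Fin 1),
        Matrix.det_one_add_replicateCol_mul_replicateRow] at hd
      simpa using hd
    have hA2 : A ^ 2 = 1 := by
      rw [show A = 1 + Matrix.vecMulVec s ψ by rw [← hrep]; abel, pow_two, mul_add, add_mul, add_mul, one_mul,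
        one_mul, mul_one, Matrix.vecMulVec_mul_vecMulVec, hdot, zero_smul, Matrix.vecMulVec_zero, add_zero,
        add_assoc, h2', add_zero]
    refine hne (sub_eq_zero.2 ?_)
    calc A = A * (A ^ 2) ^ 2 := by rw [hA2, one_pow, mul_one]
      _ = A ^ 5 := by rw [← pow_mul, ← pow_succ']
      _ = 1 := hA5
  have hker : LinearMap.range S = LinearMap.ker T := by
    refine Submodule.eq_of_le_of_finrank_le hsub ?_
    have h3 := LinearMap.finrank_range_add_finrank_ker T
    rw [Module.finrank_fin_fun, hrk] at h3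
    omega
  obtain ⟨v, hv⟩ : u ∈ LinearMap.range S := by
    rw [hker, LinearMap.mem_ker, ← hu, hT, Matrix.toLin'_apply, Matrix.toLin'_apply, Matrix.mulVec_mulVec, hNN,
      Matrix.zero_mulVec]
  rw [hS, Matrix.toLin'_apply, Matrix.sub_mulVec, Matrix.one_mulVec, sub_eq_iff_eq_add] at hv
  have hk : ∀ k : ℕ, (A ^ k) *ᵥ v = (k : F) • u + v := fun k => by
    induction k with
    | zero => simp
    | succ k ih =>
      rw [pow_succ', ← Matrix.mulVec_mulVec, ih, Matrix.mulVec_add, Matrix.mulVec_smul, hfix, hv, Nat.cast_succ,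
        add_smul, one_smul]
      abel
  have h5 := hk 5
  rw [hA5, Matrix.one_mulVec, show ((5 : ℕ) : F) = 1 by
    rw [show ((5 : ℕ) : F) = 2 * 2 + 1 by norm_num, h2]; ring, one_smul] at h5
  exact hu0' (by simpa using h5.symm)

theorem det_one_of_mem {g : GL (Fin 3) F} (hg : g ∈ specialLinear (Fin 3) F) : (g : M3).det = 1 :=
  congrArg Units.val (show Matrix.GeneralLinearGroup.det g = 1 from hg)

/-- A scalar of determinant one has cube one. -/
theorem scalar_cube {z : GL (Fin 3) F} (hz : z ∈ scalars (Fin 3) F) (hs : z ∈ specialLinear (Fin 3) F) :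
    z ^ 3 = 1 := by
  obtain ⟨c, hc⟩ := (mem_scalars_iff z).1 hz
  have h := det_one_of_mem hs
  rw [hc, Matrix.det_smul, Matrix.det_one, mul_one, Fintype.card_fin] at h
  apply Units.ext
  rw [Units.val_pow_eq_pow_val, hc, smul_pow, one_pow, h, one_smul, Units.val_one]

theorem card_scalars_dvd [Finite F] {M : Subgroup (GL (Fin 3) F)} (hM : M ≤ specialLinear (Fin 3) F) :
    Nat.card ((scalars (Fin 3) F).subgroupOf M) ∣ 3 := by
  classical
  haveI : IsCyclic Fˣ := inferInstance
  let φm : Fˣ →* GL (Fin 3) F := Units.map (Matrix.scalar (Fin 3) : F →+* M3).toMonoidHom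
  have hrange : φm.range = scalars (Fin 3) F := rfl
  have hle : scalars (Fin 3) F ⊓ M ≤ (powMonoidHom 3 : Fˣ →* Fˣ).ker.map φm := by
    rintro z ⟨hz, hzM⟩
    obtain ⟨c, rfl⟩ := hrange.ge hz
    refine ⟨c, ?_, rfl⟩
    have h := det_one_of_mem (hM hzM)
    simp [φm, Matrix.det_diagonal] at h
    rw [SetLike.mem_coe, MonoidHom.mem_ker, powMonoidHom_apply]
    exact Units.ext (by simpa using h)
  have hker : Nat.card (powMonoidHom 3 : Fˣ →* Fˣ).ker ∣ 3 := by
    rw [IsCyclic.card_powMonoidHom_ker]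
    exact Nat.gcd_dvd_right _ _
  rw [← Subgroup.inf_subgroupOf_right, Nat.card_congr (Subgroup.subgroupOfEquivOfLe inf_le_right).toEquiv]
  exact (Subgroup.card_dvd_of_le hle).trans
    ((Subgroup.card_map_dvd (powMonoidHom 3 : Fˣ →* Fˣ).ker φm).trans hker)

section Quotient

variable {M P : Subgroup (GL (Fin 3) F)}

/-- The image of the core in the quotient by scalars. -/
def socle (h : IsResidualCore M P) : Subgroup (M ⧸ (scalars (Fin 3) F).subgroupOf M) :=
  ((QuotientGroup.mk' ((scalars (Fin 3) F).subgroupOf M)).comp (Subgroup.inclusion h.le)).range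

theorem socle_normal (h : IsResidualCore M P) : (socle h).Normal := by
  refine ⟨?_⟩
  rintro _ ⟨x, rfl⟩ g
  obtain ⟨g, rfl⟩ := QuotientGroup.mk'_surjective _ g
  refine ⟨⟨(g : GL (Fin 3) F) * x * (g : GL (Fin 3) F)⁻¹, h.normal g g.2 x x.2⟩, ?_⟩
  simp only [MonoidHom.comp_apply, ← map_inv, ← map_mul]
  rfl

/-- The socle is the core modulo scalars. -/
noncomputable def socleEquiv (h : IsResidualCore M P) :
    P ⧸ (scalars (Fin 3) F).subgroupOf P ≃* socle h :=
  (QuotientGroup.quotientMulEquivOfEq (by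
    ext x
    rw [MonoidHom.mem_ker, MonoidHom.comp_apply, QuotientGroup.mk'_apply, QuotientGroup.eq_one_iff,
      Subgroup.mem_subgroupOf, Subgroup.mem_subgroupOf]
    rfl)).trans (QuotientGroup.quotientKerEquivRange
      ((QuotientGroup.mk' ((scalars (Fin 3) F).subgroupOf M)).comp (Subgroup.inclusion h.le)))

theorem centralizer_socle (h : IsResidualCore M P) :
    Subgroup.centralizer (socle h : Set (M ⧸ (scalars (Fin 3) F).subgroupOf M)) = ⊥ := by
  refine eq_bot_iff.2 fun z hz => ?_
  obtain ⟨g, rfl⟩ := QuotientGroup.mk'_surjective _ z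
  rw [Subgroup.mem_bot, QuotientGroup.mk'_apply, QuotientGroup.eq_one_iff, Subgroup.mem_subgroupOf]
  refine h.centralizer_scalar g g.2 fun x hx => ?_
  have h1 := Subgroup.mem_centralizer_iff.1 hz _ ⟨⟨x, hx⟩, rfl⟩
  simp only [MonoidHom.comp_apply, QuotientGroup.mk'_apply, ← QuotientGroup.mk_mul] at h1
  have h2 := QuotientGroup.eq.1 h1
  rw [Subgroup.mem_subgroupOf] at h2
  have h3 := (scalars_normal (ι := Fin 3) (F := F)).conj_mem _ h2 (x * (g : GL (Fin 3) F))
  simp only [Subgroup.coe_mul, InvMemClass.coe_inv, Subgroup.coe_inclusion] at h3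
  convert h3 using 1
  group

theorem card_dvd_three_mul [Finite F] (hM : M ≤ specialLinear (Fin 3) F) {k : ℕ}
    (hk : Nat.card (M ⧸ (scalars (Fin 3) F).subgroupOf M) ∣ k) : Nat.card M ∣ k * 3 := by
  rw [Subgroup.card_eq_card_quotient_mul_card_subgroup ((scalars (Fin 3) F).subgroupOf M)]
  exact Nat.mul_dvd_mul hk (card_scalars_dvd hM)

theorem card_psl_three_two : Nat.card (Matrix.ProjectiveSpecialLinearGroup (Fin 3) (ZMod 2)) = 168 := by
  have h1 := CfsgLib.Classical.card_SL (F := ZMod 2) 3 (by norm_num)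
  have h2 := CfsgLib.Classical.card_SL_eq_gcd_mul_card_PSL (F := ZMod 2) (ι := Fin 3)
  rw [ZMod.card] at h1 h2
  simp only [Fin.prod_univ_three, Fintype.card_fin] at h1 h2
  rw [show Nat.gcd 3 (2 - 1) = 1 by decide, one_mul] at h2
  rw [h2] at h1
  generalize Nat.card (Matrix.ProjectiveSpecialLinearGroup (Fin 3) (ZMod 2)) = k at h1 ⊢
  simpa using h1

theorem card_dvd_psl (h : IsResidualCore M P) [Finite F] (hM : M ≤ specialLinear (Fin 3) F)
    (e : Nonempty ((P ⧸ (scalars (Fin 3) F).subgroupOf P) ≃* Matrix.ProjectiveSpecialLinearGroup (Fin 3) (ZMod 2))) :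
    Nat.card M ∣ 1008 := by
  haveI := socle_normal h
  haveI : IsSimpleGroup (socle h) := by
    haveI := h.simple
    haveI : Nontrivial (socle h) := (socleEquiv h).symm.toEquiv.nontrivial
    exact IsSimpleGroup.isSimpleGroup_of_surjective (socleEquiv h).toMonoidHom (socleEquiv h).surjective
  obtain ⟨e⟩ := e
  have h168 : Nat.card (socle h) = 168 := by
    rw [← Nat.card_congr (socleEquiv h).toEquiv, Nat.card_congr e.toEquiv, card_psl_three_two]
  exact card_dvd_three_mul hM (card_dvd_of_168 (socle h) h168 (centralizer_socle h))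

theorem card_dvd_mulAut (h : IsResidualCore M P) [Finite F] {B : Type*} [Group B]
    (e : Nonempty ((P ⧸ (scalars (Fin 3) F).subgroupOf P) ≃* B)) :
    Nat.card (M ⧸ (scalars (Fin 3) F).subgroupOf M) ∣ Nat.card (MulAut B) := by
  haveI := socle_normal h
  obtain ⟨e⟩ := e
  let ψ : M ⧸ (scalars (Fin 3) F).subgroupOf M →* MulAut B :=
    (MulAut.congr ((socleEquiv h).symm.trans e)).toMonoidHom.comp MulAut.conjNormal
  refine Subgroup.card_dvd_of_injective ψ (Function.Injective.comp
    (g := (MulAut.congr ((socleEquiv h).symm.trans e)).toMonoidHom) (f := ⇑(MulAut.conjNormal (H := socle h)))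
    (MulEquiv.injective _) ?_)
  rw [← MonoidHom.ker_eq_bot_iff, eq_bot_iff, ← centralizer_socle h]
  intro z hz
  rw [Subgroup.mem_centralizer_iff]
  intro a ha
  have h1 := congrArg Subtype.val (MulEquiv.congr_fun (MonoidHom.mem_ker.1 hz) ⟨a, ha⟩)
  rw [MulAut.conjNormal_apply] at h1
  exact (mul_inv_eq_iff_eq_mul.1 h1).symm

theorem card_alt_six : Nat.card (alternatingGroup (Fin 6)) = 360 := by
  rw [nat_card_alternatingGroup]
  norm_num [Nat.factorial]

/-- The data of a residual group with socle of degree six away from characteristic five. -/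
structure SixData (M : Type*) [Group M] (A : Subgroup M) : Prop where
  normal : A.Normal
  simple : IsSimpleGroup A
  card : Nat.card A = 360
  centralizer : Subgroup.centralizer (A : Set M) = ⊥
  dvd : Nat.card M ∣ 1440
  fusion : ∀ x : A, orderOf x = 5 → ∀ m : M, m * (x : M) * m⁻¹ ≠ (x : M) ^ 2

/-- A lift of order five of an element of order five. -/
theorem exists_lift (hM : M ≤ specialLinear (Fin 3) F) {y : M ⧸ (scalars (Fin 3) F).subgroupOf M}
    (hy : y ^ 5 = 1) :
    ∃ g : M, (g : GL (Fin 3) F) ^ 5 = 1 ∧ (g : M ⧸ (scalars (Fin 3) F).subgroupOf M) = y := by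
  obtain ⟨g, rfl⟩ := QuotientGroup.mk'_surjective _ y
  rw [QuotientGroup.mk'_apply, ← QuotientGroup.mk_pow, QuotientGroup.eq_one_iff, Subgroup.mem_subgroupOf] at hy
  have h3 := scalar_cube hy (hM (g ^ 5 : M).2)
  refine ⟨g ^ 6, ?_, ?_⟩
  · rw [SubgroupClass.coe_pow] at h3
    rw [SubgroupClass.coe_pow, ← pow_mul, show 6 * 5 = 5 * 3 * 2 by norm_num, pow_mul, pow_mul, h3, one_pow]
  · rw [QuotientGroup.mk'_apply, QuotientGroup.eq, Subgroup.mem_subgroupOf]
    rw [show (g ^ 6)⁻¹ * g = (g ^ 5)⁻¹ by group]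
    simpa using hy

/-- A scalar factor between two elements of order five is trivial. -/
theorem eq_of_scalar_mul (hM : M ≤ specialLinear (Fin 3) F) {a b : M} (ha : (a : GL (Fin 3) F) ^ 5 = 1)
    (hb : (b : GL (Fin 3) F) ^ 5 = 1)
    (h : (a : M ⧸ (scalars (Fin 3) F).subgroupOf M) = (b : M ⧸ (scalars (Fin 3) F).subgroupOf M)) :
    (a : GL (Fin 3) F) = b := by
  have hz := Subgroup.mem_subgroupOf.1 (QuotientGroup.eq.1 h)
  have hcomm : Commute (a : GL (Fin 3) F) ((a⁻¹ * b : M) : GL (Fin 3) F) := by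
    obtain ⟨c, hc⟩ := (mem_scalars_iff _).1 hz
    exact Units.ext (by rw [Units.val_mul, Units.val_mul, hc]; simp)
  have h3 := scalar_cube hz (hM (a⁻¹ * b : M).2)
  have h5 : ((a⁻¹ * b : M) : GL (Fin 3) F) ^ 5 = 1 := by
    have := hcomm.mul_pow 5
    rw [Subgroup.coe_mul, InvMemClass.coe_inv, mul_inv_cancel_left, hb, ha, one_mul] at this
    rw [Subgroup.coe_mul, InvMemClass.coe_inv]
    exact this.symm
  have h1 : ((a⁻¹ * b : M) : GL (Fin 3) F) = 1 :=
    orderOf_eq_one_iff.1 (Nat.eq_one_of_dvd_coprimes (show Nat.Coprime 3 5 by norm_num)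
      (orderOf_dvd_of_pow_eq_one h3) (orderOf_dvd_of_pow_eq_one h5))
  rw [Subgroup.coe_mul, InvMemClass.coe_inv] at h1
  exact inv_mul_eq_one.1 h1

theorem sixData (h : IsResidualCore M P) [Finite F] (hM : M ≤ specialLinear (Fin 3) F) (h5 : (5 : F) ≠ 0)
    (e : Nonempty ((P ⧸ (scalars (Fin 3) F).subgroupOf P) ≃* alternatingGroup (Fin 6))) :
    SixData (M ⧸ (scalars (Fin 3) F).subgroupOf M) (socle h) where
  normal := socle_normal h
  simple := by
    haveI := h.simple
    haveI : Nontrivial (socle h) := (socleEquiv h).symm.toEquiv.nontrivial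
    exact IsSimpleGroup.isSimpleGroup_of_surjective (socleEquiv h).toMonoidHom (socleEquiv h).surjective
  card := by
    obtain ⟨e⟩ := e
    rw [← Nat.card_congr (socleEquiv h).toEquiv, Nat.card_congr e.toEquiv, card_alt_six]
  centralizer := centralizer_socle h
  dvd := (card_dvd_mulAut h e).trans
    (by simpa [Nat.factorial] using CfsgLib.ClassSizes.AlternatingAut.card_mulAut_six (α := Fin 6) (Fintype.card_fin 6))
  fusion := by
    intro x hx m hm
    obtain ⟨g, hg5, hgy⟩ := exists_lift hM (y := (x : M ⧸ (scalars (Fin 3) F).subgroupOf M)) (by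
      rw [← Subgroup.coe_pow, ← hx, pow_orderOf_eq_one, Subgroup.coe_one])
    obtain ⟨n, rfl⟩ := QuotientGroup.mk'_surjective _ m
    rw [← hgy, QuotientGroup.mk'_apply, ← QuotientGroup.mk_mul, ← QuotientGroup.mk_inv, ← QuotientGroup.mk_mul,
      ← QuotientGroup.mk_pow] at hm
    have heq := eq_of_scalar_mul hM (a := n * g * n⁻¹) (b := g ^ 2)
      (by rw [Subgroup.coe_mul, Subgroup.coe_mul, InvMemClass.coe_inv, conj_pow, hg5, mul_one, mul_inv_cancel])
      (by rw [Subgroup.coe_pow, ← pow_mul, mul_comm, pow_mul, hg5, one_pow]) hm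
    have h1 : (g : GL (Fin 3) F) = 1 := eq_one_of_conj_sq h5 hg5 (det_one_of_mem (hM g.2))
      (g := (n : GL (Fin 3) F)) (by simpa using heq)
    have h2 : (g : M ⧸ (scalars (Fin 3) F).subgroupOf M) = 1 := by
      rw [show g = 1 from Subtype.ext h1]; rfl
    rw [hgy] at h2
    have : x = 1 := Subtype.ext h2
    rw [this, orderOf_one] at hx
    norm_num at hx

theorem card_dvd_six (h : IsResidualCore M P) [Finite F] (hM : M ≤ specialLinear (Fin 3) F) (h5 : (5 : F) ≠ 0)
    (e : Nonempty ((P ⧸ (scalars (Fin 3) F).subgroupOf P) ≃* alternatingGroup (Fin 6))) :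
    Nat.card M ∣ 2160 := by
  obtain ⟨hn, hs, hc, hC, hd, hf⟩ := sixData h hM h5 e
  haveI := hn
  haveI := hs
  exact card_dvd_three_mul hM (card_dvd_720 hc hC hd hf)

/-- In characteristic two with no fifth roots of unity the socle is everything. -/
theorem socle_eq_top (h : IsResidualCore M P) [Finite F] (hM : M ≤ specialLinear (Fin 3) F) (h2 : (2 : F) = 0)
    (hroot : ∀ l : F, l ^ 5 = 1 → l = 1)
    (e : Nonempty ((P ⧸ (scalars (Fin 3) F).subgroupOf P) ≃* alternatingGroup (Fin 6))) :
    socle h = ⊤ := by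
  have h5 : (5 : F) ≠ 0 := by
    rw [show (5 : F) = 2 * 2 + 1 by norm_num, h2]
    simp
  obtain ⟨hn, hs, hc, hC, hd, hf⟩ := sixData h hM h5 e
  haveI := hn
  haveI := hs
  refine eq_top_of_no_involution hc hC hd hf fun x hx c hc2 hcx => ?_
  obtain ⟨g, hg5, hgy⟩ := exists_lift hM (y := (x : M ⧸ (scalars (Fin 3) F).subgroupOf M)) (by
    rw [← Subgroup.coe_pow, ← hx, pow_orderOf_eq_one, Subgroup.coe_one])
  obtain ⟨n, rfl⟩ := QuotientGroup.mk'_surjective _ c
  have hn2 : ((n : GL (Fin 3) F) ^ 3) ^ 2 = 1 := by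
    rw [QuotientGroup.mk'_apply, ← QuotientGroup.mk_pow, QuotientGroup.eq_one_iff, Subgroup.mem_subgroupOf] at hc2
    rw [← pow_mul, show 3 * 2 = 2 * 3 by norm_num, pow_mul, ← Subgroup.coe_pow]
    exact scalar_cube hc2 (hM (n ^ 2 : M).2)
  have hcomm : Commute ((n : GL (Fin 3) F) ^ 3) (g : GL (Fin 3) F) := by
    rw [← hgy, QuotientGroup.mk'_apply] at hcx
    have heq := eq_of_scalar_mul hM (a := n * g * n⁻¹) (b := g)
      (by rw [Subgroup.coe_mul, Subgroup.coe_mul, InvMemClass.coe_inv, conj_pow, hg5, mul_one, mul_inv_cancel]) hg5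
      (by rw [QuotientGroup.mk_mul, QuotientGroup.mk_mul, QuotientGroup.mk_inv, hcx.eq, mul_inv_cancel_right])
    rw [Subgroup.coe_mul, Subgroup.coe_mul, InvMemClass.coe_inv, mul_inv_eq_iff_eq_mul] at heq
    exact (show Commute (n : GL (Fin 3) F) g from heq).pow_left 3
  have hg1 : (g : GL (Fin 3) F) ≠ 1 := fun h1 => by
    have : x = 1 := Subtype.ext (by rw [← hgy, show g = 1 from Subtype.ext h1]; rfl)
    rw [this, orderOf_one] at hx
    norm_num at hx
  have h3 : (n : GL (Fin 3) F) ^ 3 = 1 :=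
    eq_one_of_commute h2 hroot hg5 hg1 (det_one_of_mem (hM g.2)) hn2 hcomm
  have h3' : (QuotientGroup.mk' ((scalars (Fin 3) F).subgroupOf M) n) ^ 3 = 1 := by
    rw [← map_pow, show n ^ 3 = 1 from Subtype.ext (by rw [Subgroup.coe_pow]; exact h3), map_one]
  rw [pow_succ, hc2, one_mul] at h3'
  exact h3'

end Quotient

end CfsgLib.Geo.SL3.Maximal
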