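/-
The determinant-one normaliser of an extraspecial group of order 27 in dimension three: the action on the group
modulo scalars, two elements of order four and the consequences for containments.
-/
import Cfsg.Agent.Lib.Geo.SL3.Maximal.Residual
import Cfsg.Agent.Lib.Geo.SL3.Maximal.Monomial
import Cfsg.Agent.Lib.Geo.ExtraTwentySevenApply
import Cfsg.Agent.Lib.Geo.Asch.Span
import Cfsg.Agent.Lib.Geo.Asch.LinearMax

set_option autoImplicit false

namespace CfsgLib.Geo.SL3.Maximal

open Matrix Cfsg.Geo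
open CfsgLib.Geo.Extra27 (amat bmat jmat Heis)
open scoped commutatorElement

variable {F : Type*} [Field F]

local notation "M3" => Matrix (Fin 3) (Fin 3) F

section Mats

variable {l : F}

/-- The Fourier matrix of determinant one. -/
def fmat (l : F) : M3 := (l - l ^ 2)⁻¹ • !![1, 1, 1; 1, l, l ^ 2; 1, l ^ 2, l]

/-- A diagonal twist. -/
def dmat (l : F) : M3 := Matrix.diagonal ![1, l, l]

/-- The twisted Fourier matrix. -/
def gmat (l : F) : M3 := dmat l * fmat l * dmat (l ^ 2)

theorem geom (hl : IsPrimitiveRoot l 3) : l ^ 2 + l + 1 = 0 := by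
  have h := hl.geom_sum_eq_zero (by norm_num)
  simp [Finset.sum_range_succ] at h
  linear_combination h

theorem sub_sq_sq (hl : IsPrimitiveRoot l 3) : (l - l ^ 2) ^ 2 = -3 := by
  have h1 := geom hl
  have h3 := hl.pow_eq_one
  linear_combination h1 + (l - 2) * h3

theorem sub_sq_ne (hl : IsPrimitiveRoot l 3) (h3 : (3 : F) ≠ 0) : l - l ^ 2 ≠ 0 := fun h => h3 (by
  have := sub_sq_sq hl
  rw [h] at this
  linear_combination this)

theorem inv_sq_mul (hl : IsPrimitiveRoot l 3) (h3 : (3 : F) ≠ 0) :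
    (l - l ^ 2)⁻¹ * (l - l ^ 2)⁻¹ * 3 = -1 := by
  have h := sub_sq_sq hl
  have e : (l - l ^ 2) * (l - l ^ 2)⁻¹ * ((l - l ^ 2) * (l - l ^ 2)⁻¹) = 1 := by
    rw [mul_inv_cancel₀ (sub_sq_ne hl h3), one_mul]
  linear_combination ((l - l ^ 2)⁻¹ * (l - l ^ 2)⁻¹) * h - e

theorem det_fmat (hl : IsPrimitiveRoot l 3) (h3 : (3 : F) ≠ 0) : (fmat l).det = 1 := by
  have hne := sub_sq_ne hl h3
  have hs := inv_sq_mul hl h3
  have hp := hl.pow_eq_one
  have hW : (!![1, 1, 1; 1, l, l ^ 2; 1, l ^ 2, l] : M3).det = 3 * (l ^ 2 - l) := by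
    simp [Matrix.det_fin_three]
    grind
  rw [fmat, Matrix.det_smul, Fintype.card_fin, hW]
  linear_combination ((l - l ^ 2)⁻¹ * (l ^ 2 - l)) * hs + mul_inv_cancel₀ hne

theorem fmat_sq (hl : IsPrimitiveRoot l 3) (h3 : (3 : F) ≠ 0) : fmat l * fmat l = jmat := by
  have hs := inv_sq_mul hl h3
  have hg := geom hl
  have hp := hl.pow_eq_one
  rw [fmat, smul_mul_smul_comm]
  ext i j
  fin_cases i <;> fin_cases j <;> simp [jmat, Matrix.mul_apply, Fin.sum_univ_three] <;> grind

theorem fmat_amat (hl : IsPrimitiveRoot l 3) : fmat l * amat l = bmat * bmat * fmat l := by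
  have hp := hl.pow_eq_one
  rw [fmat, smul_mul_assoc, mul_smul_comm]
  congr 1
  ext i j
  fin_cases i <;> fin_cases j <;> simp [amat, bmat, Matrix.mul_apply, Fin.sum_univ_three] <;> grind

theorem fmat_bmat (hl : IsPrimitiveRoot l 3) : fmat l * bmat = amat l * fmat l := by
  have hp := hl.pow_eq_one
  rw [fmat, smul_mul_assoc, mul_smul_comm]
  congr 1
  ext i j
  fin_cases i <;> fin_cases j <;> simp [amat, bmat, Matrix.mul_apply, Fin.sum_univ_three] <;> grind

theorem dmat_inv (hl : IsPrimitiveRoot l 3) : dmat (l ^ 2) * dmat l = 1 ∧ dmat l * dmat (l ^ 2) = 1 := by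
  have hp := hl.pow_eq_one
  constructor <;> rw [dmat, dmat, Matrix.diagonal_mul_diagonal, ← Matrix.diagonal_one] <;> congr 1 <;>
    funext i <;> fin_cases i <;> simp <;> linear_combination hp

theorem det_gmat (hl : IsPrimitiveRoot l 3) (h3 : (3 : F) ≠ 0) : (gmat l).det = 1 := by
  rw [gmat, Matrix.det_mul, Matrix.det_mul, det_fmat hl h3, mul_one, ← Matrix.det_mul, (dmat_inv hl).2, Matrix.det_one]

theorem gmat_sq (hl : IsPrimitiveRoot l 3) (h3 : (3 : F) ≠ 0) : gmat l * gmat l = jmat := by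
  calc gmat l * gmat l = dmat l * (fmat l * (dmat (l ^ 2) * dmat l) * fmat l) * dmat (l ^ 2) := by
        simp only [gmat, mul_assoc]
    _ = dmat l * jmat * dmat (l ^ 2) := by rw [(dmat_inv hl).1, mul_one, fmat_sq hl h3]
    _ = jmat := by
      have hp := hl.pow_eq_one
      ext i j
      fin_cases i <;> fin_cases j <;> simp [dmat, jmat, Matrix.mul_apply, Fin.sum_univ_three] <;> grind

theorem fmat_gmat (hl : IsPrimitiveRoot l 3) : fmat l * gmat l = jmat * (gmat l * fmat l) := by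
  have hp := hl.pow_eq_one
  have hg := geom hl
  simp only [gmat, fmat, smul_mul_assoc, mul_smul_comm, smul_smul]
  congr 1
  ext i j
  fin_cases i <;> fin_cases j <;>
    simp [dmat, jmat, Matrix.mul_apply, Fin.sum_univ_three, Matrix.vecMul, Matrix.mulVec, dotProduct] <;> grind

theorem dmat_amat : dmat l * amat l = amat l * dmat l := by
  simp only [dmat, amat, Matrix.diagonal_mul_diagonal, mul_comm]

theorem jmat_ne_scalar (c : F) : (jmat : M3) ≠ c • 1 := fun h => by
  have := congrFun (congrFun h 1) 2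
  simp [jmat] at this

end Mats

/-- Powers of a cube root of unity indexed by residues. -/
def lp (l : F) (i : ZMod 3) : F := l ^ i.val

theorem lp_add {l : F} (hl : l ^ 3 = 1) (i j : ZMod 3) : lp l (i + j) = lp l i * lp l j := by
  rw [lp, lp, lp, ← pow_add, ZMod.val_add, ← pow_eq_pow_mod _ hl]

theorem lp_zero (l : F) : lp l 0 = 1 := by simp [lp]

theorem lp_inj {l : F} (hl : IsPrimitiveRoot l 3) {i j : ZMod 3} (h : lp l i = lp l j) : i = j :=
  ZMod.val_injective 3 (hl.pow_inj (ZMod.val_lt i) (ZMod.val_lt j) h)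

/-- The alternating pairing on exponent vectors. -/
def pair (v w : ZMod 3 × ZMod 3) : ZMod 3 := v.1 * w.2 - v.2 * w.1

variable {R : Subgroup (GL (Fin 3) F)} (h : Heis R)

theorem co_injective {X Y : M3} (e : h.co X = h.co Y) : X = Y := by
  have := congrArg (fun Z => ((h.g⁻¹ : GL (Fin 3) F) : M3) * Z * (h.g : M3)) e
  simpa only [Heis.co, ← mul_assoc, Units.inv_mul, one_mul, mul_assoc _ _ (h.g : M3), Units.inv_mul, mul_one] using this

theorem val_a : (h.a : M3) = h.co (amat h.lam) := h.ha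

theorem val_b : (h.b : M3) = h.co bmat := h.hb

/-- An element read in the coordinates, of determinant one. -/
def liftEl (X : M3) (hX : X.det = 1) : GL (Fin 3) F :=
  Matrix.GeneralLinearGroup.mkOfDetNeZero (h.co X) (by rw [h.det_co, hX]; exact one_ne_zero)

theorem liftEl_val (X : M3) (hX : X.det = 1) : (liftEl h X hX : M3) = h.co X := rfl

theorem liftEl_mem_specialLinear (X : M3) (hX : X.det = 1) : liftEl h X hX ∈ specialLinear (Fin 3) F :=
  mem_specialLinear (by rw [liftEl_val, h.det_co, hX])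

/-- The involution. -/
def jEl : GL (Fin 3) F := liftEl h jmat Extra27.det_jmat

variable (h3 : (3 : F) ≠ 0)

/-- The first element of order four. -/
def fEl : GL (Fin 3) F := liftEl h (fmat h.lam) (det_fmat h.prim h3)

/-- The second element of order four. -/
def gEl : GL (Fin 3) F := liftEl h (gmat h.lam) (det_gmat h.prim h3)

theorem fEl_sq : fEl h h3 * fEl h h3 = jEl h := Units.ext (by
  rw [Units.val_mul, fEl, liftEl_val, h.co_mul, fmat_sq h.prim h3]; rfl)

theorem gEl_sq : gEl h h3 * gEl h h3 = jEl h := Units.ext (by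
  rw [Units.val_mul, gEl, liftEl_val, h.co_mul, gmat_sq h.prim h3]; rfl)

theorem fEl_gEl : fEl h h3 * gEl h h3 = jEl h * (gEl h h3 * fEl h h3) := Units.ext (by
  rw [Units.val_mul, Units.val_mul, Units.val_mul, fEl, gEl, jEl, liftEl_val, liftEl_val, liftEl_val, h.co_mul,
    h.co_mul, h.co_mul, fmat_gmat h.prim])

theorem jEl_sq : jEl h * jEl h = 1 := Units.ext (by
  rw [Units.val_mul, jEl, liftEl_val, h.co_mul, Units.val_one, ← h.co_one]
  congr 1
  ext i j
  fin_cases i <;> fin_cases j <;> simp [jmat, Matrix.mul_apply, Fin.sum_univ_three])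

theorem jEl_not_scalar : jEl h ∉ scalars (Fin 3) F := fun hs => by
  obtain ⟨c, hc⟩ := (mem_scalars_iff _).1 hs
  refine jmat_ne_scalar (c : F) (co_injective h ?_)
  rw [h.co_smul, h.co_one]
  exact hc

theorem fEl_conj_a : fEl h h3 * h.a * (fEl h h3)⁻¹ = h.b * h.b := by
  rw [mul_inv_eq_iff_eq_mul]
  refine Units.ext ?_
  rw [Units.val_mul, Units.val_mul, Units.val_mul, fEl, liftEl_val, val_a, val_b, h.co_mul, h.co_mul, h.co_mul,
    fmat_amat h.prim]

theorem fEl_conj_b : fEl h h3 * h.b * (fEl h h3)⁻¹ = h.a := by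
  rw [mul_inv_eq_iff_eq_mul]
  refine Units.ext ?_
  rw [Units.val_mul, Units.val_mul, fEl, liftEl_val, val_a, val_b, h.co_mul, h.co_mul, fmat_bmat h.prim]

variable [Finite F]

theorem fEl_mem : fEl h h3 ∈ subgroupNormalizer R ⊓ specialLinear (Fin 3) F := by
  refine ⟨Extra27.mem_normalizer_of_gen R h.gen ?_ ?_, liftEl_mem_specialLinear h _ _⟩
  · rw [fEl_conj_a]; exact R.mul_mem h.bR h.bR
  · rw [fEl_conj_b]; exact h.aR

theorem gEl_mem : gEl h h3 ∈ subgroupNormalizer R ⊓ specialLinear (Fin 3) F := by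
  refine ⟨?_, liftEl_mem_specialLinear h _ _⟩
  have hl3 := h.prim.pow_eq_one
  have hl0 : h.lam ≠ 0 := h.prim.ne_zero (by norm_num)
  let D : GL (Fin 3) F := ⟨dmat h.lam, dmat (h.lam ^ 2), (dmat_inv h.prim).2, (dmat_inv h.prim).1⟩
  have hD : h.g * D * h.g⁻¹ ∈ subgroupNormalizer R :=
    h.diag_mem_normalizer D ![1, h.lam, h.lam] rfl one_ne_zero (by intro i; fin_cases i <;> simp [hl3])
  have e : gEl h h3 = h.g * D * h.g⁻¹ * fEl h h3 * (h.g * D * h.g⁻¹)⁻¹ := by
    rw [eq_mul_inv_iff_mul_eq]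
    refine Units.ext ?_
    simp only [Units.val_mul, gEl, fEl, liftEl_val]
    show h.co _ * h.co (dmat h.lam) = h.co (dmat h.lam) * h.co _
    rw [h.co_mul, h.co_mul, gmat, mul_assoc, mul_assoc, (dmat_inv h.prim).1, mul_one]
  rw [e]
  exact (subgroupNormalizer R).mul_mem ((subgroupNormalizer R).mul_mem hD (fEl_mem h h3).1)
    ((subgroupNormalizer R).inv_mem hD)

include h3 in
theorem jEl_mem : jEl h ∈ subgroupNormalizer R ⊓ specialLinear (Fin 3) F := by
  rw [← fEl_sq h h3]
  exact mul_mem (fEl_mem h h3) (fEl_mem h h3)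

/-- The commutation of an element with the generators. -/
def Rel (g : GL (Fin 3) F) (v : ZMod 3 × ZMod 3) : Prop :=
  (g : M3) * (h.a : M3) = lp h.lam v.1 • ((h.a : M3) * g) ∧ (g : M3) * (h.b : M3) = lp h.lam v.2 • ((h.b : M3) * g)

variable {h}

omit [Finite F] in
theorem Rel.mul {g g' : GL (Fin 3) F} {v v' : ZMod 3 × ZMod 3} (hg : Rel h g v) (hg' : Rel h g' v') :
    Rel h (g * g') (v + v') := by
  constructor
  · rw [Units.val_mul, mul_assoc, hg'.1, mul_smul_comm, ← mul_assoc, hg.1, smul_mul_assoc, smul_smul, mul_assoc,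
      Prod.fst_add, lp_add h.prim.pow_eq_one, mul_comm]
  · rw [Units.val_mul, mul_assoc, hg'.2, mul_smul_comm, ← mul_assoc, hg.2, smul_mul_assoc, smul_smul, mul_assoc,
      Prod.snd_add, lp_add h.prim.pow_eq_one, mul_comm]

omit [Finite F] in
theorem Rel.of_scalar {s : GL (Fin 3) F} (hs : s ∈ scalars (Fin 3) F) : Rel h s 0 := by
  obtain ⟨c, hc⟩ := (mem_scalars_iff s).1 hs
  constructor <;> simp [hc, lp_zero]

omit [Finite F] in
theorem Rel.pow {g : GL (Fin 3) F} {v : ZMod 3 × ZMod 3} (hg : Rel h g v) : ∀ k : ℕ, Rel h (g ^ k) (k • v)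
  | 0 => by rw [pow_zero, zero_nsmul]; exact Rel.of_scalar (one_mem _)
  | k + 1 => by rw [pow_succ, succ_nsmul]; exact (Rel.pow hg k).mul hg

omit [Finite F] in
theorem Rel.unique {g : GL (Fin 3) F} {v v' : ZMod 3 × ZMod 3} (hg : Rel h g v) (hg' : Rel h g v') : v = v' := by
  refine Prod.ext ?_ ?_
  · have e := hg.1.symm.trans hg'.1
    exact lp_inj h.prim (smul_left_injective F (show ((h.a : M3) * g) ≠ 0 from
      (h.a * g).ne_zero) e)
  · have e := hg.2.symm.trans hg'.2
    exact lp_inj h.prim (smul_left_injective F (show ((h.b : M3) * g) ≠ 0 from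
      (h.b * g).ne_zero) e)

theorem Rel.inv {g : GL (Fin 3) F} {v : ZMod 3 × ZMod 3} (hg : Rel h g v) : Rel h g⁻¹ (-v) := by
  obtain ⟨k, hk⟩ := (mem_powers_iff_mem_zpowers (x := g) (y := g⁻¹)).2 (inv_mem (Subgroup.mem_zpowers g))
  have h1 := hg.pow k
  simp only at hk
  rw [hk] at h1
  have h2 := hg.mul h1
  rw [mul_inv_cancel] at h2
  rwa [← eq_neg_of_add_eq_zero_right ((Rel.of_scalar (one_mem _)).unique h2).symm]

omit [Finite F] in
theorem Rel.scalar {g : GL (Fin 3) F} (hg : Rel h g 0) : g ∈ scalars (Fin 3) F := by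
  obtain ⟨c, hc⟩ := h.scalar_of_comm (X := (g : M3))
    (by rw [← val_a h]; simpa [lp_zero] using hg.1) (by rw [← val_b h]; simpa [lp_zero] using hg.2)
  have hc0 : c ≠ 0 := by
    rintro rfl
    exact g.ne_zero (by rw [hc, zero_smul])
  exact (mem_scalars_iff g).2 ⟨Units.mk0 c hc0, hc⟩

omit [Finite F] in
theorem amat_bmat {l : F} (hl : l ^ 3 = 1) : amat l * bmat = l • (bmat * amat l) := by
  ext i j
  rw [amat, Matrix.smul_apply, Matrix.diagonal_mul, Matrix.mul_diagonal]
  fin_cases i <;> fin_cases j <;> simp [bmat] <;> grind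

omit [Finite F] in
theorem rel_a : Rel h h.a (0, 1) := by
  constructor
  · simp [lp_zero]
  · rw [val_a, val_b, h.co_mul, h.co_mul, ← h.co_smul]
    congr 1
    rw [amat_bmat h.prim.pow_eq_one, lp, ZMod.val_one, pow_one]

omit [Finite F] in
theorem rel_b : Rel h h.b (2, 0) := by
  constructor
  · rw [val_a, val_b, h.co_mul, h.co_mul, ← h.co_smul]
    congr 1
    rw [amat_bmat h.prim.pow_eq_one, smul_smul, lp, show ((2 : ZMod 3).val) = 2 from rfl, ← pow_succ,
      h.prim.pow_eq_one, one_smul]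
  · simp [lp_zero]

theorem exists_rel {z : GL (Fin 3) F} (hz : z ∈ R) : ∃ v, Rel h z v := by
  have hz' : z ∈ Subgroup.closure {h.a, h.b} := h.gen ▸ hz
  induction hz' using Subgroup.closure_induction with
  | mem x hx =>
    rcases hx with rfl | rfl
    · exact ⟨_, rel_a⟩
    · exact ⟨_, rel_b⟩
  | one => exact ⟨0, Rel.of_scalar (one_mem _)⟩
  | mul x y hx hy ihx ihy =>
    obtain ⟨v, hv⟩ := ihx (h.gen ▸ hx)
    obtain ⟨w, hw⟩ := ihy (h.gen ▸ hy)
    exact ⟨_, hv.mul hw⟩
  | inv x hx ih =>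
    obtain ⟨v, hv⟩ := ih (h.gen ▸ hx)
    exact ⟨_, hv.inv⟩

variable (h)

/-- The standard element with given exponent vector. -/
def word (v : ZMod 3 × ZMod 3) : GL (Fin 3) F := h.a ^ v.2.val * h.b ^ (-v.1).val

omit [Finite F] in
theorem word_mem (v : ZMod 3 × ZMod 3) : word h v ∈ R := mul_mem (pow_mem h.aR _) (pow_mem h.bR _)

omit [Finite F] in
theorem rel_word (v : ZMod 3 × ZMod 3) : Rel h (word h v) v := by
  have := ((rel_a (h := h)).pow v.2.val).mul ((rel_b (h := h)).pow (-v.1).val)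
  have e : ∀ u : ZMod 3 × ZMod 3, u.2.val • ((0, 1) : ZMod 3 × ZMod 3) + (-u.1).val • (2, 0) = u := by decide
  rw [e] at this
  exact this

/-- An element of determinant one commuting with the generators up to scalars lies in `R`. -/
theorem mem_of_rel {g : GL (Fin 3) F} (hg : g ∈ specialLinear (Fin 3) F) {v : ZMod 3 × ZMod 3} (hv : Rel h g v) :
    g ∈ R := by
  haveI : Finite R := inferInstance
  have h1 : Rel h (g * (word h v)⁻¹) 0 := by
    simpa using hv.mul (rel_word h v).inv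
  obtain ⟨c, hc⟩ := (mem_scalars_iff _).1 h1.scalar
  have hval : (g : M3) = (c : F) • (word h v : M3) := by
    have := congrArg (· * (word h v : M3)) hc
    simpa [Units.val_mul, mul_assoc] using this
  refine h.smul_mem_of_cube ?_ (word_mem h v) hval
  have hd := det_one_of_mem hg
  rw [hval, Matrix.det_smul, h.det_eq_one _ (word_mem h v), mul_one, Fintype.card_fin] at hd
  exact hd

include h in
theorem le_specialLinear : R ≤ specialLinear (Fin 3) F := fun z hz => mem_specialLinear (h.det_eq_one z hz)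

/-- The pairing is the commutator. -/
theorem comm_pair {z z' : GL (Fin 3) F} (hz' : z' ∈ R) {v v' : ZMod 3 × ZMod 3} (hv : Rel h z v)
    (hv' : Rel h z' v') : (z : M3) * (z' : M3) = lp h.lam (pair v v') • ((z' : M3) * z) := by
  have hl := h.prim.pow_eq_one
  have hpow : ∀ (x : GL (Fin 3) F) (i : ZMod 3), (z : M3) * (x : M3) = lp h.lam i • ((x : M3) * z) →
      ∀ n : ℕ, (z : M3) * (x : M3) ^ n = lp h.lam ((n : ZMod 3) * i) • ((x : M3) ^ n * z) := by
    intro x i hx n
    induction n with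
    | zero => simp [lp_zero]
    | succ n ih =>
      rw [pow_succ, ← mul_assoc, ih, smul_mul_assoc, mul_assoc, hx, mul_smul_comm, smul_smul, ← lp_add hl,
        ← mul_assoc, Nat.cast_succ, add_mul, one_mul]
  have h1 : Rel h (z' * (word h v')⁻¹) 0 := by
    simpa using hv'.mul (rel_word h v').inv
  obtain ⟨c, hc⟩ := (mem_scalars_iff _).1 h1.scalar
  have hval : (z' : M3) = (c : F) • (word h v' : M3) := by
    have := congrArg (· * (word h v' : M3)) hc
    simpa [Units.val_mul, mul_assoc] using this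
  have hw : (z : M3) * (word h v' : M3) = lp h.lam (pair v v') • ((word h v' : M3) * z) := by
    rw [word, Units.val_mul, Units.val_pow_eq_pow_val, Units.val_pow_eq_pow_val, ← mul_assoc,
      hpow h.a v.1 hv.1, smul_mul_assoc, mul_assoc, hpow h.b v.2 hv.2, mul_smul_comm, smul_smul, ← lp_add hl,
      ← mul_assoc, ZMod.natCast_zmod_val, ZMod.natCast_zmod_val]
    congr 2
    rw [pair]
    ring
  rw [hval, mul_smul_comm, hw, smul_smul, smul_mul_assoc, smul_smul, mul_comm (c : F)]

omit [Finite F] in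
theorem conj_mem_of {g : GL (Fin 3) F} (hg : g ∈ subgroupNormalizer R) {z : GL (Fin 3) F} (hz : z ∈ R) :
    g * z * g⁻¹ ∈ R := (Subgroup.mem_normalizer_iff.1 hg z).1 hz

/-- The action on exponent vectors. -/
noncomputable def act (g : subgroupNormalizer R) (v : ZMod 3 × ZMod 3) : ZMod 3 × ZMod 3 :=
  (exists_rel (h := h) (conj_mem_of g.2 (word_mem h v))).choose

theorem rel_conj (g : subgroupNormalizer R) {z : GL (Fin 3) F} {v : ZMod 3 × ZMod 3} (hv : Rel h z v) :
    Rel h ((g : GL (Fin 3) F) * z * (g : GL (Fin 3) F)⁻¹) (act h g v) := by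
  have hsc : z * (word h v)⁻¹ ∈ scalars (Fin 3) F := by
    refine Rel.scalar (h := h) ?_
    simpa using hv.mul (rel_word h v).inv
  have hsc' := (scalars_normal (ι := Fin 3) (F := F)).conj_mem _ hsc g
  have := (Rel.of_scalar (h := h) hsc').mul
    (exists_rel (h := h) (conj_mem_of g.2 (word_mem h v))).choose_spec
  rw [zero_add] at this
  rwa [show (g : GL (Fin 3) F) * (z * (word h v)⁻¹) * (g : GL (Fin 3) F)⁻¹ *
    ((g : GL (Fin 3) F) * word h v * (g : GL (Fin 3) F)⁻¹) = (g : GL (Fin 3) F) * z * (g : GL (Fin 3) F)⁻¹ by group] at this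

theorem act_eq (g : subgroupNormalizer R) {z : GL (Fin 3) F} {v w : ZMod 3 × ZMod 3} (hv : Rel h z v)
    (hw : Rel h ((g : GL (Fin 3) F) * z * (g : GL (Fin 3) F)⁻¹) w) : act h g v = w :=
  (rel_conj h g hv).unique hw

theorem act_add (g : subgroupNormalizer R) (v w : ZMod 3 × ZMod 3) : act h g (v + w) = act h g v + act h g w :=
  act_eq h g ((rel_word h v).mul (rel_word h w)) (by
    have := (rel_conj h g (rel_word h v)).mul (rel_conj h g (rel_word h w))
    convert this using 1
    group)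

theorem act_mul (g g' : subgroupNormalizer R) (v : ZMod 3 × ZMod 3) :
    act h (g * g') v = act h g (act h g' v) :=
  act_eq h _ (rel_word h v) (by
    have := rel_conj h g (rel_conj h g' (rel_word h v))
    convert this using 1
    rw [Subgroup.coe_mul]
    group)

theorem act_one (v : ZMod 3 × ZMod 3) : act h 1 v = v :=
  act_eq h _ (rel_word h v) (by simpa using rel_word h v)

theorem act_pair (g : subgroupNormalizer R) (v w : ZMod 3 × ZMod 3) :
    pair (act h g v) (act h g w) = pair v w := by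
  have e1 := comm_pair h (conj_mem_of g.2 (word_mem h w)) (rel_conj h g (rel_word h v)) (rel_conj h g (rel_word h w))
  have e2 := comm_pair h (word_mem h w) (rel_word h v) (rel_word h w)
  set G : M3 := ((g : GL (Fin 3) F) : M3)
  set G' : M3 := (((g : GL (Fin 3) F)⁻¹ : GL (Fin 3) F) : M3)
  have hcan : ∀ X : M3, G' * (G * X) = X := fun X => by rw [← mul_assoc, Units.inv_mul, one_mul]
  have e3 := congrArg (fun X => G * X * G') e2
  have e4 : G * ((word h v : M3) * (word h w : M3)) * G' = (G * (word h v : M3) * G') * (G * (word h w : M3) * G') := by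
    simp only [mul_assoc, hcan]
  have e5 : G * ((word h w : M3) * (word h v : M3)) * G' = (G * (word h w : M3) * G') * (G * (word h v : M3) * G') := by
    simp only [mul_assoc, hcan]
  simp only [mul_smul_comm, smul_mul_assoc, e4, e5] at e3
  simp only [Units.val_mul] at e1
  exact lp_inj h.prim (smul_left_injective F
    (show (G * (word h w : M3) * G') * (G * (word h v : M3) * G') ≠ 0 from
      ((g : GL (Fin 3) F) * word h w * (g : GL (Fin 3) F)⁻¹ *
        ((g : GL (Fin 3) F) * word h v * (g : GL (Fin 3) F)⁻¹)).ne_zero) (e1.symm.trans e3))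

theorem act_comb (g : subgroupNormalizer R) (v : ZMod 3 × ZMod 3) :
    act h g v = v.1.val • act h g (1, 0) + v.2.val • act h g (0, 1) := by
  let f : (ZMod 3 × ZMod 3) →+ (ZMod 3 × ZMod 3) := AddMonoidHom.mk' (act h g) (act_add h g)
  show f v = v.1.val • f (1, 0) + v.2.val • f (0, 1)
  rw [← map_nsmul, ← map_nsmul, ← map_add]
  congr 1
  ext <;> simp

/-- The matrix of the action. -/
noncomputable def actMat (g : subgroupNormalizer R) : Matrix (Fin 2) (Fin 2) (ZMod 3) :=
  !![(act h g (1, 0)).1, (act h g (0, 1)).1; (act h g (1, 0)).2, (act h g (0, 1)).2]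

theorem det_actMat (g : subgroupNormalizer R) : (actMat h g).det = 1 := by
  have := act_pair h g (1, 0) (0, 1)
  simp [pair] at this
  rw [actMat, Matrix.det_fin_two]
  simp
  linear_combination this

/-- The action as a homomorphism. -/
noncomputable def chi : subgroupNormalizer R →* Matrix.SpecialLinearGroup (Fin 2) (ZMod 3) where
  toFun g := ⟨actMat h g, det_actMat h g⟩
  map_one' := Subtype.ext (by
    show actMat h 1 = 1
    rw [actMat, act_one, act_one]
    ext i j; fin_cases i <;> fin_cases j <;> rfl)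
  map_mul' g g' := Subtype.ext (by
    show actMat h (g * g') = actMat h g * actMat h g'
    rw [actMat, act_mul, act_mul, act_comb h g (act h g' (1, 0)), act_comb h g (act h g' (0, 1))]
    ext i j
    fin_cases i <;> fin_cases j <;>
      simp [actMat, Matrix.mul_apply, Fin.sum_univ_two, ZMod.natCast_zmod_val] <;> ring)

theorem chi_apply (g : subgroupNormalizer R) :
    ((chi h g : Matrix.SpecialLinearGroup (Fin 2) (ZMod 3)) : Matrix (Fin 2) (Fin 2) (ZMod 3)) = actMat h g := rfl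

/-- The elements of determinant one acting trivially lie in `R`. -/
theorem mem_of_chi (g : subgroupNormalizer R) (hs : (g : GL (Fin 3) F) ∈ specialLinear (Fin 3) F)
    (hg : chi h g = 1) : (g : GL (Fin 3) F) ∈ R := by
  have hmat : actMat h g = 1 := congrArg Subtype.val hg
  have e10 : act h g (1, 0) = (1, 0) := Prod.ext (congrFun (congrFun hmat 0) 0) (congrFun (congrFun hmat 1) 0)
  have e01 : act h g (0, 1) = (0, 1) := Prod.ext (congrFun (congrFun hmat 0) 1) (congrFun (congrFun hmat 1) 1)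
  have hfix : ∀ v, act h g v = v := fun v => by
    rw [act_comb, e10, e01]
    ext <;> simp
  have hcomm : ∀ {z : GL (Fin 3) F} {v : ZMod 3 × ZMod 3}, z ∈ R → Rel h z v →
      ∃ i : ZMod 3, ((g : GL (Fin 3) F) : M3) * (z : M3) = lp h.lam i • ((z : M3) * ((g : GL (Fin 3) F) : M3)) := by
    intro z v hz hv
    have hc := rel_conj h g hv
    rw [hfix] at hc
    set x := (g : GL (Fin 3) F) * z * (g : GL (Fin 3) F)⁻¹ * z⁻¹
    have hx : Rel h x 0 := by simpa [x] using hc.mul hv.inv
    have hxR : x ∈ R := mul_mem (conj_mem_of g.2 hz) (inv_mem hz)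
    obtain ⟨c, hc'⟩ := (mem_scalars_iff _).1 hx.scalar
    have hc3 : (c : F) ^ 3 = 1 := by
      have hd := h.det_eq_one x hxR
      rw [hc', Matrix.det_smul, Matrix.det_one, mul_one, Fintype.card_fin] at hd
      exact hd
    obtain ⟨k, hk, hkc⟩ := Extra27.eq_pow_of_cube h.prim hc3
    refine ⟨(k : ZMod 3), ?_⟩
    rw [lp, ZMod.val_natCast, Nat.mod_eq_of_lt hk, hkc, ← Units.val_mul,
      show (g : GL (Fin 3) F) * z = x * (z * (g : GL (Fin 3) F)) by simp [x, mul_assoc],
      Units.val_mul, hc', smul_mul_assoc, one_mul, Units.val_mul]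
  obtain ⟨i, hi⟩ := hcomm h.aR rel_a
  obtain ⟨j, hj⟩ := hcomm h.bR rel_b
  exact mem_of_rel h hs (v := (i, j)) ⟨hi, hj⟩

include h in
theorem card_dvd_648 (hR : Nat.card R = 27) :
    Nat.card (subgroupNormalizer R ⊓ specialLinear (Fin 3) F : Subgroup _) ∣ 648 := by
  classical
  let T : Subgroup (subgroupNormalizer R) := (specialLinear (Fin 3) F).subgroupOf (subgroupNormalizer R)
  let f : T →* Matrix.SpecialLinearGroup (Fin 2) (ZMod 3) := (chi h).comp T.subtype
  have hker : Nat.card f.ker ∣ Nat.card R := by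
    let ι : f.ker →* R :=
      { toFun := fun x => ⟨((x : T) : subgroupNormalizer R), mem_of_chi h _ (x : T).2 x.2⟩
        map_one' := rfl
        map_mul' := fun _ _ => rfl }
    exact Subgroup.card_dvd_of_injective ι fun x y e => Subtype.ext (Subtype.ext (Subtype.ext (congrArg Subtype.val e :)))
  have hrange : Nat.card f.range ∣ 24 := by
    refine (Subgroup.card_subgroup_dvd_card _).trans ?_
    have e := CfsgLib.Classical.card_SL (F := ZMod 3) 2 (by norm_num)
    simp [Fin.prod_univ_two] at e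
    rw [Nat.card_eq_fintype_card, show Fintype.card (Matrix.SpecialLinearGroup (Fin 2) (ZMod 3)) = 24 by omega]
  have hT := f.ker.card_mul_index
  rw [Subgroup.index_ker] at hT
  rw [← Nat.card_congr (Subgroup.subgroupOfEquivOfLe (inf_le_left : subgroupNormalizer R ⊓ specialLinear (Fin 3) F ≤ _)).toEquiv,
    Subgroup.inf_subgroupOf_left, ← hT]
  exact Nat.mul_dvd_mul (hker.trans hR.dvd) hrange

variable (hR : Nat.card R = 27)

include h in
/-- An abelian subgroup of `R` invariant under the element of order four is scalar. -/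
theorem le_scalars_of_invariant {S : Subgroup (GL (Fin 3) F)} (hS : S ≤ R) (hab : ∀ x ∈ S, ∀ y ∈ S, x * y = y * x)
    (hf : ∀ x ∈ S, fEl h h3 * x * (fEl h h3)⁻¹ ∈ S) : S ≤ scalars (Fin 3) F := by
  intro z hz
  set f : subgroupNormalizer R := ⟨fEl h h3, (fEl_mem h h3).1⟩
  have ha : act h f (0, 1) = (1, 0) := act_eq h f rel_a (by
    show Rel h (fEl h h3 * h.a * (fEl h h3)⁻¹) _
    rw [fEl_conj_a]
    exact (rel_b (h := h)).mul rel_b)
  have hb : act h f (2, 0) = (0, 1) := act_eq h f rel_b (by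
    show Rel h (fEl h h3 * h.b * (fEl h h3)⁻¹) _
    rw [fEl_conj_b]
    exact rel_a)
  have h10 : act h f (1, 0) = (0, 2) := by
    rw [show ((1, 0) : ZMod 3 × ZMod 3) = (2, 0) + (2, 0) by decide, act_add, hb]
    decide
  obtain ⟨v, hv⟩ := exists_rel (h := h) (hS hz)
  have hw : Rel h (fEl h h3 * z * (fEl h h3)⁻¹) (act h f v) := rel_conj h f hv
  have e := comm_pair h (hS (hf z hz)) hv hw
  rw [← Units.val_mul, ← Units.val_mul, hab z hz _ (hf z hz)] at e
  have e1 : lp h.lam (pair v (act h f v)) = lp h.lam 0 := by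
    rw [lp_zero]
    refine (smul_left_injective F (show ((fEl h h3 * z * (fEl h h3)⁻¹ * z : GL (Fin 3) F) : M3) ≠ 0 from
      Units.ne_zero _) ?_).symm
    show (1 : F) • _ = _
    rw [one_smul]
    exact e
  have h0 := lp_inj h.prim e1
  rw [act_comb, ha, h10] at h0
  have key : ∀ u : ZMod 3 × ZMod 3,
      pair u (u.1.val • ((0, 2) : ZMod 3 × ZMod 3) + u.2.val • (1, 0)) = 0 → u = 0 := by decide
  rw [key v h0] at hv
  exact hv.scalar

include hR in
theorem eq_one_of_sq {x : GL (Fin 3) F} (hx : x ∈ R) (hx2 : x ^ 2 = 1) : x = 1 := by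
  have h1 : orderOf (⟨x, hx⟩ : R) ∣ 27 := hR ▸ orderOf_dvd_natCard _
  have h2 : orderOf (⟨x, hx⟩ : R) ∣ 2 := orderOf_dvd_of_pow_eq_one (Subtype.ext hx2)
  exact congrArg Subtype.val (orderOf_eq_one_iff.1 (Nat.eq_one_of_dvd_coprimes (show Nat.Coprime 27 2 by norm_num) h1 h2))

theorem sl2_sq {M : Matrix.SpecialLinearGroup (Fin 2) (ZMod 3)} (hM : M ^ 2 = 1) :
    M = 1 ∨ (M : Matrix (Fin 2) (Fin 2) (ZMod 3)) = -1 := by
  have key : ∀ a b c d : ZMod 3, a * d - b * c = 1 → a * a + b * c = 1 → a * b + b * d = 0 → c * a + d * c = 0 →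
      c * b + d * d = 1 → (a = 1 ∧ b = 0 ∧ c = 0 ∧ d = 1) ∨ (a = -1 ∧ b = 0 ∧ c = 0 ∧ d = -1) := by decide
  have hd := M.2
  rw [Matrix.det_fin_two] at hd
  have e := congrArg Subtype.val hM
  rw [Matrix.SpecialLinearGroup.coe_pow, Matrix.SpecialLinearGroup.coe_one, pow_two] at e
  have e00 := congrFun (congrFun e 0) 0
  have e01 := congrFun (congrFun e 0) 1
  have e10 := congrFun (congrFun e 1) 0
  have e11 := congrFun (congrFun e 1) 1
  simp [Matrix.mul_apply, Fin.sum_univ_two] at e00 e01 e10 e11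
  rcases key _ _ _ _ hd e00 e01 e10 e11 with ⟨p0, p1, p2, p3⟩ | ⟨p0, p1, p2, p3⟩
  · left
    refine Subtype.ext ?_
    ext i j
    fin_cases i <;> fin_cases j <;> simp [p0, p1, p2, p3]
  · right
    ext i j
    fin_cases i <;> fin_cases j <;> simp [p0, p1, p2, p3]

include h hR in
/-- Two commuting involutions of the determinant-one normaliser are equal. -/
theorem eq_of_involutions {u w : GL (Fin 3) F} (hu : u ∈ subgroupNormalizer R ⊓ specialLinear (Fin 3) F)
    (hw : w ∈ subgroupNormalizer R ⊓ specialLinear (Fin 3) F) (hu2 : u ^ 2 = 1) (hw2 : w ^ 2 = 1)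
    (huw : Commute u w) (hu1 : u ≠ 1) (hw1 : w ≠ 1) : u = w := by
  have hneg : ∀ x : subgroupNormalizer R, (x : GL (Fin 3) F) ∈ specialLinear (Fin 3) F → (x : GL (Fin 3) F) ^ 2 = 1 →
      (x : GL (Fin 3) F) ≠ 1 →
      ((chi h x : Matrix.SpecialLinearGroup (Fin 2) (ZMod 3)) : Matrix (Fin 2) (Fin 2) (ZMod 3)) = -1 := by
    intro x hxs hx2 hx1
    refine (sl2_sq (by rw [← map_pow, show x ^ 2 = 1 from Subtype.ext hx2, map_one])).resolve_left fun e => ?_
    exact hx1 (eq_one_of_sq hR (mem_of_chi h x hxs e) hx2)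
  let u' : subgroupNormalizer R := ⟨u, hu.1⟩
  let w' : subgroupNormalizer R := ⟨w, hw.1⟩
  have hchi : chi h (u' * w') = 1 := Subtype.ext (by
    rw [map_mul, Matrix.SpecialLinearGroup.coe_mul, hneg u' hu.2 hu2 hu1, hneg w' hw.2 hw2 hw1,
      Matrix.SpecialLinearGroup.coe_one, neg_mul_neg, one_mul])
  have h1 : u * w = 1 := eq_one_of_sq hR (mem_of_chi h (u' * w') (mul_mem hu.2 hw.2) hchi)
    (by rw [huw.mul_pow, hu2, hw2, one_mul])
  calc u = u * (w * w) := by rw [← pow_two, hw2, mul_one]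
    _ = w := by rw [← mul_assoc, h1, one_mul]

omit [Finite F] in
theorem monPerm_unique {B : GL (Fin 3) F} {g : GL (Fin 3) F} {τ σ : Equiv.Perm (Fin 3)}
    {c d : Fin 3 → Fˣ} (h1 : (g : M3) * (B : M3) = (B : M3) * monMat τ fun j => (c j : F))
    (h2 : (g : M3) * (B : M3) = (B : M3) * monMat σ fun j => (d j : F)) : τ = σ :=
  (monMat_injective (fun j => Units.ne_zero _) (B.mul_right_inj.1 (h1.symm.trans h2))).1

omit [Finite F] in
theorem monMat_compose {B : GL (Fin 3) F} {a b : GL (Fin 3) F} {τ σ : Equiv.Perm (Fin 3)}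
    {c d : Fin 3 → Fˣ} (h1 : (a : M3) * (B : M3) = (B : M3) * monMat τ fun j => (c j : F))
    (h2 : (b : M3) * (B : M3) = (B : M3) * monMat σ fun j => (d j : F)) :
    ((a * b : GL (Fin 3) F) : M3) * (B : M3) =
      (B : M3) * monMat (τ * σ) fun j => ((c (σ j) * d j : Fˣ) : F) := by
  rw [Units.val_mul, mul_assoc, h2, ← mul_assoc, h1, mul_assoc, monMat_mul]
  simp

/-- The permutation of the lines. -/
noncomputable def monPerm (B : GL (Fin 3) F) (μ : Subgroup Fˣ) : monGroup B μ →* Equiv.Perm (Fin 3) where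
  toFun g := g.2.choose
  map_one' := monPerm_unique (one_mem (monGroup B μ) : (1 : GL (Fin 3) F) ∈ monGroup B μ).choose_spec.choose_spec.2
    (σ := 1) (d := fun _ => 1) (by simp [monMat_one])
  map_mul' g g' := monPerm_unique (g * g').2.choose_spec.choose_spec.2
    (monMat_compose g.2.choose_spec.choose_spec.2 g'.2.choose_spec.choose_spec.2)

omit [Finite F] in
theorem monPerm_comm {B : GL (Fin 3) F} {μ : Subgroup Fˣ} {x y : monGroup B μ} (hx : monPerm B μ x = 1)
    (hy : monPerm B μ y = 1) : x * y = y * x := by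
  obtain ⟨c, -, hc⟩ := x.2.choose_spec
  obtain ⟨d, -, hd⟩ := y.2.choose_spec
  rw [show x.2.choose = 1 from hx] at hc
  rw [show y.2.choose = 1 from hy] at hd
  refine Subtype.ext (mul_right_cancel (b := B) (Units.ext ?_))
  simp only [Subgroup.coe_mul, Units.val_mul, mul_assoc, hd]
  rw [← mul_assoc, hc, mul_assoc, monMat_mul, ← mul_assoc (y : GL (Fin 3) F).val, hd, mul_assoc, monMat_mul]
  simp [mul_comm]

include h h3 hR in
theorem not_le_monGroup {B : GL (Fin 3) F} {μ : Subgroup Fˣ} :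
    ¬ subgroupNormalizer R ⊓ specialLinear (Fin 3) F ≤ monGroup B μ := by
  intro hle
  have hRM : R ≤ monGroup B μ := fun x hx => hle ⟨Subgroup.le_normalizer hx, le_specialLinear h hx⟩
  let φ : R →* Equiv.Perm (Fin 3) := (monPerm B μ).comp (Subgroup.inclusion hRM)
  have hsc : φ.ker.map R.subtype ≤ scalars (Fin 3) F := by
    refine le_scalars_of_invariant h h3 (Subgroup.map_subtype_le _) ?_ ?_
    · rintro _ ⟨x, hx, rfl⟩ _ ⟨y, hy, rfl⟩
      exact congrArg Subtype.val (monPerm_comm (x := Subgroup.inclusion hRM x) (y := Subgroup.inclusion hRM y) hx hy)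
    · rintro _ ⟨x, hx, rfl⟩
      refine ⟨⟨_, conj_mem_of (fEl_mem h h3).1 x.2⟩, ?_, rfl⟩
      show monPerm B μ ((⟨fEl h h3, hle (fEl_mem h h3)⟩ : monGroup B μ) * Subgroup.inclusion hRM x *
        (⟨fEl h h3, hle (fEl_mem h h3)⟩ : monGroup B μ)⁻¹) = 1
      rw [map_mul, map_mul, show monPerm B μ (Subgroup.inclusion hRM x) = 1 from hx, mul_one, ← map_mul,
        mul_inv_cancel, map_one]
  have hker : Nat.card φ.ker ∣ 3 := by
    refine dvd_trans ?_ (card_scalars_dvd (le_specialLinear h))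
    exact Subgroup.card_dvd_of_le fun x hx => hsc ⟨x, hx, rfl⟩
  have hrange : Nat.card φ.range ∣ 6 := by
    refine (Subgroup.card_subgroup_dvd_card _).trans ?_
    rw [Nat.card_perm, Nat.card_eq_fintype_card, Fintype.card_fin]
    rfl
  have e := φ.ker.card_mul_index
  rw [Subgroup.index_ker, hR] at e
  exact absurd (e ▸ Nat.mul_dvd_mul hker hrange) (by norm_num)

include h h3 hR in
/-- The group is determined by its normaliser. -/
theorem eq_of_normalizer_le {R' : Subgroup (GL (Fin 3) F)} (h' : Heis R') (hR' : Nat.card R' = 27)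
    (hle : subgroupNormalizer R ⊓ specialLinear (Fin 3) F ≤ subgroupNormalizer R') : R = R' := by
  have hRN : R ≤ subgroupNormalizer R' := fun x hx => hle ⟨Subgroup.le_normalizer hx, le_specialLinear h hx⟩
  let φ : R →* Matrix.SpecialLinearGroup (Fin 2) (ZMod 3) := (chi h').comp (Subgroup.inclusion hRN)
  have hrange : Nat.card φ.range ∣ 3 := by
    refine dvd_trans ?_ (show Nat.gcd 27 24 ∣ 3 by norm_num)
    refine Nat.dvd_gcd (hR ▸ Subgroup.card_range_dvd φ) ((Subgroup.card_subgroup_dvd_card _).trans ?_)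
    have e := CfsgLib.Classical.card_SL (F := ZMod 3) 2 (by norm_num)
    simp [Fin.prod_univ_two] at e
    rw [Nat.card_eq_fintype_card, show Fintype.card (Matrix.SpecialLinearGroup (Fin 2) (ZMod 3)) = 24 by omega]
  set S := R ⊓ R'
  have hker : φ.ker ≤ S.subgroupOf R := fun x hx =>
    ⟨x.2, mem_of_chi h' (Subgroup.inclusion hRN x) (le_specialLinear h x.2) hx⟩
  have e := φ.ker.card_mul_index
  rw [Subgroup.index_ker, hR] at e
  have hSc : Nat.card (S.subgroupOf R) = Nat.card S :=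
    Nat.card_congr (Subgroup.subgroupOfEquivOfLe inf_le_left).toEquiv
  have h9 : 9 ∣ Nat.card S := by
    obtain ⟨k, hk⟩ := hrange
    have h1 : 9 ∣ Nat.card φ.ker := by
      refine ⟨k, ?_⟩
      have h2 : 0 < Nat.card φ.range := Nat.card_pos
      apply Nat.eq_of_mul_eq_mul_right h2
      rw [e, show 9 * k * Nat.card φ.range = 9 * (Nat.card φ.range * k) by ring, ← hk]
    exact h1.trans (hSc ▸ Subgroup.card_dvd_of_le hker)
  have hSd : Nat.card S ∣ 27 := hR ▸ Subgroup.card_dvd_of_le inf_le_left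
  by_cases h27 : Nat.card S = 27
  · have hS1 : S = R := Subgroup.eq_of_le_of_card_ge inf_le_left (by rw [h27, hR])
    exact Subgroup.eq_of_le_of_card_ge (hS1 ▸ inf_le_right) (by rw [hR, hR'])
  have hS9 : Nat.card S = 9 := by
    have := Nat.le_of_dvd (by norm_num) hSd
    obtain ⟨k, hk⟩ := h9
    obtain ⟨i, -, hi⟩ := (Nat.dvd_prime_pow Nat.prime_three).1 (show Nat.card S ∣ 3 ^ 3 from hSd)
    rw [hi] at hk this h27 ⊢
    have hi3 : i ≤ 3 := by
      by_contra hlt
      have := Nat.pow_le_pow_right (show 0 < 3 by norm_num) (show 4 ≤ i by omega)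
      omega
    interval_cases i <;> simp at hk h27 ⊢ <;> omega
  haveI : Fact (Nat.Prime 3) := ⟨Nat.prime_three⟩
  have hsc := le_scalars_of_invariant h h3 (S := S) inf_le_left
    (fun x hx y hy => congrArg Subtype.val
      (IsPGroup.commutative_of_card_eq_prime_sq (p := 3) (G := S) (by rw [hS9]; norm_num) ⟨x, hx⟩ ⟨y, hy⟩))
    (fun x hx => ⟨conj_mem_of (fEl_mem h h3).1 hx.1, conj_mem_of (hle (fEl_mem h h3)) hx.2⟩)
  have h3' : Nat.card S ∣ 3 := by
    refine dvd_trans ?_ (card_scalars_dvd (inf_le_left.trans (le_specialLinear h) : S ≤ specialLinear (Fin 3) F))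
    exact (Nat.card_congr (Equiv.subtypeUnivEquiv fun x : S => hsc x.2).symm).dvd
  rw [hS9] at h3'
  norm_num at h3'

omit [Finite F] in
include h in
theorem not_le_quadSimilarity {Q : (Fin 3 → F) → F} (hQ : IsNondegenerateQuadraticForm Q) :
    ¬ R ≤ quadSimilarityGroup Q := by
  intro hle
  obtain ⟨ca, hca⟩ := hle h.aR
  obtain ⟨cb, hcb⟩ := hle h.bR
  obtain ⟨v, hv⟩ : ∃ v, Q v ≠ 0 := by
    by_contra! hall
    obtain ⟨x, hx⟩ := (hQ.nondegenerate (Pi.single 0 1) (by simp)).1
    simp [QuadraticMap.polar, hall] at hx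
  have hr := (rel_a (h := h)).2
  have e := congrArg (fun X : M3 => Q (X *ᵥ v)) hr
  simp only [← Matrix.mulVec_mulVec, Matrix.smul_mulVec, hQ.smul, hca, hcb] at e
  rw [lp, ZMod.val_one, pow_one] at e
  have h1 : h.lam ^ 2 = 1 := by
    have hne : (ca : F) * ((cb : F) * Q v) ≠ 0 := mul_ne_zero ca.ne_zero (mul_ne_zero cb.ne_zero hv)
    apply mul_right_cancel₀ hne
    linear_combination -e
  exact h.prim.pow_ne_one_of_pos_of_lt two_ne_zero (by norm_num) h1

omit [Finite F] in
theorem mem_subfieldSubgroup_iff {F₀ : Subfield F} {P g : GL (Fin 3) F} :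
    g ∈ subfieldSubgroup F₀ P ↔ ∃ (A : GL (Fin 3) F₀) (c : Fˣ),
      ((P⁻¹ * g * P : GL (Fin 3) F) : M3) = (c : F) • (A : Matrix (Fin 3) (Fin 3) F₀).map F₀.subtype := by
  rw [subfieldSubgroup, Subgroup.mem_map]
  constructor
  · rintro ⟨x, hx, rfl⟩
    obtain ⟨_, ⟨A, rfl⟩, s, hs, rfl⟩ := Subgroup.mem_sup_of_normal_right.1 hx
    obtain ⟨c, hc⟩ := (mem_scalars_iff s).1 hs
    refine ⟨A, c, ?_⟩
    simp only [MulEquiv.coe_toMonoidHom, MulAut.conj_apply]
    rw [show P⁻¹ * (P * (Matrix.GeneralLinearGroup.map (F₀.subtype : F₀ →+* F) A * s) * P⁻¹) * P =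
      Matrix.GeneralLinearGroup.map (F₀.subtype : F₀ →+* F) A * s by group, Units.val_mul, hc, mul_smul_comm, mul_one]
    rfl
  · rintro ⟨A, c, hc⟩
    refine ⟨P⁻¹ * g * P, ?_, by simp only [MulEquiv.coe_toMonoidHom, MulAut.conj_apply]; group⟩
    refine Subgroup.mem_sup_of_normal_right.2 ⟨_, ⟨A, rfl⟩,
      Units.map (Matrix.scalar (Fin 3) : F →+* M3).toMonoidHom c,
      (⟨c, rfl⟩ : Units.map (Matrix.scalar (Fin 3) : F →+* M3).toMonoidHom c ∈ scalars (Fin 3) F), Units.ext ?_⟩
    rw [Units.val_mul, hc]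
    show (A : Matrix (Fin 3) (Fin 3) F₀).map F₀.subtype * Matrix.scalar (Fin 3) (c : F) = _
    rw [Matrix.scalar_apply, ← Matrix.smul_one_eq_diagonal, mul_smul_comm, mul_one]

omit [Finite F] in
include h in
theorem not_le_subfield {F₀ : Subfield F} (hl : h.lam ∉ F₀) (P : GL (Fin 3) F) :
    ¬ R ≤ subfieldSubgroup F₀ P := by
  intro hle
  obtain ⟨A, ca, hA⟩ := mem_subfieldSubgroup_iff.1 (hle h.aR)
  obtain ⟨B, cb, hB⟩ := mem_subfieldSubgroup_iff.1 (hle h.bR)
  set A' := (A : Matrix (Fin 3) (Fin 3) F₀).map F₀.subtype with hA'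
  set B' := (B : Matrix (Fin 3) (Fin 3) F₀).map F₀.subtype with hB'
  have hr := (rel_a (h := h)).2
  rw [lp, ZMod.val_one, pow_one] at hr
  have hconj : ((P⁻¹ * h.a * P : GL (Fin 3) F) : M3) * ((P⁻¹ * h.b * P : GL (Fin 3) F) : M3) =
      h.lam • (((P⁻¹ * h.b * P : GL (Fin 3) F) : M3) * ((P⁻¹ * h.a * P : GL (Fin 3) F) : M3)) := by
    rw [← Units.val_mul, ← Units.val_mul, show P⁻¹ * h.a * P * (P⁻¹ * h.b * P) = P⁻¹ * (h.a * h.b) * P by group,
      show P⁻¹ * h.b * P * (P⁻¹ * h.a * P) = P⁻¹ * (h.b * h.a) * P by group]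
    simp only [Units.val_mul, hr, mul_smul_comm, smul_mul_assoc]
  rw [hA, hB, smul_mul_smul_comm, smul_mul_smul_comm, smul_smul] at hconj
  have e : A' * B' = h.lam • (B' * A') := by
    have hne : (ca : F) * cb ≠ 0 := mul_ne_zero ca.ne_zero cb.ne_zero
    apply smul_right_injective M3 hne
    show ((ca : F) * cb) • (A' * B') = ((ca : F) * cb) • (h.lam • (B' * A'))
    rw [hconj, smul_smul]
    congr 1
    ring
  rw [hA', hB', ← Matrix.map_mul, ← Matrix.map_mul, ← Units.val_mul, ← Units.val_mul] at e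
  obtain ⟨i, j, hij⟩ : ∃ i j, ((B * A : GL (Fin 3) F₀) : Matrix (Fin 3) (Fin 3) F₀) i j ≠ 0 := by
    by_contra! hall
    exact (B * A).ne_zero (Matrix.ext hall)
  have e1 := congrFun (congrFun e i) j
  simp only [Matrix.map_apply, Matrix.smul_apply, smul_eq_mul] at e1
  refine hl ?_
  have hne : F₀.subtype (((B * A : GL (Fin 3) F₀) : Matrix (Fin 3) (Fin 3) F₀) i j) ≠ 0 := fun h0 => hij
    (F₀.subtype.injective (h0.trans (map_zero _).symm))
  rw [show h.lam = F₀.subtype (((A * B : GL (Fin 3) F₀) : Matrix (Fin 3) (Fin 3) F₀) i j) /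
    F₀.subtype (((B * A : GL (Fin 3) F₀) : Matrix (Fin 3) (Fin 3) F₀) i j) by rw [e1, mul_div_assoc, div_self hne, mul_one],
    ← map_div₀]
  exact (((A * B : GL (Fin 3) F₀) : Matrix (Fin 3) (Fin 3) F₀) i j /
    ((B * A : GL (Fin 3) F₀) : Matrix (Fin 3) (Fin 3) F₀) i j).2

include h h3 hR in
/-- No group with socle alternating of degree six contains the normaliser. -/
theorem not_le_six {M P : Subgroup (GL (Fin 3) F)} (hc : IsResidualCore M P)
    (hM : M ≤ specialLinear (Fin 3) F) (h5 : (5 : F) ≠ 0)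
    (e : Nonempty ((P ⧸ (scalars (Fin 3) F).subgroupOf P) ≃* alternatingGroup (Fin 6)))
    (hle : subgroupNormalizer R ⊓ specialLinear (Fin 3) F ≤ M) : False := by
  classical
  obtain ⟨hn, hs, hcard, hC, hd, hf⟩ := sixData hc hM h5 e
  haveI := hn
  haveI := hs
  haveI : Fact (Nat.Prime 3) := ⟨Nat.prime_three⟩
  haveI : Fact (Nat.Prime 2) := ⟨Nat.prime_two⟩
  set A := socle hc with hA
  set π := QuotientGroup.mk' ((scalars (Fin 3) F).subgroupOf M) with hπ
  have h720 := card_dvd_720 hcard hC hd hf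
  have hRM : R ≤ M := fun x hx => hle ⟨Subgroup.le_normalizer hx, le_specialLinear h hx⟩
  let ρ : R →* M ⧸ (scalars (Fin 3) F).subgroupOf M := π.comp (Subgroup.inclusion hRM)
  have hker : Nat.card ρ.ker ∣ 3 := by
    refine dvd_trans (Subgroup.card_dvd_of_le fun x hx => ?_) (card_scalars_dvd (le_specialLinear h))
    rw [Subgroup.mem_subgroupOf]
    exact Subgroup.mem_subgroupOf.1 ((QuotientGroup.eq_one_iff (Subgroup.inclusion hRM x)).1 hx)
  have hρA : ρ.range ≤ A := by
    rintro _ ⟨x, rfl⟩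
    have hx : (QuotientGroup.mk' A (ρ x)) ^ 27 = 1 := by
      rw [← map_pow, ← map_pow, show x ^ 27 = 1 by rw [← hR]; exact pow_card_eq_one', map_one, map_one]
    have hidx : A.index ∣ 2 := by
      have e1 := A.card_mul_index
      rw [hcard] at e1
      exact Nat.dvd_of_mul_dvd_mul_left (show 0 < 360 by norm_num) (e1 ▸ h720)
    have hx2 : (QuotientGroup.mk' A (ρ x)) ^ 2 = 1 := orderOf_dvd_iff_pow_eq_one.1
      (((orderOf_dvd_natCard _).trans (A.index_eq_card ▸ dvd_rfl)).trans hidx)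
    refine (QuotientGroup.eq_one_iff _).1 (orderOf_eq_one_iff.1 (Nat.eq_one_of_dvd_coprimes
      (show Nat.Coprime 27 2 by norm_num) (orderOf_dvd_of_pow_eq_one hx) (orderOf_dvd_of_pow_eq_one hx2)))
  set S := ρ.range.subgroupOf A with hS
  have hA9 : (Nat.card A).factorization 3 = 2 := by
    rw [hcard, show (360 : ℕ) = 3 ^ 2 * 40 by norm_num, Nat.factorization_mul (by norm_num) (by norm_num),
      Nat.Prime.factorization_pow (by norm_num), Finsupp.add_apply, Finsupp.single_eq_same,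
      Nat.factorization_eq_zero_of_not_dvd (by norm_num)]
  have hS9 : Nat.card S = 9 := by
    rw [hS, Nat.card_congr (Subgroup.subgroupOfEquivOfLe hρA).toEquiv]
    have e1 := ρ.ker.card_mul_index
    rw [Subgroup.index_ker, hR] at e1
    have h27 : Nat.card ρ.range ∣ 27 := e1 ▸ dvd_mul_left _ _
    have hA' : Nat.card ρ.range ∣ 360 := hcard ▸ Subgroup.card_dvd_of_le hρA
    have h9 := Nat.le_of_dvd (by norm_num) (Nat.dvd_gcd h27 hA')
    rw [show Nat.gcd 27 360 = 9 by norm_num] at h9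
    rcases (Nat.dvd_prime Nat.prime_three).1 hker with hk | hk <;> rw [hk] at e1 <;> omega
  let T : Sylow 3 A := Sylow.ofCard S (by rw [hS9, hA9]; norm_num)
  have hfix : ∀ x : GL (Fin 3) F, ∀ hx : x ∈ subgroupNormalizer R ⊓ specialLinear (Fin 3) F,
      sylHom A 3 (π ⟨x, hle hx⟩) T = T := by
    intro x hx
    refine sylHom_fixed _ fun s hs => ?_
    obtain ⟨r, hr⟩ := hs
    refine ⟨⟨_, conj_mem_of hx.1 r.2⟩, ?_⟩
    rw [Subgroup.coe_subtype, MulAut.conjNormal_apply]
    show π ⟨x * r * x⁻¹, _⟩ = _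
    rw [show (s : M ⧸ (scalars (Fin 3) F).subgroupOf M) = ρ r from hr.symm]
    simp only [ρ, MonoidHom.comp_apply, ← map_inv, ← map_mul]
    rfl
  set f := π ⟨fEl h h3, hle (fEl_mem h h3)⟩ with hf'
  set g := π ⟨gEl h h3, hle (gEl_mem h h3)⟩ with hg'
  set j := π ⟨jEl h, hle (jEl_mem h h3)⟩ with hj'
  have hff : f * f = j := by rw [hf', ← map_mul]; exact congrArg π (Subtype.ext (fEl_sq h h3))
  have hgg : g * g = j := by rw [hg', ← map_mul]; exact congrArg π (Subtype.ext (gEl_sq h h3))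
  have hjj : j * j = 1 := by rw [hj', ← map_mul, ← map_one π]; exact congrArg π (Subtype.ext (jEl_sq h))
  have hfg : f * g = j * (g * f) := by
    rw [hf', hg', hj', ← map_mul, ← map_mul, ← map_mul]; exact congrArg π (Subtype.ext (fEl_gEl h h3))
  have hj1 : j ≠ 1 := fun e1 => jEl_not_scalar h (Subgroup.mem_subgroupOf.1 ((QuotientGroup.eq_one_iff _).1 e1))
  have ho : ∀ x, x * x = j → orderOf x = 4 := fun x hx => by
    refine orderOf_eq_prime_pow (p := 2) (n := 1) ?_ ?_
    · rw [pow_one, pow_two, hx]; exact hj1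
    · rw [show 2 ^ (1 + 1) = 2 * 2 by norm_num, pow_mul, pow_two x, hx, pow_two, hjj]
  have hfA := mem_of_four hcard hC hd hf (ho f hff) (hfix _ (fEl_mem h h3))
  have hgA := mem_of_four hcard hC hd hf (ho g hgg) (hfix _ (gEl_mem h h3))
  set N := Subgroup.normalizer ((T : Subgroup A) : Set A) with hN
  have hmemN : ∀ x : A, sylHom A 3 (x : M ⧸ (scalars (Fin 3) F).subgroupOf M) T = T → x ∈ N := fun x hx => by
    rw [sylHom_coe_apply] at hx
    exact Sylow.smul_eq_iff_mem_normalizer.1 hx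
  let f' : N := ⟨⟨f, hfA⟩, hmemN _ (hfix _ (fEl_mem h h3))⟩
  let g' : N := ⟨⟨g, hgA⟩, hmemN _ (hfix _ (gEl_mem h h3))⟩
  have hN36 : Nat.card N = 36 := by
    have e1 := N.card_mul_index
    have e2 : N.index = 10 :=
      (Sylow.card_eq_index_normalizer T).symm.trans (CfsgLib.TwoGroups.OrderThreeSixty.card_sylow_three hcard)
    rw [hcard, e2] at e1
    omega
  have hof : orderOf f' = 4 := by
    rw [← Subgroup.orderOf_coe, ← Subgroup.orderOf_coe]
    exact ho f hff
  let U : Sylow 2 N := Sylow.ofCard (Subgroup.zpowers f') (by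
    rw [Nat.card_zpowers, hof, hN36, show (36 : ℕ) = 2 ^ 2 * 9 by norm_num,
      Nat.factorization_mul (by norm_num) (by norm_num), Nat.Prime.factorization_pow (by norm_num),
      Finsupp.add_apply, Finsupp.single_eq_same, Nat.factorization_eq_zero_of_not_dvd (by norm_num)]
    norm_num)
  have hgnorm : g' ∈ Subgroup.normalizer ((U : Subgroup N) : Set N) := by
    have hconj : g' * f' * g'⁻¹ = f' ^ 3 := by
      apply Subtype.ext
      apply Subtype.ext
      show g * f * g⁻¹ = f ^ 3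
      rw [mul_inv_eq_iff_eq_mul, show f ^ 3 * g = j * (f * g) by rw [← hff, pow_three]; simp only [mul_assoc], hfg, ← mul_assoc j j, hjj, one_mul]
    refine Extra27.mem_normalizer_of_gen (a := f') (b := f') (U : Subgroup N) ?_ ?_ ?_
    · rw [Set.pair_eq_singleton, ← Subgroup.zpowers_eq_closure]
      rfl
    all_goals exact hconj ▸ Subgroup.pow_mem _ (Subgroup.mem_zpowers f') 3
  have hg2 : IsPGroup 2 (Subgroup.zpowers g') := by
    refine IsPGroup.of_card (n := 2) ?_
    rw [Nat.card_zpowers, ← Subgroup.orderOf_coe, ← Subgroup.orderOf_coe]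
    exact ho g hgg
  have hgU : g' ∈ (U : Subgroup N) :=
    (Subgroup.mem_inf.1 ((hg2.inf_normalizer_sylow U).le ⟨Subgroup.mem_zpowers g', hgnorm⟩)).2
  obtain ⟨k, hk⟩ := Subgroup.mem_zpowers_iff.1 (show g' ∈ Subgroup.zpowers f' from hgU)
  have hc' : f * g = g * f := by
    have := congrArg (fun x : N => ((x : A) : M ⧸ (scalars (Fin 3) F).subgroupOf M))
      (show f' * g' = g' * f' by rw [← hk]; exact (Commute.refl f').zpow_right k)
    exact this
  rw [← hc'] at hfg
  exact hj1 (mul_eq_right.1 hfg.symm)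

omit [Finite F] in
include h in
theorem irreducible_heis (h3 : (3 : F) ≠ 0) (W : Submodule F (Fin 3 → F))
    (hW : ∀ g ∈ R, ∀ w ∈ W, (g : M3) *ᵥ w ∈ W) : W = ⊥ ∨ W = ⊤ := by
  refine (h.absIrred h3).1 W ?_
  rintro _ ⟨g, hg, rfl⟩ _ ⟨w, hw, rfl⟩
  rw [Matrix.toLin'_apply]
  exact hW g hg w hw

end CfsgLib.Geo.SL3.Maximal
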