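/-
An absolutely irreducible group of symplectic type and exponent three in dimension three has order 27.
-/
import Cfsg.Agent.Lib.Geo.SL3.Maximal.Heisenberg

set_option autoImplicit false

namespace CfsgLib.Geo.SL3.Maximal

open Matrix Cfsg.Geo
open CfsgLib.Geo.Extra27 (Heis)
open scoped commutatorElement

variable {F : Type*} [Field F]

local notation "M3" => Matrix (Fin 3) (Fin 3) F

theorem three_ne_zero_of_root {c : F} (hc : c ^ 3 = 1) (hc1 : c ≠ 1) : (3 : F) ≠ 0 := fun h3 => by
  have h : (c - 1) ^ 3 = 0 := by linear_combination hc - (c ^ 2 - c) * h3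
  exact hc1 (sub_eq_zero.1 ((pow_eq_zero_iff three_ne_zero).1 h))

variable [Finite F] {R : Subgroup (GL (Fin 3) F)}

theorem not_commutative_of_absIrred (hi : ActsAbsolutelyIrreducibly (matrixSet R)) : ¬ IsMulCommutative R := by
  intro hc
  obtain ⟨x, hx, y, hy, hxy⟩ := Asch.not_abelian_of_absIrred hi
  exact hxy (congrArg Subtype.val (hc.1.1 ⟨x, hx⟩ ⟨y, hy⟩))

theorem card_le_81 (hs : IsSymplecticTypeGroup 3 R) (hi : ActsAbsolutelyIrreducibly (matrixSet R))
    (hZ : Nat.card (Subgroup.center R) = 3) : Nat.card R ≤ 81 := by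
  classical
  haveI : Fact (Nat.Prime 3) := ⟨Nat.prime_three⟩
  have hpow : ∀ x : R, (x : GL (Fin 3) F) ^ 3 = 1 := fun x => by
    have h := Monoid.pow_exponent_eq_one x
    rw [hs.exponent_eq, show 3 * Nat.gcd 2 3 = 3 by norm_num] at h
    exact congrArg Subtype.val h
  have hna := not_commutative_of_absIrred hi
  haveI : Nontrivial (R ⧸ Subgroup.center R) := by
    rw [← not_subsingleton_iff_nontrivial]
    intro hsub
    refine hna ⟨⟨fun a b => ?_⟩⟩
    have ha : a ∈ Subgroup.center R := (QuotientGroup.eq_one_iff a).1 (Subsingleton.elim _ _)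
    exact (Subgroup.mem_center_iff.1 ha b).symm
  have hq : IsPGroup 3 (R ⧸ Subgroup.center R) := hs.pGroup.to_quotient _
  haveI := hq.center_nontrivial
  obtain ⟨⟨xq, hxq⟩, hxq1⟩ := exists_ne (1 : Subgroup.center (R ⧸ Subgroup.center R))
  obtain ⟨x, rfl⟩ := QuotientGroup.mk'_surjective _ xq
  have hxZ : x ∉ Subgroup.center R := fun h => hxq1 (Subtype.ext ((QuotientGroup.eq_one_iff x).2 h))
  have hcen : ∀ y : R, ⁅x, y⁆ ∈ Subgroup.center R := fun y => by
    rw [← QuotientGroup.eq_one_iff, show ((⁅x, y⁆ : R) : R ⧸ Subgroup.center R) =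
      ⁅(x : R ⧸ Subgroup.center R), (y : R ⧸ Subgroup.center R)⁆ from map_commutatorElement (QuotientGroup.mk' _) _ _,
      commutatorElement_eq_one_iff_mul_comm]
    exact (Subgroup.mem_center_iff.1 hxq _).symm
  let f : R →* Subgroup.center R := MonoidHom.mk' (fun y => ⟨⁅x, y⁆, hcen y⟩) fun y z => Subtype.ext (by
    show ⁅x, y * z⁆ = ⁅x, y⁆ * ⁅x, z⁆
    have h := Subgroup.mem_center_iff.1 (hcen z) y
    rw [show ⁅x, y * z⁆ = ⁅x, y⁆ * (y * ⁅x, z⁆ * y⁻¹) by simp only [commutatorElement_def]; group, h,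
      mul_inv_cancel_right])
  obtain ⟨y, hy⟩ : ∃ y, f y ≠ 1 := by
    by_contra! hall
    exact hxZ (Subgroup.mem_center_iff.2 fun g =>
      (commutatorElement_eq_one_iff_mul_comm.1 (congrArg Subtype.val (hall g))).symm)
  set z : GL (Fin 3) F := ((⁅x, y⁆ : R) : GL (Fin 3) F) with hz
  obtain ⟨c, hc⟩ := (mem_scalars_iff z).1 (Asch.mem_scalars_of_commute hi (g := z)
    fun n hn => (congrArg Subtype.val (Subgroup.mem_center_iff.1 (hcen y) ⟨n, hn⟩)).symm)
  have hc3 : (c : F) ^ 3 = 1 := by
    have h := congrArg (fun u : GL (Fin 3) F => (u : M3) 0 0) (hpow ⁅x, y⁆)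
    rw [← hz] at h
    simpa [hc, smul_pow] using h
  have hc1 : (c : F) ≠ 1 := fun e => hy (Subtype.ext (Subtype.ext (Units.ext (by
    show (z : M3) = 1
    rw [hc, e, one_smul]))))
  have h3 := three_ne_zero_of_root hc3 hc1
  set A : M3 := ((x : GL (Fin 3) F) : M3) with hA
  have htr : A.trace = 0 := by
    have e : A = (c : F) • ((y : GL (Fin 3) F) : M3) * A * (((y : GL (Fin 3) F)⁻¹ : GL (Fin 3) F) : M3) := by
      rw [hA, ← one_mul ((y : GL (Fin 3) F) : M3), ← smul_mul_assoc, ← hc, ← Units.val_mul, ← Units.val_mul, ← Units.val_mul]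
      refine congrArg Units.val ?_
      rw [hz, commutatorElement_def]
      push_cast
      group
    have h1 := congrArg Matrix.trace e
    rw [smul_mul_assoc, smul_mul_assoc, Matrix.trace_smul, Matrix.trace_units_conj, smul_eq_mul] at h1
    have : ((c : F) - 1) * A.trace = 0 := by linear_combination -h1
    exact (mul_eq_zero.1 this).resolve_left (sub_ne_zero.2 hc1)
  have hprim : IsPrimitiveRoot (c : F) 3 := IsPrimitiveRoot.iff_orderOf.2 (orderOf_eq_prime hc3 hc1)
  have hg := geom hprim
  let S : Finset F := {1, (c : F), (c : F) ^ 2}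
  have hmemS : ∀ t : F, t ∈ S → t ^ 3 = 1 := by
    intro t ht
    simp only [S, Finset.mem_insert, Finset.mem_singleton] at ht
    rcases ht with rfl | rfl | rfl
    · exact one_pow _
    · exact hc3
    · rw [← pow_mul, mul_comm, pow_mul, hc3, one_pow]
  obtain ⟨G, d, hd, hG⟩ := SplitDiag.exists_diag A S ⟨1, by simp [S]⟩ (by
    have hc2 : (c : F) ^ 2 ≠ 1 := hprim.pow_ne_one_of_pos_of_lt two_ne_zero (by norm_num)
    have hcc : (c : F) ≠ (c : F) ^ 2 := fun e => hc1 (mul_left_cancel₀ c.ne_zero (by rw [mul_one, ← sq, ← e]))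
    rw [Finset.prod_insert (by simp [hc1.symm, hc2.symm]), Finset.prod_pair hcc]
    have e1 : (Polynomial.C (c : F)) ^ 2 + Polynomial.C (c : F) + 1 = 0 := by
      rw [← Polynomial.C_pow, ← Polynomial.C_1, ← Polynomial.C_add, ← Polynomial.C_add, hg, Polynomial.C_0]
    rw [show (Polynomial.X - Polynomial.C (1 : F)) * ((Polynomial.X - Polynomial.C (c : F)) *
        (Polynomial.X - Polynomial.C ((c : F) ^ 2))) = Polynomial.X ^ 3 - 1 by
      simp only [Polynomial.C_pow, Polynomial.C_1]
      linear_combination (-(Polynomial.X : Polynomial F) ^ 2 + Polynomial.C (c : F) * Polynomial.X -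
        Polynomial.C (c : F) + 1) * e1]
    rw [map_sub, map_pow, Polynomial.aeval_X, map_one, hA, ← Units.val_pow_eq_pow_val, hpow, Units.val_one, sub_self])
  have hsum : d 0 + d 1 + d 2 = 0 := by
    have e : A = (G : M3) * Matrix.diagonal d * ((G⁻¹ : GL (Fin 3) F) : M3) := (Units.eq_mul_inv_iff_mul_eq _).2 hG
    rw [e, Matrix.trace_units_conj, Matrix.trace_fin_three] at htr
    simpa using htr
  have hdist : ∀ i j : Fin 3, i ≠ j → d i ≠ d j := by
    have key : ∀ a b : F, a ^ 3 = 1 → b ^ 3 = 1 → 2 * a + b = 0 → False := fun a b ha hb he => by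
      have : (9 : F) = 0 := by
        linear_combination (b ^ 2 - 2 * a * b + 4 * a ^ 2) * he - 8 * ha - hb
      exact h3 (mul_self_eq_zero.1 (by linear_combination this))
    intro i j hij e
    have h0 := hmemS _ (hd 0)
    have h1 := hmemS _ (hd 1)
    have h2 := hmemS _ (hd 2)
    fin_cases i <;> fin_cases j <;> simp at hij e <;>
      first
      | exact key (d 0) (d 2) h0 h2 (by linear_combination hsum + e)
      | exact key (d 0) (d 2) h0 h2 (by linear_combination hsum - e)
      | exact key (d 0) (d 1) h0 h1 (by linear_combination hsum + e)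
      | exact key (d 0) (d 1) h0 h1 (by linear_combination hsum - e)
      | exact key (d 1) (d 0) h1 h0 (by linear_combination hsum + e)
      | exact key (d 1) (d 0) h1 h0 (by linear_combination hsum - e)
  let D : f.ker → M3 := fun u =>
    ((G⁻¹ : GL (Fin 3) F) : M3) * (((u : R) : GL (Fin 3) F) : M3) * (G : M3)
  have hD : ∀ u, D u = Matrix.diagonal fun i => D u i i := by
    intro u
    have hcm : A * (((u : R) : GL (Fin 3) F) : M3) = (((u : R) : GL (Fin 3) F) : M3) * A := by
      have h1 := commutatorElement_eq_one_iff_mul_comm.1 (congrArg Subtype.val u.2)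
      rw [hA, ← Units.val_mul, ← Units.val_mul, ← Subgroup.coe_mul, ← Subgroup.coe_mul, h1]
    have hAG : ((G⁻¹ : GL (Fin 3) F) : M3) * A = Matrix.diagonal d * ((G⁻¹ : GL (Fin 3) F) : M3) := by
      calc _ = ((G⁻¹ : GL (Fin 3) F) : M3) * (A * (G : M3)) * ((G⁻¹ : GL (Fin 3) F) : M3) := by
            simp only [mul_assoc, Units.mul_inv, mul_one]
        _ = _ := by rw [hG, ← mul_assoc, Units.inv_mul, one_mul]
    have e : Matrix.diagonal d * D u = D u * Matrix.diagonal d := by
      show Matrix.diagonal d * (_ * _ * _) = _ * _ * _ * _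
      rw [← mul_assoc, ← mul_assoc, ← hAG, mul_assoc _ A, hcm, ← mul_assoc, mul_assoc _ A, hG, ← mul_assoc]
    ext i j
    by_cases hij : i = j
    · subst hij; simp
    rw [Matrix.diagonal_apply_ne _ hij]
    have h1 := congrFun (congrFun e i) j
    rw [Matrix.diagonal_mul, Matrix.mul_diagonal] at h1
    exact (mul_eq_zero.1 (show (d i - d j) * D u i j = 0 by linear_combination h1)).resolve_left
      (sub_ne_zero.2 (hdist i j hij))
  have hD3 : ∀ u i, D u i i ^ 3 = 1 := by
    intro u i
    have e : D u ^ 3 = 1 := by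
      show (_ * (((u : R) : GL (Fin 3) F) : M3) * _) ^ 3 = 1
      rw [Units.conj_pow', ← Units.val_pow_eq_pow_val, hpow, Units.val_one, mul_one, Units.inv_mul]
    rw [hD u, Matrix.diagonal_pow] at e
    have := congrFun (congrFun e i) i
    simpa using this
  choose k hk hkc using fun u i => Extra27.eq_pow_of_cube hprim (hD3 u i)
  have hinj : Function.Injective fun u => fun i => (⟨k u i, hk u i⟩ : Fin 3) := by
    intro u v e
    have hDe : D u = D v := by
      rw [hD u, hD v]
      congr 1
      funext i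
      rw [← hkc u i, ← hkc v i, show k u i = k v i from congrArg Fin.val (congrFun e i)]
    exact Subtype.ext (Subtype.ext (Units.ext ((G.mul_left_inj).1 ((G⁻¹).mul_right_inj.1 (by
      simpa only [D, mul_assoc] using hDe)))))
  have h27 : Nat.card f.ker ≤ 27 := by
    refine (Nat.card_le_card_of_injective _ hinj).trans ?_
    rw [Nat.card_eq_fintype_card, Fintype.card_fun, Fintype.card_fin]
    norm_num
  have e := f.ker.card_mul_index
  rw [Subgroup.index_ker] at e
  have hr : Nat.card f.range ≤ 3 := (Subgroup.card_le_card_group _).trans hZ.le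
  rw [← e]
  exact (Nat.mul_le_mul h27 hr).trans (by norm_num)

/-- The data of the linear case give order 27. -/
theorem card_of_data [Fintype F] (hd : IsLinearSymplecticTypeData 3 R) : Nat.card R = 27 := by
  obtain ⟨p, e, -, -, hc⟩ := hd.field
  rcases hc with ⟨-, -, hZ, m, hm, hcard⟩ | ⟨h2, -⟩ | ⟨h2, -⟩
  · have h := card_le_81 hd.symplecticType hd.absIrred hZ
    rw [hcard] at h ⊢
    have : m = 1 := by
      by_contra hne
      have h5 := Nat.pow_le_pow_right (show 0 < 3 by norm_num) (show 5 ≤ 1 + 2 * m by omega)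
      omega
    rw [this]
    norm_num
  · norm_num at h2
  · norm_num at h2

/-- Coordinates for a group of order 27 over a field with cube roots of unity. -/
theorem exists_heis_of (hs : IsSymplecticTypeGroup 3 R) (hi : ActsAbsolutelyIrreducibly (matrixSet R))
    (hR : Nat.card R = 27) [Fintype F] (h3 : 3 ∣ Fintype.card F - 1) :
    (3 : F) ≠ 0 ∧ Nonempty (Heis R) := by
  obtain ⟨l, hl⟩ := Extra27.exists_primitive (F := F) h3 (by norm_num)
  have h := three_ne_zero_of_root hl.pow_eq_one (hl.ne_one (by norm_num))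
  exact ⟨h, Extra27.exists_heis hl h R hR (by rw [hs.exponent_eq]; norm_num) (not_commutative_of_absIrred hi)⟩

end CfsgLib.Geo.SL3.Maximal
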