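/-
The orders of the geometric subgroups of SL(3,q) do not divide one another.
-/
import Mathlib

set_option autoImplicit false

namespace CfsgLib.Geo.SL3.Maximal.Arith

/-- `q² + q + 1`. -/
abbrev singer (q : ℕ) : ℕ := q ^ 2 + q + 1

/-- The order of SL(3,q). -/
abbrev ordSL (q : ℕ) : ℕ := q ^ 3 * (q ^ 2 - 1) * (q ^ 3 - 1)

/-- The order of SU(3,q). -/
abbrev ordSU (q : ℕ) : ℕ := q ^ 3 * (q ^ 2 - 1) * (q ^ 3 + 1)

theorem coprime_singer_q (q : ℕ) : Nat.Coprime (singer q) q := by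
  rw [show singer q = 1 + q * (q + 1) by ring, Nat.coprime_add_mul_left_left]
  exact Nat.coprime_one_left q

theorem singer_odd (q : ℕ) : ¬ 2 ∣ singer q := by
  obtain ⟨k, hk⟩ := (Nat.even_mul_succ_self q).two_dvd
  rw [show singer q = q * (q + 1) + 1 by ring, hk]
  omega

theorem nine_not_dvd_singer (q : ℕ) : ¬ 9 ∣ singer q := by
  rw [Nat.dvd_iff_mod_eq_zero]
  have h := Nat.mod_add_div q 9
  have : singer q % 9 = ((q % 9) ^ 2 + q % 9 + 1) % 9 := by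
    simp [singer, Nat.add_mod, Nat.pow_mod]
  rw [this]
  have := Nat.mod_lt q (show 9 > 0 by norm_num)
  interval_cases q % 9 <;> norm_num

theorem gcd_singer_sub_one {q : ℕ} (hq : 1 ≤ q) : Nat.gcd (singer q) (q - 1) ∣ 3 := by
  obtain ⟨t, rfl⟩ : ∃ t, q = t + 1 := ⟨q - 1, by omega⟩
  rw [Nat.add_sub_cancel, show singer (t + 1) = 3 + t * (t + 3) by ring, Nat.gcd_comm, Nat.gcd_add_mul_left_right]
  exact Nat.gcd_dvd_right _ _

theorem gcd_singer_add_one (q : ℕ) : Nat.gcd (singer q) (q + 1) = 1 := by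
  rw [show singer q = 1 + (q + 1) * q by ring, Nat.gcd_comm, Nat.gcd_add_mul_left_right, Nat.gcd_one_right]

/-- What is left of the Singer order after removing `q - 1`, `q + 1`, `q` divides nine. -/
theorem singer_dvd_reduce {q m : ℕ} (hq : 1 ≤ q) (a b c : ℕ)
    (h : singer q ∣ m * ((q - 1) ^ a * (q + 1) ^ b * q ^ c)) : singer q ∣ m * 3 ^ a := by
  have hb : Nat.Coprime (singer q) ((q + 1) ^ b * q ^ c) :=
    Nat.Coprime.mul_right (Nat.Coprime.pow_right _ (gcd_singer_add_one q))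
      (Nat.Coprime.pow_right _ (coprime_singer_q q))
  rw [mul_assoc ((q - 1) ^ a), ← mul_assoc m] at h
  have h' := hb.dvd_of_dvd_mul_right h
  refine (Nat.dvd_gcd_mul_iff_dvd_mul.2 ?_).trans ?_ (b := Nat.gcd (singer q) ((q - 1) ^ a) * m)
  · rwa [mul_comm]
  · rw [mul_comm m]
    exact Nat.mul_dvd_mul_right ((gcd_pow_right_dvd_pow_gcd (a := singer q) (b := q - 1) (k := a) :
      Nat.gcd (singer q) ((q - 1) ^ a) ∣ Nat.gcd (singer q) (q - 1) ^ a).trans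
      (pow_dvd_pow_of_dvd (gcd_singer_sub_one hq) a)) m

theorem singer_small {q : ℕ} (hq : 2 ≤ q) (h : singer q ∣ 27) : False := by
  have h9 := nine_not_dvd_singer q
  have h7 : 7 ≤ singer q := by
    have := Nat.pow_le_pow_left hq 2
    simp only [singer]; omega
  have hle := Nat.le_of_dvd (by norm_num) h
  generalize singer q = n at *
  interval_cases n <;> omega

theorem not_singer_mon {q : ℕ} (hq : 2 ≤ q) : ¬ singer q ∣ 6 * (q - 1) ^ 2 := by
  intro h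
  have h1 := singer_dvd_reduce (q := q) (m := 6) (by omega) 2 0 0 (by simpa using h)
  have h2 : Nat.Coprime (singer q) 2 := (Nat.Prime.coprime_iff_not_dvd Nat.prime_two).2 (singer_odd q) |>.symm
  exact singer_small hq (h2.dvd_of_dvd_mul_left (by simpa [show (6 : ℕ) * 3 ^ 2 = 2 * 27 by norm_num] using h1))

theorem not_singer_orth {q : ℕ} (hq : 2 ≤ q) : ¬ singer q ∣ 3 * (q * (q ^ 2 - 1)) := by
  intro h
  rw [show q ^ 2 - 1 = (q + 1) * (q - 1) from by simpa using Nat.sq_sub_sq q 1] at h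
  have h1 := singer_dvd_reduce (q := q) (m := 3) (by omega) 1 1 1 (by
    rw [pow_one, pow_one, pow_one, show (q - 1) * (q + 1) * q = q * ((q + 1) * (q - 1)) by ring]
    exact h)
  exact singer_small hq (h1.trans (by norm_num))

theorem not_singer_hess {q : ℕ} (hq : 2 ≤ q) : ¬ singer q ∣ 648 := by
  intro h
  have h2 : Nat.Coprime (singer q) 8 := by
    rw [show (8 : ℕ) = 2 ^ 3 by norm_num]
    exact Nat.Coprime.pow_right _ (((Nat.Prime.coprime_iff_not_dvd Nat.prime_two).2 (singer_odd q)).symm)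
  have h1 : singer q ∣ 3 ^ 4 := h2.dvd_of_dvd_mul_left (by simpa using h)
  obtain ⟨k, hk, e⟩ := (Nat.dvd_prime_pow Nat.prime_three).1 h1
  rcases Nat.lt_or_ge k 4 with hk' | hk'
  · exact singer_small hq (e ▸ pow_dvd_pow 3 (show k ≤ 3 by omega))
  · exact nine_not_dvd_singer q (e ▸ pow_dvd_pow 3 (show 2 ≤ k by omega))

theorem not_singer_psl {p : ℕ} (hp : p.Prime) (hp2 : p ≠ 2) : ¬ singer p ∣ 1008 := by
  intro h
  have h3 := hp.two_le
  have hle := Nat.le_of_dvd (by norm_num) h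
  have hlt : p < 32 := by
    by_contra hge
    have := Nat.pow_le_pow_left (not_lt.1 hge) 2
    simp only [singer] at hle; omega
  interval_cases p <;> first | omega | (revert h; decide) | exact absurd hp (by decide)

/-- The numerical conditions on a residual group with socle of degree six. -/
def SixCond (q p : ℕ) : Prop :=
  p.Prime ∧ ((q = p ∧ (p % 15 = 1 ∨ p % 15 = 4)) ∨ (q = p ^ 2 ∧ p ≠ 3 ∧ (p % 5 = 2 ∨ p % 5 = 3)))

theorem SixCond.lt {q p : ℕ} (h : SixCond q p) : 2 ≤ q := by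
  obtain ⟨hp, ⟨rfl, -⟩ | ⟨rfl, -⟩⟩ := h
  · exact hp.two_le
  · have := Nat.pow_le_pow_left hp.two_le 2; omega

theorem not_singer_six {q p : ℕ} (h : SixCond q p) (h4 : q ≠ 4) : ¬ singer q ∣ 2160 := by
  intro hd
  have h2 := h.lt
  have hle := Nat.le_of_dvd (by norm_num) hd
  have hlt : q < 47 := by
    by_contra hge
    have := Nat.pow_le_pow_left (not_lt.1 hge) 2
    simp only [singer] at hle; omega
  obtain ⟨hp, ⟨rfl, hm⟩ | ⟨rfl, hp3, hm⟩⟩ := h
  · interval_cases q <;> first | omega | (revert hd; decide) | exact absurd hp (by decide)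
  · have : p < 7 := by
      by_contra hge
      have := Nat.pow_le_pow_left (not_lt.1 hge) 2
      omega
    have := hp.two_le
    interval_cases p <;> first | omega | (revert hd; decide)

theorem not_mon_singer {q : ℕ} : ¬ 6 * (q - 1) ^ 2 ∣ 3 * singer q := fun h =>
  singer_odd q ((Nat.prime_two.dvd_mul.1 (dvd_trans ⟨3 * (q - 1) ^ 2, by ring⟩ h)).resolve_left (by norm_num))

theorem not_mon_orth {q : ℕ} (hq : 5 ≤ q) (hodd : Odd q) : ¬ 6 * (q - 1) ^ 2 ∣ 3 * (q * (q ^ 2 - 1)) := by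
  intro h
  obtain ⟨k, rfl⟩ := hodd
  have h1 : 2 * (2 * k) ^ 2 ∣ (2 * k + 1) * ((2 * k + 2) * (2 * k)) := by
    have e : (2 * k + 1) ^ 2 - 1 = (2 * k + 2) * (2 * k) := by
      rw [show (2 * k + 1) ^ 2 = (2 * k + 2) * (2 * k) + 1 by ring, Nat.add_sub_cancel]
    rw [e, Nat.add_sub_cancel, show 6 * (2 * k) ^ 2 = 3 * (2 * (2 * k) ^ 2) by ring] at h
    exact Nat.dvd_of_mul_dvd_mul_left (by norm_num) h
  have h2 : 2 * k ∣ (2 * k + 1) * (k + 1) := by
    refine Nat.dvd_of_mul_dvd_mul_left (show 0 < 4 * k by omega) ?_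
    convert h1 using 1 <;> ring
  rw [show (2 * k + 1) * (k + 1) = (k + 1) + 2 * k * (k + 1) by ring] at h2
  have := Nat.le_of_dvd (by omega) ((Nat.dvd_add_left ⟨k + 1, rfl⟩).1 h2)
  omega

theorem not_mon_psl {p : ℕ} (hp5 : 5 ≤ p) : ¬ 6 * (p - 1) ^ 2 ∣ 1008 := by
  intro h
  have hle := Nat.le_of_dvd (by norm_num) h
  have hlt : p < 14 := by
    by_contra hge
    have := Nat.pow_le_pow_left (show 13 ≤ p - 1 by omega) 2
    omega
  interval_cases p <;> revert h <;> decide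

theorem not_mon_six {q p : ℕ} (h : SixCond q p) (h5 : 5 ≤ q) : ¬ 6 * (q - 1) ^ 2 ∣ 2160 := by
  intro hd
  have hle := Nat.le_of_dvd (by norm_num) hd
  have hlt : q < 20 := by
    by_contra hge
    have := Nat.pow_le_pow_left (show 19 ≤ q - 1 by omega) 2
    omega
  obtain ⟨hp, ⟨rfl, hm⟩ | ⟨rfl, hp3, hm⟩⟩ := h
  · interval_cases q <;> first | omega | (revert hd; decide)
  · have : p < 5 := by
      by_contra hge
      have := Nat.pow_le_pow_left (not_lt.1 hge) 2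
      omega
    have := hp.two_le
    interval_cases p <;> first | omega | (revert hd; decide)

theorem coprime_pow_sub_one {p a : ℕ} (hp : 1 ≤ p) (ha : a ≠ 0) (k : ℕ) : Nat.Coprime (p ^ k) (p ^ a - 1) := by
  refine Nat.Coprime.pow_left k ?_
  obtain ⟨b, rfl⟩ : ∃ b, a = b + 1 := ⟨a - 1, by omega⟩
  obtain ⟨t, ht⟩ : ∃ t, p ^ (b + 1) = t + 1 := ⟨p ^ (b + 1) - 1, by
    have := Nat.one_le_pow (b + 1) p hp; omega⟩
  rw [ht, Nat.add_sub_cancel, Nat.coprime_iff_gcd_eq_one]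
  refine Nat.dvd_one.1 ?_
  have h1 : Nat.gcd p t ∣ t + 1 := (Nat.gcd_dvd_left p t).trans (ht ▸ dvd_pow_self p (by omega))
  exact (Nat.dvd_add_right (Nat.gcd_dvd_right p t)).1 h1

theorem not_singer_sub {q q₀ r : ℕ} (hr : r.Prime) (h0 : 2 ≤ q₀) (hq : q = q₀ ^ r) (h4 : q ≠ 4) :
    ¬ singer q ∣ 3 * ordSL q₀ := by
  intro h
  have hcop : Nat.Coprime (singer q) (q₀ ^ 3) :=
    Nat.Coprime.pow_right _ (Nat.Coprime.coprime_dvd_right (hq ▸ dvd_pow_self q₀ hr.ne_zero) (coprime_singer_q q))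
  have h1 : singer q ∣ 3 * ((q₀ ^ 2 - 1) * (q₀ ^ 3 - 1)) :=
    hcop.dvd_of_dvd_mul_left (by convert h using 1; simp only [ordSL]; ring)
  by_cases hr2 : r = 2
  · subst hr2
    subst hq
    obtain ⟨t, rfl⟩ : ∃ t, q₀ = t + 2 := ⟨q₀ - 2, by omega⟩
    have e1 : (t + 2) ^ 2 - 1 = (t + 1) * (t + 3) := by
      rw [show (t + 2) ^ 2 = (t + 1) * (t + 3) + 1 by ring, Nat.add_sub_cancel]
    have e2 : (t + 2) ^ 3 - 1 = (t + 1) * ((t + 2) ^ 2 + (t + 2) + 1) := by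
      rw [show (t + 2) ^ 3 = (t + 1) * ((t + 2) ^ 2 + (t + 2) + 1) + 1 by ring, Nat.add_sub_cancel]
    have e3 : singer ((t + 2) ^ 2) = (t ^ 2 + 3 * t + 3) * ((t + 2) ^ 2 + (t + 2) + 1) := by
      simp only [singer]; ring
    rw [e1, e2, e3] at h1
    have h2 : t ^ 2 + 3 * t + 3 ∣ 3 * ((t + 1) * (t + 3) * (t + 1)) :=
      Nat.dvd_of_mul_dvd_mul_right (show 0 < (t + 2) ^ 2 + (t + 2) + 1 by positivity) (by convert h1 using 1; ring)
    have e' : 3 * ((t + 1) * (t + 3) * (t + 1)) + (6 * t + 9) = (t ^ 2 + 3 * t + 3) * (3 * t + 6) := by ring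
    have h5 : t ^ 2 + 3 * t + 3 ∣ 6 * t + 9 := (Nat.dvd_add_right h2).1 ⟨_, e'⟩
    have h6 := Nat.le_of_dvd (by omega) h5
    have : t ≤ 4 := by nlinarith
    interval_cases t
    · simp at h4
    all_goals norm_num at h5
  · have h3 : 3 ≤ r := by have := hr.two_le; omega
    have hq3 : q₀ ^ 3 ≤ q := hq ▸ Nat.pow_le_pow_right (by omega) h3
    have hle := Nat.le_of_dvd (by
      have : 1 < q₀ ^ 2 := Nat.one_lt_pow (by norm_num) (by omega)
      have : 1 < q₀ ^ 3 := Nat.one_lt_pow (by norm_num) (by omega)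
      exact Nat.mul_pos three_pos (Nat.mul_pos (by omega) (by omega))) h1
    have h7 : (q₀ ^ 2 - 1) * (q₀ ^ 3 - 1) ≤ q₀ ^ 2 * q₀ ^ 3 := Nat.mul_le_mul (Nat.sub_le _ _) (Nat.sub_le _ _)
    have h8 : q₀ ^ 3 * q₀ ^ 3 ≤ q ^ 2 := by rw [pow_two]; exact Nat.mul_le_mul hq3 hq3
    have h9 : 3 * (q₀ ^ 2 * q₀ ^ 3) ≤ q₀ ^ 3 * q₀ ^ 3 ∨ q₀ = 2 := by
      rcases Nat.lt_or_ge q₀ 3 with h' | h'
      · right; omega
      · left; nlinarith
    rcases h9 with h9 | rfl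
    · simp only [singer] at hle; omega
    · simp only [singer] at hle
      norm_num at hle hq3
      nlinarith

theorem not_singer_unitary {q q₁ : ℕ} (h0 : 3 ≤ q₁) (hq : q = q₁ ^ 2) : ¬ singer q ∣ 3 * ordSU q₁ := by
  intro h
  subst hq
  have hcop : Nat.Coprime (singer (q₁ ^ 2)) (q₁ ^ 3) :=
    Nat.Coprime.pow_right _ (Nat.Coprime.coprime_dvd_right (dvd_pow_self q₁ two_ne_zero) (coprime_singer_q _))
  have h1 : singer (q₁ ^ 2) ∣ 3 * ((q₁ ^ 2 - 1) * (q₁ ^ 3 + 1)) :=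
    hcop.dvd_of_dvd_mul_left (by convert h using 1; simp only [ordSU]; ring)
  obtain ⟨t, rfl⟩ : ∃ t, q₁ = t + 3 := ⟨q₁ - 3, by omega⟩
  have e1 : (t + 3) ^ 2 - 1 = (t + 2) * (t + 4) := by
    rw [show (t + 3) ^ 2 = (t + 2) * (t + 4) + 1 by ring, Nat.add_sub_cancel]
  have e2 : (t + 3) ^ 3 + 1 = (t + 4) * (t ^ 2 + 5 * t + 7) := by ring
  have e3 : singer ((t + 3) ^ 2) = (t ^ 2 + 5 * t + 7) * (t ^ 2 + 7 * t + 13) := by simp only [singer]; ring
  rw [e1, e2, e3] at h1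
  have h2 : t ^ 2 + 7 * t + 13 ∣ 3 * ((t + 2) * (t + 4) * (t + 4)) :=
    Nat.dvd_of_mul_dvd_mul_left (show 0 < t ^ 2 + 5 * t + 7 by positivity) (by convert h1 using 1; ring)
  have h4 : t ^ 2 + 7 * t + 13 ∣ 3 * (2 * t + 7) := by
    have e : (t ^ 2 + 7 * t + 13) * (3 * t + 9) = 3 * ((t + 2) * (t + 4) * (t + 4)) + 3 * (2 * t + 7) := by ring
    exact (Nat.dvd_add_right h2).1 ⟨_, e.symm⟩
  have := Nat.le_of_dvd (by omega) h4
  have : t ≤ 2 := by nlinarith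
  interval_cases t <;> norm_num at h4

theorem not_sub_mon {p a q : ℕ} (hp : p.Prime) (ha : 1 ≤ a) (hq : q = p ^ (a * 2) ∨ ∃ k, q = p ^ k ∧ k ≠ 0) :
    ¬ (p ^ a) ^ 3 ∣ 6 * (q - 1) ^ 2 := by
  intro h
  obtain ⟨k, rfl, hk⟩ : ∃ k, q = p ^ k ∧ k ≠ 0 := hq.elim (fun e => ⟨_, e, by omega⟩) id
  rw [← pow_mul] at h
  have h6 := (Nat.Coprime.pow_right 2 (coprime_pow_sub_one hp.one_le hk (a * 3))).dvd_of_dvd_mul_right h
  have := Nat.le_of_dvd (by norm_num) h6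
  have : 2 ^ 3 ≤ p ^ (a * 3) := (Nat.pow_le_pow_left hp.two_le 3).trans (Nat.pow_le_pow_right hp.pos (by omega))
  omega

theorem not_sub_singer {p a q : ℕ} (hp : p.Prime) (ha : 1 ≤ a) (hq : ∃ k, q = p ^ k ∧ k ≠ 0) :
    ¬ (p ^ a) ^ 3 ∣ 3 * singer q := by
  intro h
  obtain ⟨k, rfl, hk⟩ := hq
  rw [← pow_mul] at h
  have hc : Nat.Coprime (p ^ (a * 3)) (singer (p ^ k)) :=
    Nat.Coprime.pow_left _ (Nat.Coprime.coprime_dvd_left (dvd_pow_self p hk) (coprime_singer_q _).symm)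
  have := Nat.le_of_dvd (by norm_num) (hc.dvd_of_dvd_mul_right h)
  have : 2 ^ 3 ≤ p ^ (a * 3) := (Nat.pow_le_pow_left hp.two_le 3).trans (Nat.pow_le_pow_right hp.pos (by omega))
  omega

/-- A `p`-power dividing three times a power of `p` times a coprime number. -/
theorem exp_le {p a b : ℕ} (hp : p.Prime) {X : ℕ} (hX : Nat.Coprime p X) (h : (p ^ a) ^ 3 ∣ 3 * ((p ^ b) ^ 3 * X)) :
    a ≤ b := by
  rw [← pow_mul, ← pow_mul, ← mul_assoc] at h
  have h1 := (Nat.Coprime.pow_left (a * 3) hX).dvd_of_dvd_mul_right h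
  by_contra hlt
  obtain ⟨c, hc⟩ : ∃ c, a * 3 = b * 3 + (c + 3) := ⟨a * 3 - b * 3 - 3, by omega⟩
  rw [hc, pow_add, mul_comm 3] at h1
  have h2 := Nat.le_of_dvd (by norm_num) (Nat.dvd_of_mul_dvd_mul_left (pow_pos hp.pos _) h1)
  have : 2 ^ 3 ≤ p ^ (c + 3) := (Nat.pow_le_pow_left hp.two_le 3).trans (Nat.pow_le_pow_right hp.pos (by omega))
  omega

theorem coprime_ordSL_part {p b : ℕ} (hp : p.Prime) (hb : b ≠ 0) :
    Nat.Coprime p (((p ^ b) ^ 2 - 1) * ((p ^ b) ^ 3 - 1)) := by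
  rw [← pow_mul, ← pow_mul]
  refine Nat.Coprime.mul_right ?_ ?_ <;>
    simpa using coprime_pow_sub_one hp.one_le (by omega) 1

/-- A divisor of a product is a divisor of the product of the greatest common divisors. -/
theorem dvd_gcd_mul {D c A B : ℕ} (h : D ∣ c * (A * B)) : D ∣ c * (Nat.gcd D A * Nat.gcd D B) := by
  have h1 : D ∣ c * Nat.gcd D (A * B) := by
    rw [← Nat.gcd_mul_left]
    exact Nat.dvd_gcd (Dvd.intro_left c rfl) h
  exact h1.trans (Nat.mul_dvd_mul_left c (Nat.gcd_mul_right_dvd_mul_gcd _ _ _))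

/-- Different prime indices: the subfield groups are not contained in one another. -/
theorem not_sub_sub {p m r r' : ℕ} (hp : p.Prime) (hm : 1 ≤ m) (hr : r.Prime) (hr' : r'.Prime) (hlt : r' < r) :
    ¬ ordSL (p ^ (m * r')) ∣ 3 * ordSL (p ^ (m * r)) := by
  intro h
  have hr'2 := hr'.two_le
  have hmr : m * r ≠ 0 := Nat.mul_ne_zero (by omega) hr.ne_zero
  have hmr' : m * r' ≠ 0 := Nat.mul_ne_zero (by omega) hr'.ne_zero
  have h0 : ((p ^ (m * r')) ^ 2 - 1) * ((p ^ (m * r')) ^ 3 - 1) ∣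
      (p ^ (m * r)) ^ 3 * (3 * (((p ^ (m * r)) ^ 2 - 1) * ((p ^ (m * r)) ^ 3 - 1))) := by
    have : ((p ^ (m * r')) ^ 2 - 1) * ((p ^ (m * r')) ^ 3 - 1) ∣ ordSL (p ^ (m * r')) :=
      Dvd.intro_left ((p ^ (m * r')) ^ 3) (by simp only [mul_assoc])
    have h' := this.trans h
    rw [show 3 * ordSL (p ^ (m * r)) =
      (p ^ (m * r)) ^ 3 * (3 * (((p ^ (m * r)) ^ 2 - 1) * ((p ^ (m * r)) ^ 3 - 1))) by simp only [ordSL]; ring] at h'
    exact h'
  have hX : Nat.Coprime (((p ^ (m * r')) ^ 2 - 1) * ((p ^ (m * r')) ^ 3 - 1)) ((p ^ (m * r)) ^ 3) := by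
    rw [← pow_mul p (m * r) 3]
    exact (Nat.Coprime.pow_left _ (coprime_ordSL_part hp hmr')).symm
  have h1 := hX.dvd_of_dvd_mul_left h0
  set x := p ^ m with hx
  have hx2 : 2 ≤ x := hp.two_le.trans (Nat.le_self_pow (by omega) p)
  have e : ∀ a b : ℕ, (p ^ (m * a)) ^ b = x ^ (a * b) := fun a b => by
    rw [hx, ← pow_mul, ← pow_mul, mul_assoc]
  rw [e r' 2, e r' 3, e r 2, e r 3] at h1
  have hcop : Nat.Coprime r' r := (Nat.coprime_primes hr' hr).2 hlt.ne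
  by_cases h23 : r' = 2
  · subst h23
    have hro : Odd r := hr.odd_of_ne_two (by omega)
    have h2 : x ^ 4 - 1 ∣ 3 * ((x ^ (r * 2) - 1) * (x ^ (r * 3) - 1)) :=
      (Dvd.intro _ rfl : x ^ (2 * 2) - 1 ∣ _).trans h1
    have h2' := dvd_gcd_mul h2
    obtain ⟨k, rfl⟩ := hro
    rw [Nat.pow_sub_one_gcd_pow_sub_one, Nat.pow_sub_one_gcd_pow_sub_one,
      show Nat.gcd 4 ((2 * k + 1) * 2) = 2 by
        rw [show (4 : ℕ) = 2 * 2 by norm_num, Nat.gcd_mul_right, show Nat.gcd 2 (2 * k + 1) = 1 by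
          rw [Nat.gcd_rec, show (2 * k + 1) % 2 = 1 by omega]; simp],
      show Nat.gcd 4 ((2 * k + 1) * 3) = 1 by
        rw [Nat.gcd_rec]
        rcases (show (2 * k + 1) * 3 % 4 = 1 ∨ (2 * k + 1) * 3 % 4 = 3 by omega) with h4 | h4 <;> rw [h4] <;> decide,
      pow_one] at h2'
    obtain ⟨t, ht⟩ : ∃ t, x = t + 2 := ⟨x - 2, by omega⟩
    rw [ht] at h2'
    rw [show (t + 2) ^ 4 = (t + 1) * (t + 3) * ((t + 2) ^ 2 + 1) + 1 by ring, Nat.add_sub_cancel,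
      show (t + 2) ^ 2 = (t + 1) * (t + 3) + 1 by ring, Nat.add_sub_cancel,
      show t + 2 - 1 = t + 1 by omega] at h2'
    have h3 := Nat.le_of_dvd (by positivity)
      (show (t + 1) * (t + 3) + 1 + 1 ∣ 3 * (t + 1) from
        Nat.dvd_of_mul_dvd_mul_left (show 0 < (t + 1) * (t + 3) by positivity) (by convert h2' using 1; ring))
    nlinarith
  · have h2 : x ^ (r' * 3) - 1 ∣ 3 * ((x ^ (r * 2) - 1) * (x ^ (r * 3) - 1)) := (Dvd.intro_left _ rfl).trans h1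
    have h2' := dvd_gcd_mul h2
    rw [Nat.pow_sub_one_gcd_pow_sub_one, Nat.pow_sub_one_gcd_pow_sub_one, Nat.gcd_mul_right r' 3 r,
      hcop.gcd_eq_one, one_mul] at h2'
    set g := Nat.gcd (r' * 3) (r * 2) with hg
    have hr3 : r ≠ 3 := by omega
    have h6 : g ∣ 2 :=
      Nat.Coprime.dvd_of_dvd_mul_left (Nat.Coprime.coprime_dvd_left (Nat.gcd_dvd_left _ _)
        (Nat.Coprime.mul_left hcop ((Nat.coprime_primes Nat.prime_three hr).2 (Ne.symm hr3))))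
        (Nat.gcd_dvd_right _ _)
    have hgp : 0 < g := Nat.gcd_pos_of_pos_left _ (Nat.mul_pos hr'.pos (by norm_num))
    have hxg : x ^ g ≤ x ^ 2 := Nat.pow_le_pow_right (by omega) (Nat.le_of_dvd two_pos h6)
    have hpos : 0 < (x ^ g - 1) * (x ^ 3 - 1) := by
      have : 1 < x ^ g := Nat.one_lt_pow hgp.ne' (by omega)
      have : 1 < x ^ 3 := Nat.one_lt_pow (by norm_num) (by omega)
      exact Nat.mul_pos (by omega) (by omega)
    have h3 := Nat.le_of_dvd (by omega) h2'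
    have h4 : x ^ 9 ≤ x ^ (r' * 3) := Nat.pow_le_pow_right (by omega) (by omega)
    have h5 : (x ^ g - 1) * (x ^ 3 - 1) ≤ x ^ 2 * x ^ 3 :=
      Nat.mul_le_mul ((Nat.sub_le _ _).trans hxg) (Nat.sub_le _ _)
    have e5 : x ^ 2 * x ^ 3 = x ^ 5 := by ring
    have h7 : 16 * x ^ 5 ≤ x ^ 9 := by
      rw [show x ^ 9 = x ^ 4 * x ^ 5 by ring]
      exact Nat.mul_le_mul_right _ (Nat.pow_le_pow_left hx2 4)
    have : 0 < x ^ 5 := pow_pos (by omega) 5
    omega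

end CfsgLib.Geo.SL3.Maximal.Arith
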