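/-
The orders of the geometric subgroups of SU(3,q) do not divide one another.
-/
import Cfsg.Agent.Lib.Geo.SL3.Maximal.ArithLinear

set_option autoImplicit false

namespace CfsgLib.Geo.SL3.Maximal.Arith

/-- `q² - q + 1`. -/
def singerU (q : ℕ) : ℕ := q ^ 2 - q + 1

theorem singerU_cast (q : ℕ) : (singerU q : ℤ) = (q : ℤ) ^ 2 - q + 1 := by
  have : q ≤ q ^ 2 := Nat.le_self_pow two_ne_zero q
  rw [singerU, Nat.cast_add, Nat.cast_sub this, Nat.cast_pow, Nat.cast_one]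

theorem singerU_mul (q : ℕ) : singerU q * (q + 1) = q ^ 3 + 1 := by
  zify
  rw [singerU_cast]
  ring

theorem singerU_mul_singer (q : ℕ) : singerU q * (q ^ 2 + q + 1) = (q ^ 2) ^ 2 + q ^ 2 + 1 := by
  zify
  rw [singerU_cast]
  ring

theorem seven_le_singerU {q : ℕ} (hq : 3 ≤ q) : 7 ≤ singerU q := by
  zify
  rw [singerU_cast]
  nlinarith

theorem nine_not_dvd_singerU (q : ℕ) : ¬ 9 ∣ singerU q := by
  intro h
  have h1 : ((singerU q : ℤ) : ZMod 9) = 0 := by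
    rw [Int.cast_natCast]; exact (ZMod.natCast_eq_zero_iff _ _).2 h
  rw [singerU_cast] at h1
  push_cast at h1
  revert h1
  generalize (q : ZMod 9) = x
  revert x
  decide

theorem singerU_odd (q : ℕ) : ¬ 2 ∣ singerU q := by
  intro h
  have h1 : ((singerU q : ℤ) : ZMod 2) = 0 := by
    rw [Int.cast_natCast]; exact (ZMod.natCast_eq_zero_iff _ _).2 h
  rw [singerU_cast] at h1
  push_cast at h1
  revert h1
  generalize (q : ZMod 2) = x
  revert x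
  decide

theorem coprime_singerU_q (q : ℕ) : Nat.Coprime (singerU q) q := by
  refine Nat.Coprime.symm ?_
  apply Nat.coprime_of_dvd'
  intro k _ hk hn
  have h := Int.natCast_dvd_natCast.2 hn
  rw [singerU_cast] at h
  have h' := Int.natCast_dvd_natCast.2 hk
  refine Int.natCast_dvd_natCast.1 ?_
  have e : ((1 : ℕ) : ℤ) = ((q : ℤ) ^ 2 - q + 1) - ((q : ℤ) - 1) * q := by push_cast; ring
  rw [e]
  exact dvd_sub h (dvd_mul_of_dvd_right h' _)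

theorem gcd_singerU_add_one (q : ℕ) : Nat.gcd (singerU q) (q + 1) ∣ 3 := by
  refine Int.natCast_dvd_natCast.1 ?_
  have h := Int.natCast_dvd_natCast.2 (Nat.gcd_dvd_left (singerU q) (q + 1))
  have h' := Int.natCast_dvd_natCast.2 (Nat.gcd_dvd_right (singerU q) (q + 1))
  rw [singerU_cast] at h
  push_cast at h'
  have e : ((3 : ℕ) : ℤ) = ((q : ℤ) ^ 2 - q + 1) - ((q : ℤ) - 2) * (q + 1) := by push_cast; ring
  rw [e]
  exact dvd_sub h (dvd_mul_of_dvd_right h' _)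

theorem coprime_singerU_sub_one {q : ℕ} (hq : 1 ≤ q) : Nat.Coprime (singerU q) (q - 1) := by
  refine Nat.coprime_of_dvd' fun k _ hn hk => Int.natCast_dvd_natCast.1 ?_
  have h := Int.natCast_dvd_natCast.2 hn
  rw [singerU_cast] at h
  have h' := Int.natCast_dvd_natCast.2 hk
  rw [Nat.cast_sub hq, Nat.cast_one] at h'
  have e : ((1 : ℕ) : ℤ) = ((q : ℤ) ^ 2 - q + 1) - (q : ℤ) * (q - 1) := by push_cast; ring
  rw [e]
  exact dvd_sub h (dvd_mul_of_dvd_right h' _)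

theorem singerU_le_nine {q : ℕ} (hq : 4 ≤ q) : ¬ singerU q ∣ 27 := fun h => by
  have h1 := Nat.le_of_dvd (by norm_num) h
  have h2 : 13 ≤ singerU q := by
    zify
    rw [singerU_cast]
    nlinarith
  have h3 : q ≤ 5 := by
    by_contra hlt
    have : 31 ≤ singerU q := by
      zify
      rw [singerU_cast]
      nlinarith
    omega
  interval_cases q <;> norm_num [singerU] at h

/-- What is left of `q² - q + 1` after removing `q + 1`, `q - 1`, `q`. -/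
theorem singerU_dvd_reduce {q m : ℕ} (hq : 1 ≤ q) (a b c : ℕ)
    (h : singerU q ∣ m * ((q + 1) ^ a * (q - 1) ^ b * q ^ c)) : singerU q ∣ m * 3 ^ a := by
  have hb : Nat.Coprime (singerU q) ((q - 1) ^ b * q ^ c) :=
    Nat.Coprime.mul_right (Nat.Coprime.pow_right _ (coprime_singerU_sub_one hq))
      (Nat.Coprime.pow_right _ (coprime_singerU_q q))
  rw [mul_assoc ((q + 1) ^ a), ← mul_assoc m] at h
  have h' := hb.dvd_of_dvd_mul_right h
  refine (Nat.dvd_gcd_mul_iff_dvd_mul.2 ?_).trans ?_ (b := Nat.gcd (singerU q) ((q + 1) ^ a) * m)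
  · rwa [mul_comm]
  · rw [mul_comm m]
    exact Nat.mul_dvd_mul_right ((gcd_pow_right_dvd_pow_gcd (a := singerU q) (b := q + 1) (k := a) :
      Nat.gcd (singerU q) ((q + 1) ^ a) ∣ Nat.gcd (singerU q) (q + 1) ^ a).trans
      (pow_dvd_pow_of_dvd (gcd_singerU_add_one q) a)) m

theorem ordSU_le {q₀ : ℕ} (h : 2 ≤ q₀) : ordSU q₀ ≤ 2 * q₀ ^ 8 := by
  have h1 : q₀ ^ 2 - 1 ≤ q₀ ^ 2 := Nat.sub_le _ _
  have h2 : 1 ≤ q₀ ^ 3 := Nat.one_le_pow _ _ (by omega)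
  calc q₀ ^ 3 * (q₀ ^ 2 - 1) * (q₀ ^ 3 + 1) ≤ q₀ ^ 3 * q₀ ^ 2 * (2 * q₀ ^ 3) := by
        gcongr; omega
    _ = 2 * q₀ ^ 8 := by ring

theorem ordSU_pos {q₀ : ℕ} (h : 2 ≤ q₀) : 0 < ordSU q₀ := by
  have : 4 ≤ q₀ ^ 2 := by nlinarith
  unfold ordSU
  have : 0 < q₀ ^ 2 - 1 := by omega
  positivity

theorem coprime_ordSU_part {p b : ℕ} (hp : p.Prime) (hb : b ≠ 0) :
    Nat.Coprime p (((p ^ b) ^ 2 - 1) * ((p ^ b) ^ 3 + 1)) := by
  refine Nat.Coprime.mul_right ?_ ?_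
  · refine hp.coprime_iff_not_dvd.2 fun h => ?_
    have h1 : 1 ≤ (p ^ b) ^ 2 := Nat.one_le_pow _ _ (Nat.pow_pos hp.pos)
    have h2 := Nat.dvd_sub (dvd_pow (dvd_pow_self p hb) two_ne_zero) h
    rw [Nat.sub_sub_self h1] at h2
    exact hp.not_dvd_one h2
  · refine hp.coprime_iff_not_dvd.2 fun h => ?_
    exact hp.not_dvd_one ((Nat.dvd_add_right (dvd_pow (dvd_pow_self p hb) (by norm_num))).1 h)

theorem coprime_succ_self (q : ℕ) : Nat.Coprime (q + 1) q := by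
  rw [Nat.coprime_comm, Nat.coprime_self_add_right]
  exact Nat.coprime_one_right q

/-! ### The isotropic point: `q³`. -/

theorem not_pt_stab {q : ℕ} (hq : 3 ≤ q) : ¬ q ^ 3 ∣ q * (q + 1) * (q ^ 2 - 1) := by
  intro h
  have hc : Nat.Coprime (q ^ 2) ((q + 1) * (q ^ 2 - 1)) := by
    refine Nat.Coprime.pow_left _ (Nat.Coprime.mul_right (coprime_succ_self q).symm ?_)
    obtain ⟨t, rfl⟩ : ∃ t, q = t + 1 := ⟨q - 1, by omega⟩
    rw [show (t + 1) ^ 2 - 1 = t * (t + 2) by rw [show (t + 1) ^ 2 = t * (t + 2) + 1 by ring, Nat.add_sub_cancel]]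
    exact Nat.Coprime.mul_right (coprime_succ_self t) (by
      rw [show t + 2 = t + 1 + 1 by ring]; exact (coprime_succ_self (t + 1)).symm)
  have h2 : q ^ 2 ∣ (q + 1) * (q ^ 2 - 1) := Nat.dvd_of_mul_dvd_mul_left (show 0 < q by omega)
    (by rwa [← pow_succ', ← mul_assoc])
  have := Nat.eq_one_of_dvd_coprimes hc dvd_rfl h2
  nlinarith

theorem not_pt_lines {q : ℕ} (hq : 3 ≤ q) : ¬ q ^ 3 ∣ 6 * (q + 1) ^ 2 := by
  intro h
  have := Nat.le_of_dvd (by norm_num)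
    ((Nat.Coprime.pow 3 2 (coprime_succ_self q).symm).dvd_of_dvd_mul_right h)
  have : 27 ≤ q ^ 3 := Nat.pow_le_pow_left hq 3
  omega

theorem not_pt_field {q : ℕ} (hq : 3 ≤ q) : ¬ q ^ 3 ∣ 3 * singerU q := by
  intro h
  have := Nat.le_of_dvd (by norm_num)
    ((Nat.Coprime.pow_left 3 (coprime_singerU_q q).symm).dvd_of_dvd_mul_right h)
  have : 27 ≤ q ^ 3 := Nat.pow_le_pow_left hq 3
  omega

theorem not_pt_sub {q q₀ r : ℕ} (hr : 3 ≤ r) (h0 : 2 ≤ q₀) (hq : q = q₀ ^ r) : ¬ q ^ 3 ∣ 3 * ordSU q₀ := by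
  intro h
  have h1 := Nat.le_of_dvd (Nat.mul_pos (by norm_num) (ordSU_pos h0)) h
  have h2 := ordSU_le h0
  have h3 : q₀ ^ 9 ≤ q ^ 3 := by
    rw [hq, ← pow_mul]
    exact Nat.pow_le_pow_right (by omega) (by omega)
  have h4 : 3 * (2 * q₀ ^ 8) < q₀ ^ 9 ∨ q₀ ≤ 6 := by
    by_cases h6 : q₀ ≤ 6
    · exact Or.inr h6
    · left; rw [pow_succ]; have : 0 < q₀ ^ 8 := Nat.pow_pos (by omega); nlinarith
  rcases h4 with h4 | h4
  · omega
  · by_cases h2' : q₀ = 2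
    · subst h2'
      have hs : q ^ 3 ∣ 3 * 216 := by simpa [ordSU] using h
      rw [hq, ← pow_mul] at hs
      have : 2 ^ 9 ∣ 2 ^ (r * 3) := Nat.pow_dvd_pow 2 (by omega)
      exact absurd (this.trans hs) (by norm_num)
    · have h5 : 3 * ordSU q₀ < q₀ ^ 9 := by interval_cases q₀ <;> first | omega | norm_num [ordSU]
      omega

theorem not_pt_orth {q : ℕ} (hq : 3 ≤ q) : ¬ q ^ 3 ∣ 3 * (q * (q ^ 2 - 1)) := by
  intro h
  have hc : Nat.Coprime (q ^ 3) (q ^ 2 - 1) := by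
    refine Nat.Coprime.pow_left _ ?_
    obtain ⟨t, rfl⟩ : ∃ t, q = t + 1 := ⟨q - 1, by omega⟩
    rw [show (t + 1) ^ 2 - 1 = t * (t + 2) by rw [show (t + 1) ^ 2 = t * (t + 2) + 1 by ring, Nat.add_sub_cancel]]
    exact Nat.Coprime.mul_right (coprime_succ_self t) (by
      rw [show t + 2 = t + 1 + 1 by ring]; exact (coprime_succ_self (t + 1)).symm)
  rw [← mul_assoc] at h
  have := Nat.le_of_dvd (by omega) (hc.dvd_of_dvd_mul_right h)
  have : 9 * q ≤ q ^ 3 := by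
    calc 9 * q ≤ q ^ 2 * q := Nat.mul_le_mul_right q (Nat.pow_le_pow_left hq 2)
      _ = q ^ 3 := by ring
  omega

theorem not_pt_hess {p : ℕ} (hp : 11 ≤ p) : ¬ p ^ 3 ∣ 648 := fun h => by
  have := Nat.le_of_dvd (by norm_num) h
  have : 11 ^ 3 ≤ p ^ 3 := Nat.pow_le_pow_left hp 3
  omega

/-- The congruences of the residual groups with socle of order 168. -/
def PslCond (q : ℕ) : Prop := q.Prime ∧ q ≠ 5 ∧ (q % 7 = 3 ∨ q % 7 = 5 ∨ q % 7 = 6)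

theorem PslCond.cases {q : ℕ} (h : PslCond q) : q = 3 ∨ 13 ≤ q := by
  obtain ⟨hp, h5, h7⟩ := h
  by_contra! hall
  obtain ⟨h3, h13⟩ := hall
  interval_cases q <;> first | omega | (norm_num at hp)

theorem not_pt_psl {q : ℕ} (h : PslCond q) : ¬ q ^ 3 ∣ 1008 := fun hd => by
  rcases h.cases with rfl | h13
  · norm_num at hd
  · have := Nat.le_of_dvd (by norm_num) hd
    have : 13 ^ 3 ≤ q ^ 3 := Nat.pow_le_pow_left h13 3
    omega

theorem eleven_le {q : ℕ} (h : q % 15 = 11 ∨ q % 15 = 14) : 11 ≤ q := by omega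

theorem not_pt_six {q : ℕ} (h : q % 15 = 11 ∨ q % 15 = 14) : ¬ q ^ 3 ∣ 2160 := fun hd => by
  have h11 := eleven_le h
  have h1 := Nat.le_of_dvd (by norm_num) hd
  have : q < 13 := by
    by_contra h13
    have : 13 ^ 3 ≤ q ^ 3 := Nat.pow_le_pow_left (by omega) 3
    omega
  interval_cases q <;> omega

/-! ### The anisotropic point: `q (q + 1) (q² - 1)`. -/

theorem stab_ge {q : ℕ} (hq : 2 ≤ q) : q ^ 4 ≤ q * (q + 1) * (q ^ 2 - 1) := by
  obtain ⟨t, rfl⟩ : ∃ t, q = t + 2 := ⟨q - 2, by omega⟩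
  rw [show (t + 2) ^ 2 - 1 = (t + 1) * (t + 3) by
    rw [show (t + 2) ^ 2 = (t + 1) * (t + 3) + 1 by ring, Nat.add_sub_cancel]]
  nlinarith [pow_nonneg (Nat.zero_le t) 2, pow_nonneg (Nat.zero_le t) 3]

theorem not_stab_lines {q : ℕ} (hq : 4 ≤ q) : ¬ q * (q + 1) * (q ^ 2 - 1) ∣ 6 * (q + 1) ^ 2 := by
  intro h
  rw [show q ^ 2 - 1 = (q + 1) * (q - 1) by rw [← Nat.sq_sub_sq, one_pow],
    show q * (q + 1) * ((q + 1) * (q - 1)) = q * (q - 1) * (q + 1) ^ 2 by ring] at h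
  have := Nat.le_of_dvd (by norm_num) (Nat.dvd_of_mul_dvd_mul_right (by positivity) h)
  have : 4 * 3 ≤ q * (q - 1) := Nat.mul_le_mul hq (by omega)
  omega

theorem not_stab_field {q : ℕ} (hq : 4 ≤ q) : ¬ q * (q + 1) * (q ^ 2 - 1) ∣ 3 * singerU q := by
  intro h
  have := Nat.le_of_dvd (by norm_num)
    ((coprime_singerU_q q).symm.dvd_of_dvd_mul_right (((dvd_mul_right q _).trans (dvd_mul_right _ _)).trans h))
  omega

theorem not_stab_sub {q q₀ r : ℕ} (hr : 3 ≤ r) (h0 : 2 ≤ q₀) (hq : q = q₀ ^ r) :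
    ¬ q * (q + 1) * (q ^ 2 - 1) ∣ 3 * ordSU q₀ := by
  intro h
  have h1 := Nat.le_of_dvd (Nat.mul_pos (by norm_num) (ordSU_pos h0)) h
  have h2 := ordSU_le h0
  have h3 : q₀ ^ 12 ≤ q ^ 4 := by
    rw [hq, ← pow_mul]
    exact Nat.pow_le_pow_right (by omega) (by omega)
  have hq2 : 2 ≤ q := by
    rw [hq]; exact h0.trans (Nat.le_self_pow (by omega) _)
  have h4 := stab_ge hq2
  have h5 : 16 * q₀ ^ 8 ≤ q₀ ^ 12 := by
    rw [show q₀ ^ 12 = q₀ ^ 4 * q₀ ^ 8 by ring]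
    exact Nat.mul_le_mul_right _ (Nat.pow_le_pow_left h0 4)
  have : 0 < q₀ ^ 8 := Nat.pow_pos (by omega)
  omega

theorem not_stab_orth {q : ℕ} (hq : 3 ≤ q) : ¬ q * (q + 1) * (q ^ 2 - 1) ∣ 3 * (q * (q ^ 2 - 1)) := by
  intro h
  have h9 : 9 ≤ q ^ 2 := by nlinarith
  have hpos : 0 < q * (q ^ 2 - 1) := Nat.mul_pos (by omega) (by omega)
  have := Nat.le_of_dvd (by norm_num) (Nat.dvd_of_mul_dvd_mul_right hpos
    (show (q + 1) * (q * (q ^ 2 - 1)) ∣ 3 * (q * (q ^ 2 - 1)) by rwa [← mul_assoc, mul_comm (q + 1)]))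
  omega

theorem stab_large {q : ℕ} (hq : 11 ≤ q) : 2160 < q * (q + 1) * (q ^ 2 - 1) := by
  have := stab_ge (q := q) (by omega)
  have : 11 ^ 4 ≤ q ^ 4 := Nat.pow_le_pow_left hq 4
  omega

theorem not_stab_hess {p : ℕ} (hp : 11 ≤ p) : ¬ p * (p + 1) * (p ^ 2 - 1) ∣ 648 := fun h => by
  have := Nat.le_of_dvd (by norm_num) h
  have := stab_large hp
  omega

theorem not_stab_psl {q : ℕ} (h : PslCond q) : ¬ q * (q + 1) * (q ^ 2 - 1) ∣ 1008 := fun hd => by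
  rcases h.cases with rfl | h13
  · norm_num at hd
  · have := Nat.le_of_dvd (by norm_num) hd
    have := stab_large (q := q) (by omega)
    omega

theorem not_stab_six {q : ℕ} (h : q % 15 = 11 ∨ q % 15 = 14) : ¬ q * (q + 1) * (q ^ 2 - 1) ∣ 2160 := fun hd => by
  have := Nat.le_of_dvd (by norm_num) hd
  have := stab_large (eleven_le h)
  omega

/-! ### Three lines: `6 (q + 1)²`. -/

theorem not_lines_field {q : ℕ} : ¬ 6 * (q + 1) ^ 2 ∣ 3 * singerU q := fun h =>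
  singerU_odd q ((show Nat.Coprime 2 3 by norm_num).dvd_of_dvd_mul_left
    (((show 2 ∣ 6 by norm_num).trans (dvd_mul_right 6 _)).trans h))

theorem not_lines_sub {q q₀ r : ℕ} (hr : 3 ≤ r) (h0 : 2 ≤ q₀) (hq : q = q₀ ^ r) :
    ¬ 6 * (q + 1) ^ 2 ∣ 3 * ordSU q₀ := by
  intro h
  rw [show 6 * (q + 1) ^ 2 = 3 * (2 * (q + 1) ^ 2) by ring] at h
  have h1 : (q + 1) ^ 2 ∣ q₀ ^ 3 * ((q₀ ^ 2 - 1) * (q₀ ^ 3 + 1)) := by
    rw [← mul_assoc]
    exact (dvd_mul_left _ 2).trans (Nat.dvd_of_mul_dvd_mul_left (by norm_num) h)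
  have hc : Nat.Coprime ((q + 1) ^ 2) (q₀ ^ 3) := by
    have := coprime_succ_self q
    exact (Nat.Coprime.coprime_dvd_right (hq ▸ dvd_pow_self q₀ (by omega)) this).pow 2 3
  have h4 : 4 ≤ q₀ ^ 2 := by nlinarith
  have h2 := Nat.le_of_dvd (Nat.mul_pos (by omega) (by positivity)) (hc.dvd_of_dvd_mul_left h1)
  have h3 : q₀ ^ 3 ≤ q := hq ▸ Nat.pow_le_pow_right (by omega) hr
  have h5 : (q₀ ^ 3 + 1) ^ 2 ≤ (q + 1) ^ 2 := Nat.pow_le_pow_left (by omega) 2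
  have h6 : (q₀ ^ 2 - 1) * (q₀ ^ 3 + 1) < (q₀ ^ 3 + 1) * (q₀ ^ 3 + 1) := by
    refine Nat.mul_lt_mul_of_pos_right ?_ (by positivity)
    have : q₀ ^ 2 ≤ q₀ ^ 3 := Nat.pow_le_pow_right (by omega) (by norm_num)
    omega
  rw [← pow_two] at h6
  omega

theorem not_lines_orth {q : ℕ} (hq : 3 ≤ q) : ¬ 6 * (q + 1) ^ 2 ∣ 3 * (q * (q ^ 2 - 1)) := by
  intro h
  rw [show 6 * (q + 1) ^ 2 = 3 * ((q + 1) * (2 * (q + 1))) by ring,
    show q ^ 2 - 1 = (q + 1) * (q - 1) by rw [← Nat.sq_sub_sq, one_pow],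
    show q * ((q + 1) * (q - 1)) = (q + 1) * (q * (q - 1)) by ring] at h
  have h1 := Nat.dvd_of_mul_dvd_mul_left (show 0 < q + 1 by omega) (Nat.dvd_of_mul_dvd_mul_left (by norm_num) h)
  have h2 := Nat.le_of_dvd (by omega) ((coprime_succ_self q).dvd_of_dvd_mul_left ((dvd_mul_left _ 2).trans h1))
  omega

theorem not_lines_hess {p : ℕ} (hp : 11 ≤ p) : ¬ 6 * (p + 1) ^ 2 ∣ 648 := fun h => by
  have := Nat.le_of_dvd (by norm_num) h
  have : 12 ^ 2 ≤ (p + 1) ^ 2 := Nat.pow_le_pow_left (by omega) 2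
  omega

theorem not_lines_psl {q : ℕ} (hq : 3 ≤ q) : ¬ 6 * (q + 1) ^ 2 ∣ 1008 := fun h => by
  have h1 := Nat.le_of_dvd (by norm_num) h
  have : q < 12 := by
    by_contra hlt
    have : 13 ^ 2 ≤ (q + 1) ^ 2 := Nat.pow_le_pow_left (by omega) 2
    omega
  interval_cases q <;> omega

theorem not_lines_six {q : ℕ} (hq : q % 15 = 11 ∨ q % 15 = 14) : ¬ 6 * (q + 1) ^ 2 ∣ 2160 := fun h => by
  have h11 := eleven_le hq
  have h1 := Nat.le_of_dvd (by norm_num) h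
  have : q < 19 := by
    by_contra hlt
    have : 20 ^ 2 ≤ (q + 1) ^ 2 := Nat.pow_le_pow_left (by omega) 2
    omega
  interval_cases q <;> omega

/-! ### Cubic fields: `q² - q + 1`. -/

theorem not_field_lines {q : ℕ} (hq : 4 ≤ q) : ¬ singerU q ∣ 6 * (q + 1) ^ 2 := by
  intro h
  have h1 := singerU_dvd_reduce (q := q) (m := 6) (by omega) 2 0 0 (by simpa using h)
  rw [show 6 * 3 ^ 2 = 2 * 27 by norm_num] at h1
  exact singerU_le_nine hq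
    (((Nat.Prime.coprime_iff_not_dvd Nat.prime_two).2 (singerU_odd q)).symm.dvd_of_dvd_mul_left h1)

theorem not_field_sub {q q₀ r : ℕ} (hr : 3 ≤ r) (hodd : Odd r) (h0 : 2 ≤ q₀) (hq : q = q₀ ^ r) :
    ¬ singerU q ∣ 3 * ordSU q₀ := by
  intro h
  have hq1 : 1 ≤ q := by rw [hq]; exact Nat.one_le_pow _ _ (by omega)
  have hc3 : Nat.Coprime (singerU q) (q₀ ^ 3) :=
    (Nat.Coprime.coprime_dvd_right (hq ▸ dvd_pow_self q₀ (by omega)) (coprime_singerU_q q)).pow_right 3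
  have hsub : q₀ - 1 ∣ q - 1 := by
    have := Nat.sub_dvd_pow_sub_pow q₀ 1 r
    rw [one_pow] at this
    rwa [hq]
  have hadd : q₀ + 1 ∣ q + 1 := by
    have := hodd.nat_add_dvd_pow_add_pow q₀ 1
    rw [one_pow] at this
    rwa [hq]
  have hc1 : Nat.Coprime (singerU q) (q₀ - 1) := (coprime_singerU_sub_one hq1).coprime_dvd_right hsub
  have hg : Nat.gcd (singerU q) (q₀ + 1) ∣ 3 :=
    (Nat.gcd_dvd_gcd_of_dvd_right (singerU q) hadd).trans (gcd_singerU_add_one q)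
  have e : 3 * ordSU q₀ = q₀ ^ 3 * ((q₀ - 1) * ((q₀ + 1) ^ 2 * (3 * singerU q₀))) := by
    rw [ordSU, ← singerU_mul q₀, show q₀ ^ 2 - 1 = (q₀ + 1) * (q₀ - 1) by rw [← Nat.sq_sub_sq, one_pow]]
    ring
  rw [e] at h
  have h1 := hc1.dvd_of_dvd_mul_left (hc3.dvd_of_dvd_mul_left h)
  have hg2 : Nat.gcd (singerU q) ((q₀ + 1) ^ 2) ∣ 9 :=
    ((gcd_pow_right_dvd_pow_gcd (a := singerU q) (b := q₀ + 1) (k := 2) :
      Nat.gcd (singerU q) ((q₀ + 1) ^ 2) ∣ Nat.gcd (singerU q) (q₀ + 1) ^ 2).trans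
      (pow_dvd_pow_of_dvd hg 2)).trans (by norm_num)
  have h2 : singerU q ∣ 9 * (3 * singerU q₀) :=
    (Nat.dvd_gcd_mul_iff_dvd_mul.2 h1).trans (Nat.mul_dvd_mul_right hg2 _)
  have hpos : 0 < singerU q₀ := by unfold singerU; omega
  have h3 : (singerU q : ℤ) ≤ ((9 * (3 * singerU q₀) : ℕ) : ℤ) := by
    exact_mod_cast Nat.le_of_dvd (by positivity) h2
  push_cast at h3
  rw [singerU_cast, singerU_cast] at h3
  have hqq : (q₀ : ℤ) ^ 3 ≤ q := by exact_mod_cast hq ▸ Nat.pow_le_pow_right (show 0 < q₀ by omega) hr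
  by_cases hsmall : q₀ = 2
  · subst hsmall
    by_cases hr3 : r = 3
    · subst hr3
      norm_num [hq, singerU] at h2
    · have : (2 : ℤ) ^ 5 ≤ q := by
        exact_mod_cast hq ▸ Nat.pow_le_pow_right (show 0 < 2 by omega) (show 5 ≤ r by
          obtain ⟨k, rfl⟩ := hodd; omega)
      norm_num at h3 this
      nlinarith
  · have h3' : (3 : ℤ) ≤ q₀ := by exact_mod_cast (show 3 ≤ q₀ by omega)
    have h9 : 9 * (q₀ : ℤ) ≤ (q₀ : ℤ) ^ 3 := by nlinarith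
    have hA : ((q₀ : ℤ) ^ 3) ^ 2 - (q₀ : ℤ) ^ 3 ≤ (q : ℤ) ^ 2 - q := by nlinarith
    nlinarith [mul_le_mul h9 h9 (by positivity) (by positivity)]

theorem not_field_orth {q : ℕ} (hq : 4 ≤ q) : ¬ singerU q ∣ 3 * (q * (q ^ 2 - 1)) := by
  intro h
  rw [show q ^ 2 - 1 = (q + 1) * (q - 1) by rw [← Nat.sq_sub_sq, one_pow]] at h
  have h1 := singerU_dvd_reduce (q := q) (m := 3) (by omega) 1 1 1 (by
    rw [show (q + 1) ^ 1 * (q - 1) ^ 1 * q ^ 1 = q * ((q + 1) * (q - 1)) by ring]; exact h)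
  exact singerU_le_nine hq (h1.trans (by norm_num))

theorem not_field_hess {q : ℕ} (hq : 4 ≤ q) : ¬ singerU q ∣ 648 := by
  intro h
  have h2 : Nat.Coprime (singerU q) 8 :=
    ((Nat.Prime.coprime_iff_not_dvd Nat.prime_two).2 (singerU_odd q)).symm.pow_right 3
  have h81 : singerU q ∣ 81 := h2.dvd_of_dvd_mul_left (show singerU q ∣ 8 * 81 from h)
  obtain ⟨i, hi, he⟩ := (Nat.dvd_prime_pow Nat.prime_three).1 (show singerU q ∣ 3 ^ 4 from h81)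
  have h9 := nine_not_dvd_singerU q
  rw [he] at h9
  have : i < 2 := by
    by_contra hlt
    exact h9 (Nat.pow_dvd_pow 3 (show 2 ≤ i by omega))
  have := seven_le_singerU (q := q) (by omega)
  interval_cases i <;> simp_all

theorem singerU_small {q : ℕ} (hq : 6 ≤ q) : 31 ≤ singerU q := by
  zify
  rw [singerU_cast]
  nlinarith

theorem not_field_psl {q : ℕ} (hq : 3 ≤ q) (h3 : q ≠ 3) (h5 : q ≠ 5) : ¬ singerU q ∣ 1008 := fun h => by
  have h2 : Nat.Coprime (singerU q) 16 :=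
    ((Nat.Prime.coprime_iff_not_dvd Nat.prime_two).2 (singerU_odd q)).symm.pow_right 4
  have h63 := Nat.le_of_dvd (by norm_num) (h2.dvd_of_dvd_mul_left (show singerU q ∣ 16 * 63 from h))
  have : q < 9 := by
    by_contra hlt
    have : 9 * 8 + 1 ≤ singerU q := by
      zify
      rw [singerU_cast]
      nlinarith
    omega
  interval_cases q <;> first | omega | norm_num [singerU] at h

theorem not_field_six {q : ℕ} (hq : q % 15 = 11 ∨ q % 15 = 14) : ¬ singerU q ∣ 2160 := fun h => by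
  have h2 : Nat.Coprime (singerU q) 16 :=
    ((Nat.Prime.coprime_iff_not_dvd Nat.prime_two).2 (singerU_odd q)).symm.pow_right 4
  have h11 := eleven_le hq
  have h135 := Nat.le_of_dvd (by norm_num) (h2.dvd_of_dvd_mul_left (show singerU q ∣ 16 * 135 from h))
  have : q < 13 := by
    by_contra hlt
    have : 13 * 12 + 1 ≤ singerU q := by
      zify
      rw [singerU_cast]
      nlinarith
    omega
  interval_cases q <;> first | omega | norm_num [singerU] at h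

/-! ### Subfields of odd index. -/

theorem not_sub_lines {q q₀ r : ℕ} (h0 : 2 ≤ q₀) (hr : r ≠ 0) (hq : q = q₀ ^ r) :
    ¬ q₀ ^ 3 ∣ 6 * (q + 1) ^ 2 := by
  intro h
  have hc : Nat.Coprime (q₀ ^ 3) ((q + 1) ^ 2) :=
    ((Nat.Coprime.coprime_dvd_right (hq ▸ dvd_pow_self q₀ hr) (coprime_succ_self q)).symm).pow 3 2
  have := Nat.le_of_dvd (by norm_num) (hc.dvd_of_dvd_mul_right h)
  have : 2 ^ 3 ≤ q₀ ^ 3 := Nat.pow_le_pow_left h0 3
  omega

theorem not_sub_field {q q₀ r : ℕ} (h0 : 2 ≤ q₀) (hr : r ≠ 0) (hq : q = q₀ ^ r) :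
    ¬ q₀ ^ 3 ∣ 3 * singerU q := by
  intro h
  have hc : Nat.Coprime (q₀ ^ 3) (singerU q) :=
    ((Nat.Coprime.coprime_dvd_right (hq ▸ dvd_pow_self q₀ hr) (coprime_singerU_q q)).symm).pow_left 3
  have := Nat.le_of_dvd (by norm_num) (hc.dvd_of_dvd_mul_right h)
  have : 2 ^ 3 ≤ q₀ ^ 3 := Nat.pow_le_pow_left h0 3
  omega

theorem dvd_pow_gcd_sub_one {d x a b : ℕ} (h1 : d ∣ x ^ a - 1) (h2 : d ∣ x ^ b - 1) : d ∣ x ^ Nat.gcd a b - 1 := by
  rw [← Nat.pow_sub_one_gcd_pow_sub_one]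
  exact Nat.dvd_gcd h1 h2

theorem dvd_double {d x a : ℕ} (h : d ∣ x ^ a + 1) : d ∣ x ^ (2 * a) - 1 := by
  refine h.trans ⟨x ^ a - 1, ?_⟩
  rw [mul_comm 2, pow_mul, ← Nat.sq_sub_sq, one_pow]

/-- Smaller subfields of odd index do not absorb larger index ones. -/
theorem not_ordSU_sub {s r r' : ℕ} (hs : 2 ≤ s) (hr : r.Prime) (hr' : r'.Prime) (hro : Odd r) (hro' : Odd r')
    (hlt : r' < r) : ¬ ordSU (s ^ r') ∣ 3 * ordSU (s ^ r) := by
  intro h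
  have h3 : 3 ≤ r' := by
    have := hr'.two_le
    obtain ⟨k, rfl⟩ := hro'
    omega
  have h5 : 5 ≤ r := by
    obtain ⟨k, rfl⟩ := hro
    omega
  set N := (s ^ r') ^ 3 + 1 with hN
  have hN' : N ∣ 3 * ((s ^ r) ^ 3 * (((s ^ r) ^ 2 - 1) * ((s ^ r) ^ 3 + 1))) := by
    rw [← mul_assoc ((s ^ r) ^ 3)]
    exact (dvd_mul_left _ _).trans h
  have hc : Nat.Coprime N ((s ^ r) ^ 3) := by
    rw [hN, ← pow_mul, ← pow_mul]
    exact ((coprime_succ_self (s ^ (r' * 3))).coprime_dvd_right (dvd_pow_self s (by omega))).pow_right _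
  rw [mul_left_comm] at hN'
  have hN'' := hc.dvd_of_dvd_mul_left hN'
  have h2 := dvd_gcd_mul (c := 3) hN''
  have hA : Nat.gcd N ((s ^ r) ^ 2 - 1) ∣ s ^ 2 - 1 := by
    have := dvd_pow_gcd_sub_one (d := Nat.gcd N ((s ^ r) ^ 2 - 1)) (x := s) (a := 2 * (r' * 3)) (b := 2 * r)
      (dvd_double (by rw [pow_mul]; exact Nat.gcd_dvd_left _ _))
      (by rw [mul_comm 2 r, pow_mul]; exact Nat.gcd_dvd_right _ _)
    rwa [Nat.gcd_mul_left, Nat.Coprime.gcd_eq_one (Nat.Coprime.mul_left ((Nat.coprime_primes hr' hr).2 (ne_of_lt hlt))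
      ((Nat.coprime_primes Nat.prime_three hr).2 (by omega))), mul_one] at this
  have hB : Nat.gcd N ((s ^ r) ^ 3 + 1) ∣ s ^ 6 - 1 := by
    have := dvd_pow_gcd_sub_one (d := Nat.gcd N ((s ^ r) ^ 3 + 1)) (x := s) (a := 2 * (r' * 3)) (b := 2 * (r * 3))
      (dvd_double (by rw [pow_mul]; exact Nat.gcd_dvd_left _ _))
      (dvd_double (by rw [pow_mul]; exact Nat.gcd_dvd_right _ _))
    rwa [Nat.gcd_mul_left, Nat.gcd_mul_right, ((Nat.coprime_primes hr' hr).2 (ne_of_lt hlt)).gcd_eq_one, one_mul,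
      show 2 * 3 = 6 by norm_num] at this
  have h4 : N ∣ 3 * ((s ^ 2 - 1) * (s ^ 6 - 1)) :=
    h2.trans (Nat.mul_dvd_mul_left 3 (Nat.mul_dvd_mul hA hB))
  have hs2 : 4 ≤ s ^ 2 := by nlinarith
  have hs6 : s ^ 2 ≤ s ^ 6 := Nat.pow_le_pow_right (by omega) (by norm_num)
  have hle := Nat.le_of_dvd (Nat.mul_pos (by norm_num) (Nat.mul_pos (by omega) (by omega))) h4
  have hbig : s ^ 9 < N := by
    rw [hN, ← pow_mul]
    exact Nat.lt_succ_of_le (Nat.pow_le_pow_right (by omega) (by omega))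
  rcases Nat.lt_or_ge s 3 with hlt3 | hge
  · obtain rfl : s = 2 := by omega
    norm_num at hle h4
    by_cases hr3 : r' = 3
    · rw [hN, hr3] at h4
      norm_num at h4
    · have : 2 ^ 15 ≤ (2 ^ r') ^ 3 := by
        rw [← pow_mul]
        exact Nat.pow_le_pow_right (by norm_num) (by obtain ⟨k, rfl⟩ := hro'; omega)
      rw [hN] at hle
      omega
  · have : 3 * ((s ^ 2 - 1) * (s ^ 6 - 1)) ≤ s * (s ^ 2 * s ^ 6) :=
      Nat.mul_le_mul hge (Nat.mul_le_mul (Nat.sub_le _ _) (Nat.sub_le _ _))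
    rw [show s * (s ^ 2 * s ^ 6) = s ^ 9 by ring] at this
    omega

theorem exp_le_unitary {p m r r' : ℕ} (hp : p.Prime) (hm : m ≠ 0) (hr : r ≠ 0)
    (h : ordSU (p ^ (m * r')) ∣ 3 * ordSU (p ^ (m * r))) : r' ≤ r := by
  have hd : (p ^ (m * r')) ^ 3 ∣ 3 * ((p ^ (m * r)) ^ 3 * (((p ^ (m * r)) ^ 2 - 1) * ((p ^ (m * r)) ^ 3 + 1))) := by
    rw [← mul_assoc ((p ^ (m * r)) ^ 3)]
    exact ((dvd_mul_right _ _).trans (dvd_mul_right _ _)).trans h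
  exact Nat.le_of_mul_le_mul_left (exp_le hp (coprime_ordSU_part hp (Nat.mul_ne_zero hm hr)) hd)
    (Nat.pos_of_ne_zero hm)

theorem not_sub_orth {q q₀ r : ℕ} (hr : r.Prime) (hro : Odd r) (hodd : Odd q₀) (h0 : 3 ≤ q₀) (hq : q = q₀ ^ r) :
    ¬ ordSU q₀ ∣ 3 * (q * (q ^ 2 - 1)) := by
  intro h
  have h9 : 9 ≤ q₀ ^ 2 := by nlinarith
  by_cases hr3 : r = 3
  · subst hr3
    rw [hq, show (q₀ ^ 3) ^ 2 - 1 = (q₀ ^ 3 + 1) * (q₀ ^ 3 - 1) by rw [← Nat.sq_sub_sq, one_pow],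
      show 3 * (q₀ ^ 3 * ((q₀ ^ 3 + 1) * (q₀ ^ 3 - 1))) = q₀ ^ 3 * (3 * (q₀ ^ 3 - 1)) * (q₀ ^ 3 + 1) by ring] at h
    have h1 := Nat.dvd_of_mul_dvd_mul_left (show 0 < q₀ ^ 3 by positivity) (Nat.dvd_of_mul_dvd_mul_right (by positivity) h)
    obtain ⟨t, rfl⟩ : ∃ t, q₀ = t + 1 := ⟨q₀ - 1, by omega⟩
    rw [show (t + 1) ^ 2 - 1 = t * (t + 2) by rw [show (t + 1) ^ 2 = t * (t + 2) + 1 by ring, Nat.add_sub_cancel],
      show (t + 1) ^ 3 - 1 = t * ((t + 1) * (t + 2) + 1) by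
        rw [show (t + 1) ^ 3 = t * ((t + 1) * (t + 2) + 1) + 1 by ring, Nat.add_sub_cancel],
      mul_left_comm] at h1
    have h2 := Nat.dvd_of_mul_dvd_mul_left (show 0 < t by omega) h1
    rw [mul_add, mul_one, ← mul_assoc] at h2
    have := Nat.le_of_dvd (by norm_num) ((Nat.dvd_add_right (dvd_mul_left (t + 2) (3 * (t + 1)))).1 h2)
    omega
  · have hN : q₀ ^ 3 + 1 ∣ 3 * (q₀ ^ r * ((q₀ ^ r) ^ 2 - 1)) := hq ▸ (dvd_mul_left _ _).trans h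
    have hc : Nat.Coprime (q₀ ^ 3 + 1) (q₀ ^ r) :=
      ((coprime_succ_self (q₀ ^ 3)).coprime_dvd_right (dvd_pow_self q₀ (by norm_num))).pow_right _
    rw [mul_left_comm] at hN
    have h1 := Nat.dvd_gcd_mul_iff_dvd_mul.2 (show q₀ ^ 3 + 1 ∣ ((q₀ ^ r) ^ 2 - 1) * 3 by
      rw [mul_comm]; exact hc.dvd_of_dvd_mul_left hN)
    have h2 : Nat.gcd (q₀ ^ 3 + 1) ((q₀ ^ r) ^ 2 - 1) ∣ q₀ ^ 2 - 1 := by
      have := dvd_pow_gcd_sub_one (d := Nat.gcd (q₀ ^ 3 + 1) ((q₀ ^ r) ^ 2 - 1)) (x := q₀) (a := 2 * 3) (b := 2 * r)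
        (dvd_double (Nat.gcd_dvd_left _ _)) (by rw [mul_comm 2 r, pow_mul]; exact Nat.gcd_dvd_right _ _)
      rwa [Nat.gcd_mul_left, ((Nat.coprime_primes Nat.prime_three hr).2 (Ne.symm hr3)).gcd_eq_one, mul_one] at this
    have h3 := Nat.le_of_dvd (by omega) (h1.trans (Nat.mul_dvd_mul_right h2 3))
    have h4 : 3 * q₀ ^ 2 ≤ q₀ ^ 3 := by rw [pow_succ q₀ 2]; nlinarith
    omega

/-! ### The orthogonal group: `q (q² - 1)`. -/

theorem not_orthU_lines {q : ℕ} (hq : 7 ≤ q) : ¬ q ∣ 6 * (q + 1) ^ 2 := by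
  intro h
  have := Nat.le_of_dvd (by norm_num) (((coprime_succ_self q).symm.pow_right 2).dvd_of_dvd_mul_right h)
  omega

theorem not_orthU_field {q : ℕ} (hq : 7 ≤ q) : ¬ q ∣ 3 * singerU q := by
  intro h
  have := Nat.le_of_dvd (by norm_num) ((coprime_singerU_q q).symm.dvd_of_dvd_mul_right h)
  omega

theorem not_orthU_sub {q q₀ r : ℕ} (hr : 3 ≤ r) (hro : Odd r) (h0 : 3 ≤ q₀) (hq : q = q₀ ^ r) :
    ¬ q * (q ^ 2 - 1) ∣ 3 * ordSU q₀ := by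
  intro h
  have h0' : 2 ≤ q₀ := by omega
  have h1 := Nat.le_of_dvd (Nat.mul_pos (by norm_num) (ordSU_pos h0')) h
  have h2 := ordSU_le h0'
  have h9 : 9 ≤ q₀ ^ 2 := by nlinarith
  by_cases hr3 : r = 3
  · subst hr3
    rw [hq, show (q₀ ^ 3) ^ 2 - 1 = (q₀ ^ 3 + 1) * (q₀ ^ 3 - 1) by rw [← Nat.sq_sub_sq, one_pow],
      show q₀ ^ 3 * ((q₀ ^ 3 + 1) * (q₀ ^ 3 - 1)) = q₀ ^ 3 * (q₀ ^ 3 - 1) * (q₀ ^ 3 + 1) by ring,
      show 3 * ordSU q₀ = q₀ ^ 3 * (3 * (q₀ ^ 2 - 1)) * (q₀ ^ 3 + 1) by rw [ordSU]; ring] at h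
    have h3 := Nat.le_of_dvd (by omega) (Nat.dvd_of_mul_dvd_mul_left (show 0 < q₀ ^ 3 by positivity)
      (Nat.dvd_of_mul_dvd_mul_right (by positivity) h))
    have h4 : 3 * q₀ ^ 2 ≤ q₀ ^ 3 := by rw [pow_succ q₀ 2]; nlinarith
    omega
  · have h5 : q₀ ^ 5 ≤ q := hq ▸ Nat.pow_le_pow_right (by omega) (by obtain ⟨k, rfl⟩ := hro; omega)
    have h3 : q₀ ^ 5 * ((q₀ ^ 5) ^ 2 - 1) ≤ q * (q ^ 2 - 1) :=
      Nat.mul_le_mul h5 (Nat.sub_le_sub_right (Nat.pow_le_pow_left h5 2) 1)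
    have h4 : 81 * q₀ ^ 8 ≤ q₀ ^ 12 := by
      rw [show q₀ ^ 12 = q₀ ^ 4 * q₀ ^ 8 by ring]
      exact Nat.mul_le_mul_right _ (Nat.pow_le_pow_left h0 4)
    have h6 : q₀ ^ 12 ≤ q₀ ^ 5 * ((q₀ ^ 5) ^ 2 - 1) := by
      have h7 : 243 ≤ q₀ ^ 5 := Nat.pow_le_pow_left h0 5
      have h8 : q₀ ^ 7 ≤ (q₀ ^ 5) ^ 2 - 1 := by
        have : q₀ ^ 7 * q₀ ^ 3 = (q₀ ^ 5) ^ 2 := by ring
        have : 1 ≤ q₀ ^ 7 := Nat.one_le_pow _ _ (by omega)
        have : 27 ≤ q₀ ^ 3 := Nat.pow_le_pow_left h0 3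
        have : q₀ ^ 7 * 2 ≤ q₀ ^ 7 * q₀ ^ 3 := Nat.mul_le_mul_left _ (by omega)
        omega
      calc q₀ ^ 12 = q₀ ^ 5 * q₀ ^ 7 := by ring
        _ ≤ _ := Nat.mul_le_mul_left _ h8
    have : 0 < q₀ ^ 8 := by positivity
    omega

theorem not_orthU_hess {p : ℕ} (hp : 11 ≤ p) : ¬ p * (p ^ 2 - 1) ∣ 648 := fun h => by
  have h1 := Nat.le_of_dvd (by norm_num) h
  have : 121 ≤ p ^ 2 := by nlinarith
  have : 11 * 120 ≤ p * (p ^ 2 - 1) := Nat.mul_le_mul hp (by omega)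
  omega

theorem not_orthU_psl {q : ℕ} (h : PslCond q) (hq : 7 ≤ q) : ¬ q ∣ 1008 := fun hd => by
  obtain ⟨hp, -, h7⟩ := h
  have : q = 2 ∨ q = 3 ∨ q = 7 := by
    rw [show 1008 = 2 ^ 4 * (3 ^ 2 * 7) by norm_num] at hd
    rcases (Nat.Prime.dvd_mul hp).1 hd with h | h
    · exact Or.inl ((Nat.prime_dvd_prime_iff_eq hp Nat.prime_two).1 (hp.dvd_of_dvd_pow h))
    rcases (Nat.Prime.dvd_mul hp).1 h with h | h
    · exact Or.inr (Or.inl ((Nat.prime_dvd_prime_iff_eq hp Nat.prime_three).1 (hp.dvd_of_dvd_pow h)))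
    · exact Or.inr (Or.inr ((Nat.prime_dvd_prime_iff_eq hp (by norm_num)).1 h))
  omega

theorem not_orthU_six {q : ℕ} (hp : q.Prime) (h : q % 15 = 11 ∨ q % 15 = 14) : ¬ q ∣ 2160 := fun hd => by
  have h11 := eleven_le h
  rw [show 2160 = 2 ^ 4 * (3 ^ 3 * 5) by norm_num] at hd
  rcases (Nat.Prime.dvd_mul hp).1 hd with h | h
  · have := (Nat.prime_dvd_prime_iff_eq hp Nat.prime_two).1 (hp.dvd_of_dvd_pow h); omega
  rcases (Nat.Prime.dvd_mul hp).1 h with h | h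
  · have := (Nat.prime_dvd_prime_iff_eq hp Nat.prime_three).1 (hp.dvd_of_dvd_pow h); omega
  · have := (Nat.prime_dvd_prime_iff_eq hp (by norm_num)).1 h; omega

end CfsgLib.Geo.SL3.Maximal.Arith
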