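/-
Cubic subfields of the matrix algebra of degree three, their cyclic groups and their normalisers.
-/
import Cfsg.Agent.Lib.Geo.SL3.Maximal.Monomial
import Cfsg.Agent.Lib.Geo.SL3.Maximal.ArithLinear

set_option autoImplicit false

namespace CfsgLib.Geo.SL3.Maximal

open Matrix Cfsg.Geo Module
open scoped MatrixGroups

variable {F : Type*} [Field F]

local notation "M3" => Matrix (Fin 3) (Fin 3) F

variable {K : Subalgebra F (Matrix (Fin 3) (Fin 3) F)}

/-- A cubic subfield as a field. -/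
@[reducible] noncomputable def fieldOf (hK : IsFieldSubalgebra 3 K) : Field K :=
  letI : CommRing K := { (inferInstance : Ring K) with mul_comm := fun a b => Subtype.ext (hK.comm a a.2 b b.2) }
  haveI : Nontrivial K := ⟨⟨0, 1, zero_ne_one⟩⟩
  IsField.toField ⟨exists_pair_ne K, mul_comm, fun {a} ha => by
    obtain ⟨y, hy, hxy⟩ := hK.inv a a.2 (fun h => ha (Subtype.ext h))
    exact ⟨⟨y, hy⟩, Subtype.ext hxy⟩⟩

theorem card_cubic [Fintype F] (hK : IsFieldSubalgebra 3 K) : Nat.card K = Fintype.card F ^ 3 := by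
  rw [Module.natCard_eq_pow_finrank (K := F), hK.finrank_eq, Nat.card_eq_fintype_card]

theorem eq_scalar_or_adjoin (hK : IsFieldSubalgebra 3 K) {x : M3} (hx : x ∈ K) (hns : ∀ c : F, x ≠ c • 1) :
    Algebra.adjoin F {x} = K := by
  letI : Field K := fieldOf hK
  have h3 : finrank F K = 3 := hK.finrank_eq
  haveI : FiniteDimensional F K := FiniteDimensional.of_finrank_pos (by rw [h3]; norm_num)
  let S := IntermediateField.adjoin F ({⟨x, hx⟩} : Set K)
  have hdvd : finrank F S ∣ 3 := (Dvd.intro _ (Module.finrank_mul_finrank F S K)).trans h3.dvd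
  rcases (Nat.dvd_prime Nat.prime_three).1 hdvd with h | h
  · exfalso
    rw [IntermediateField.finrank_adjoin_simple_eq_one_iff, IntermediateField.mem_bot] at h
    obtain ⟨c, hc⟩ := h
    refine hns c ?_
    exact (congrArg Subtype.val hc).symm.trans (Algebra.algebraMap_eq_smul_one c)
  · have hle : Algebra.adjoin F {x} ≤ K := Algebra.adjoin_le (by simpa using hx)
    refine le_antisymm hle fun y hy => ?_
    have htop : S = ⊤ := IntermediateField.eq_of_le_of_finrank_eq le_top (by
      rw [h, IntermediateField.finrank_top', h3])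
    have hmem : (⟨y, hy⟩ : K) ∈ S.toSubalgebra := by
      rw [htop]; trivial
    rw [IntermediateField.adjoin_simple_toSubalgebra_of_isAlgebraic (Algebra.IsAlgebraic.isAlgebraic _)] at hmem
    have := (Subalgebra.mem_map (f := K.val)).2 ⟨_, hmem, rfl⟩
    rw [AlgHom.map_adjoin_singleton] at this
    exact this

/-- The coordinates of the space as a line over the cubic field. -/
theorem exists_coord (hK : IsFieldSubalgebra 3 K) (v : Fin 3 → F) (hv : v ≠ 0) (w : Fin 3 → F) :
    ∃ k ∈ K, (k : M3) *ᵥ v = w := by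
  let f : K →ₗ[F] (Fin 3 → F) :=
    { toFun := fun k => (k : M3) *ᵥ v
      map_add' := fun a b => Matrix.add_mulVec (a : M3) (b : M3) _
      map_smul' := fun c a => Matrix.smul_mulVec c (a : M3) _ }
  have hf : Function.Injective f := by
    rw [injective_iff_map_eq_zero]
    intro k hk
    by_contra h
    obtain ⟨y, hy, hxy⟩ := hK.inv k k.2 (fun e => h (Subtype.ext e))
    refine hv ?_
    calc v = ((y : M3) * (k : M3)) *ᵥ v := by rw [hK.comm y hy k k.2, hxy, Matrix.one_mulVec]
      _ = 0 := by rw [← Matrix.mulVec_mulVec, show (k : M3) *ᵥ v = 0 from hk, Matrix.mulVec_zero]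
  haveI : FiniteDimensional F K := FiniteDimensional.of_finrank_pos (by rw [hK.finrank_eq]; norm_num)
  obtain ⟨k, hk⟩ := (LinearMap.injective_iff_surjective_of_finrank_eq_finrank
    (by rw [hK.finrank_eq, Module.finrank_fin_fun])).1 hf w
  exact ⟨k, k.2, hk⟩

/-- The centraliser of the field is the field. -/
theorem mem_of_commute (hK : IsFieldSubalgebra 3 K) {g : M3} (h : ∀ k ∈ K, g * k = k * g) : g ∈ K := by
  obtain ⟨m, hm, hmv⟩ := exists_coord hK (Pi.single 0 1) (by simp) (g *ᵥ Pi.single 0 1)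
  have : g = m := Matrix.ext_of_mulVec_single fun j => by
    obtain ⟨k, hk, hkv⟩ := exists_coord hK (Pi.single 0 1) (by simp) (Pi.single j 1)
    rw [← hkv, Matrix.mulVec_mulVec, h k hk, ← Matrix.mulVec_mulVec, ← hmv, Matrix.mulVec_mulVec,
      Matrix.mulVec_mulVec, hK.comm k hk m hm]
  exact this ▸ hm

/-- The determinant of an element of the field is its norm. -/
theorem det_eq_pow [Fintype F] (hK : IsFieldSubalgebra 3 K) {x : M3} (hx : x ∈ K) :
    x ^ (Fintype.card F ^ 2 + Fintype.card F + 1) = x.det • (1 : M3) := by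
  classical
  letI : Field K := fieldOf hK
  haveI : FiniteDimensional F K := FiniteDimensional.of_finrank_pos (by rw [hK.finrank_eq]; norm_num)
  haveI : Finite K := Module.finite_of_finite F
  let e1 : K →ₗ[F] (Fin 3 → F) :=
    { toFun := fun k => (k : M3) *ᵥ Pi.single 0 1
      map_add' := fun a b => Matrix.add_mulVec (a : M3) (b : M3) _
      map_smul' := fun c a => Matrix.smul_mulVec c (a : M3) _ }
  have hs : Function.Surjective e1 := fun w => by
    obtain ⟨k, hk, hkv⟩ := exists_coord hK (Pi.single 0 1) (by simp) w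
    exact ⟨⟨k, hk⟩, hkv⟩
  let e : K ≃ₗ[F] (Fin 3 → F) := LinearEquiv.ofBijective e1
    ⟨(LinearMap.injective_iff_surjective_of_finrank_eq_finrank
      (by rw [hK.finrank_eq, Module.finrank_fin_fun])).2 hs, hs⟩
  have hdet : x.det = Algebra.norm F (⟨x, hx⟩ : K) := by
    rw [← LinearMap.det_toLin', Algebra.norm_apply,
      show Matrix.toLin' x = e.toLinearMap ∘ₗ Algebra.lmul F K ⟨x, hx⟩ ∘ₗ e.symm.toLinearMap from ?_,
      LinearMap.det_conj]
    refine LinearMap.ext fun v => ?_
    obtain ⟨l, rfl⟩ := e.surjective v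
    rw [LinearMap.comp_apply, LinearMap.comp_apply, LinearEquiv.coe_coe, LinearEquiv.coe_coe,
      LinearEquiv.symm_apply_apply, Matrix.toLin'_apply]
    show x *ᵥ ((l : M3) *ᵥ _) = ((⟨x, hx⟩ * l : K) : M3) *ᵥ _
    rw [Matrix.mulVec_mulVec]
    rfl
  have hexp : (Nat.card K - 1) / (Nat.card F - 1) = Fintype.card F ^ 2 + Fintype.card F + 1 := by
    rw [card_cubic hK, Nat.card_eq_fintype_card]
    have hq1 : 1 < Fintype.card F := Fintype.one_lt_card
    refine Nat.div_eq_of_eq_mul_left (by omega) ?_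
    obtain ⟨t, ht⟩ : ∃ t, Fintype.card F = t + 1 := ⟨Fintype.card F - 1, by omega⟩
    rw [ht, Nat.add_sub_cancel, show (t + 1) ^ 3 = ((t + 1) ^ 2 + (t + 1) + 1) * t + 1 by ring, Nat.add_sub_cancel]
  have h := congrArg Subtype.val (FiniteField.algebraMap_norm_eq_pow (K := F) (K' := K) (x := (⟨x, hx⟩ : K)))
  rw [hexp, ← hdet] at h
  calc x ^ (Fintype.card F ^ 2 + Fintype.card F + 1)
      = ((⟨x, hx⟩ : K) ^ (Fintype.card F ^ 2 + Fintype.card F + 1) : K).1 := rfl
    _ = x.det • (1 : M3) := by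
      rw [← h]
      exact Algebra.algebraMap_eq_smul_one _

/-- The elements of the field of order dividing `m`. -/
def cyc (hK : IsFieldSubalgebra 3 K) (m : ℕ) [NeZero m] : Subgroup (GL (Fin 3) F) where
  carrier := {g | (g : M3) ∈ K ∧ g ^ m = 1}
  mul_mem' := by
    rintro a b ⟨ha, ha'⟩ ⟨hb, hb'⟩
    refine ⟨by rw [Units.val_mul]; exact K.mul_mem ha hb, ?_⟩
    have hc : Commute a b := Units.ext (by rw [Units.val_mul, Units.val_mul]; exact hK.comm _ ha _ hb)
    rw [hc.mul_pow, ha', hb', one_mul]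
  one_mem' := ⟨by rw [Units.val_one]; exact K.one_mem, one_pow m⟩
  inv_mem' := by
    rintro a ⟨ha, ha'⟩
    refine ⟨?_, by rw [inv_pow, ha', inv_one]⟩
    have : a⁻¹ = a ^ (m - 1) := by
      refine inv_eq_of_mul_eq_one_right ?_
      rw [← pow_succ', Nat.sub_add_cancel (NeZero.one_le), ha']
    rw [this, Units.val_pow_eq_pow_val]
    exact K.pow_mem ha _

theorem card_cyc [Fintype F] (hK : IsFieldSubalgebra 3 K) {m : ℕ} [NeZero m]
    (hm : m ∣ Fintype.card F ^ 3 - 1) : Nat.card (cyc hK m) = m := by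
  classical
  letI : Field K := fieldOf hK
  haveI : FiniteDimensional F K := FiniteDimensional.of_finrank_pos (by rw [hK.finrank_eq]; norm_num)
  haveI : Finite K := Module.finite_of_finite F
  have h : Nat.card (powMonoidHom m : Kˣ →* Kˣ).ker = m := by
    rw [IsCyclic.card_powMonoidHom_ker, Nat.card_units, card_cubic hK]
    exact Nat.gcd_eq_right hm
  refine Eq.trans ?_ h
  let ι : Kˣ →* GL (Fin 3) F := Units.map (K.val : K →* M3)
  have hι : Function.Injective ι := fun a b e => Units.ext (Subtype.ext (congrArg Units.val e))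
  refine (Nat.card_eq_of_bijective (fun u : (powMonoidHom m : Kˣ →* Kˣ).ker =>
    (⟨ι u, (u : Kˣ).val.2, ?_⟩ : cyc hK m)) ⟨?_, ?_⟩).symm
  · rw [← map_pow, show (u : Kˣ) ^ m = 1 from u.2, map_one]
  · intro a b e
    exact Subtype.ext (hι (congrArg Subtype.val e))
  · rintro ⟨g, hg, hg'⟩
    have hinv : ((g⁻¹ : GL (Fin 3) F) : M3) ∈ K := ((cyc hK m).inv_mem (show g ∈ cyc hK m from ⟨hg, hg'⟩)).1
    let u : Kˣ := ⟨⟨g, hg⟩, ⟨_, hinv⟩, Subtype.ext (by simp), Subtype.ext (by simp)⟩
    refine ⟨⟨u, hι ?_⟩, Subtype.ext (Units.ext rfl)⟩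
    rw [powMonoidHom_apply, map_pow, map_one, show ι u = g from Units.ext rfl, hg']

theorem isCyclic_cyc [Finite F] (hK : IsFieldSubalgebra 3 K) (m : ℕ) [NeZero m] : IsCyclic (cyc hK m) := by
  letI : Field K := fieldOf hK
  let f : cyc hK m →* K :=
    { toFun := fun g => ⟨((g : GL (Fin 3) F) : M3), g.2.1⟩
      map_one' := Subtype.ext (Units.val_one)
      map_mul' := fun a b => Subtype.ext (Units.val_mul _ _) }
  exact isCyclic_of_subgroup_isDomain f fun a b e => Subtype.ext (Units.ext (congrArg Subtype.val e))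

/-- The exponents used. -/
structure IsExp [Fintype F] (m : ℕ) : Prop where
  dvd : m ∣ Fintype.card F ^ 2 + Fintype.card F + 1
  seven : 7 ≤ m
  nine : ¬ 9 ∣ m

theorem IsExp.dvd_sub [Fintype F] {m : ℕ} (hm : IsExp (F := F) m) : m ∣ Fintype.card F ^ 3 - 1 := by
  refine hm.dvd.trans ⟨Fintype.card F - 1, ?_⟩
  obtain ⟨t, ht⟩ : ∃ t, Fintype.card F = t + 1 := ⟨Fintype.card F - 1, by
    have : 0 < Fintype.card F := Fintype.card_pos; omega⟩
  rw [ht, Nat.add_sub_cancel, show (t + 1) ^ 3 = ((t + 1) ^ 2 + (t + 1) + 1) * t + 1 by ring, Nat.add_sub_cancel]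

variable [Fintype F]

theorem cyc_le_specialLinear (hK : IsFieldSubalgebra 3 K) {m : ℕ} [NeZero m] (hm : IsExp (F := F) m) :
    cyc hK m ≤ specialLinear (Fin 3) F := by
  rintro g ⟨hg, hg'⟩
  refine mem_specialLinear ?_
  obtain ⟨c, hc⟩ := hm.dvd
  have h := det_eq_pow hK hg
  rw [hc, pow_mul, ← Units.val_pow_eq_pow_val, hg', Units.val_one, one_pow] at h
  have h0 := congrFun (congrFun h 0) 0
  simpa using h0.symm

theorem cyc_le_normalizer (hK : IsFieldSubalgebra 3 K) (m : ℕ) [NeZero m] :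
    cyc hK m ≤ subalgebraNormalizer K := by
  intro g hg
  have hcomm : ∀ h ∈ cyc hK m, ∀ k ∈ K, (h : M3) * k * ((h⁻¹ : GL (Fin 3) F) : M3) = k := fun h hh k hk => by
    rw [hK.comm _ hh.1 _ hk, mul_assoc, ← Units.val_mul, mul_inv_cancel, Units.val_one, mul_one]
  intro k
  refine ⟨fun hk => (hcomm g hg k hk).symm ▸ hk, fun hk => ?_⟩
  have := hcomm g⁻¹ ((cyc hK m).inv_mem hg) _ hk
  rw [inv_inv] at this
  simp only [mul_assoc, Units.inv_mul_cancel_left, Units.inv_mul, mul_one] at this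
  rw [mul_assoc, ← this] at hk
  exact hk

/-- A generator is not a scalar, nor is its cube. -/
theorem exists_gen (hK : IsFieldSubalgebra 3 K) {m : ℕ} [NeZero m] (hm : IsExp (F := F) m) :
    ∃ x ∈ cyc hK m, orderOf x = m ∧ ∀ c : F, ((x ^ 3 : GL (Fin 3) F) : M3) ≠ c • 1 := by
  obtain ⟨x, hx⟩ := (isCyclic_cyc hK m).exists_ofOrder_eq_natCard
  rw [card_cyc hK hm.dvd_sub, ← Subgroup.orderOf_coe] at hx
  refine ⟨x, x.2, hx, fun c hc => ?_⟩
  have hd : ((x : GL (Fin 3) F) ^ 3 : GL (Fin 3) F) ∈ specialLinear (Fin 3) F :=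
    Subgroup.pow_mem _ (cyc_le_specialLinear hK hm x.2) 3
  have h1 := congrArg Units.val (MonoidHom.mem_ker.1 hd)
  rw [Matrix.GeneralLinearGroup.val_det_apply, hc, Matrix.det_smul, Matrix.det_one, mul_one, Fintype.card_fin,
    Units.val_one] at h1
  have h9 : (x : GL (Fin 3) F) ^ 9 = 1 := by
    apply Units.ext
    rw [show 9 = 3 * 3 by norm_num, pow_mul, Units.val_pow_eq_pow_val, hc, smul_pow, one_pow, h1, one_smul,
      Units.val_one]
  have hdvd := orderOf_dvd_of_pow_eq_one h9
  rw [hx] at hdvd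
  have := hm.seven
  have := Nat.le_of_dvd (by norm_num) hdvd
  have := hm.nine
  interval_cases m <;> omega

theorem irreducible_cyc (hK : IsFieldSubalgebra 3 K) {m : ℕ} [NeZero m] (hm : IsExp (F := F) m)
    (W : Submodule F (Fin 3 → F)) (hW : ∀ g ∈ cyc hK m, ∀ w ∈ W, (g : M3) *ᵥ w ∈ W) : W = ⊥ ∨ W = ⊤ := by
  by_cases h0 : W = ⊥
  · exact Or.inl h0
  obtain ⟨x, hx, -, hns⟩ := exists_gen hK hm
  have hgen : Algebra.adjoin F {((x ^ 3 : GL (Fin 3) F) : M3)} = K :=
    eq_scalar_or_adjoin hK (by rw [Units.val_pow_eq_pow_val]; exact K.pow_mem hx.1 3) hns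
  have hall : ∀ k ∈ K, ∀ w ∈ W, k *ᵥ w ∈ W := by
    intro k hk
    rw [← hgen] at hk
    induction hk using Algebra.adjoin_induction with
    | mem y hy =>
      rw [Set.mem_singleton_iff] at hy
      subst hy
      exact hW _ ((cyc hK m).pow_mem hx 3)
    | algebraMap c =>
      intro w hw
      rw [Algebra.algebraMap_eq_smul_one, Matrix.smul_mulVec, Matrix.one_mulVec]
      exact W.smul_mem c hw
    | add a b _ _ ha hb => intro w hw; rw [Matrix.add_mulVec]; exact W.add_mem (ha w hw) (hb w hw)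
    | mul a b _ _ ha hb => intro w hw; rw [← Matrix.mulVec_mulVec]; exact ha _ (hb w hw)
  obtain ⟨w, hw, hw0⟩ := W.ne_bot_iff.1 h0
  refine Or.inr (eq_top_iff.2 fun y _ => ?_)
  obtain ⟨k, hk, rfl⟩ := exists_coord hK w hw0 y
  exact hall k hk w hw

/-- A field whose normaliser contains the cyclic group is equal to the field. -/
theorem field_unique (hK : IsFieldSubalgebra 3 K) {m : ℕ} [NeZero m] (hm : IsExp (F := F) m)
    {K' : Subalgebra F M3} (hK' : IsFieldSubalgebra 3 K') (h : cyc hK m ≤ subalgebraNormalizer K') : K = K' := by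
  classical
  obtain ⟨x, hx, -, hns⟩ := exists_gen hK hm
  letI : Field K' := fieldOf hK'
  haveI : FiniteDimensional F K' := FiniteDimensional.of_finrank_pos (by rw [hK'.finrank_eq]; norm_num)
  haveI : Finite K' := Module.finite_of_finite F
  have hxn := h hx
  let φ : K' →ₐ[F] K' :=
    { toFun := fun k => ⟨(x : M3) * k * ((x⁻¹ : GL (Fin 3) F) : M3), (hxn k).1 k.2⟩
      map_one' := Subtype.ext (by simp)
      map_mul' := fun a b => Subtype.ext (by
        simp only [Subalgebra.coe_mul, mul_assoc, Units.inv_mul_cancel_left])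
      map_zero' := Subtype.ext (by simp)
      map_add' := fun a b => Subtype.ext (by simp [mul_add, add_mul])
      commutes' := fun c => Subtype.ext (by
        show (x : M3) * algebraMap F M3 c * _ = algebraMap F M3 c
        rw [← Algebra.commutes, mul_assoc, ← Units.val_mul, mul_inv_cancel, Units.val_one, mul_one]) }
  let ψ : K' ≃ₐ[F] K' := AlgEquiv.ofBijective φ φ.bijective
  have hψ3 : ψ ^ 3 = 1 := by
    have hcard : Nat.card (K' ≃ₐ[F] K') = 3 := by rw [IsGalois.card_aut_eq_finrank, hK'.finrank_eq]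
    exact (congrArg (ψ ^ ·) hcard).symm.trans pow_card_eq_one'
  have hfix : ∀ k ∈ K', ((x ^ 3 : GL (Fin 3) F) : M3) * k = k * ((x ^ 3 : GL (Fin 3) F) : M3) := by
    intro k hk
    have h3 := congrArg Subtype.val (AlgEquiv.congr_fun hψ3 ⟨k, hk⟩)
    have e : ((ψ ^ 3) ⟨k, hk⟩ : K') = ψ (ψ (ψ ⟨k, hk⟩)) := rfl
    rw [e] at h3
    have h4 : ((x ^ 3 : GL (Fin 3) F) : M3) * k * (((x ^ 3)⁻¹ : GL (Fin 3) F) : M3) = k := by
      refine Eq.trans ?_ h3
      show _ = (x : M3) * ((x : M3) * ((x : M3) * k * _) * _) * _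
      simp only [pow_succ, pow_zero, one_mul, _root_.mul_inv_rev, Units.val_mul, mul_assoc]
    calc _ = ((x ^ 3 : GL (Fin 3) F) : M3) * k * (((x ^ 3)⁻¹ : GL (Fin 3) F) : M3) * ((x ^ 3 : GL (Fin 3) F) : M3) := by
          rw [mul_assoc, ← Units.val_mul, inv_mul_cancel, Units.val_one, mul_one]
      _ = _ := by rw [h4]
  have hxK' : ((x ^ 3 : GL (Fin 3) F) : M3) ∈ K' := mem_of_commute hK' hfix
  rw [← eq_scalar_or_adjoin hK (by rw [Units.val_pow_eq_pow_val]; exact K.pow_mem hx.1 3) hns,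
    ← eq_scalar_or_adjoin hK' hxK' hns]

/-- The normaliser in a subgroup is a cubic cover of its part inside the field. -/
theorem card_normalizer_dvd (hK : IsFieldSubalgebra 3 K) (S : Subgroup (GL (Fin 3) F)) {m : ℕ} [NeZero m]
    (hm : IsExp (F := F) m) (hS : ∀ g ∈ S, (g : M3) ∈ K → g ^ m = 1) :
    Nat.card (subalgebraNormalizer K ⊓ S : Subgroup _) ∣ 3 * m := by
  classical
  letI : Field K := fieldOf hK
  haveI : FiniteDimensional F K := FiniteDimensional.of_finrank_pos (by rw [hK.finrank_eq]; norm_num)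
  haveI : Finite K := Module.finite_of_finite F
  let T : Subgroup (GL (Fin 3) F) := subalgebraNormalizer K ⊓ S
  let φ : T →* (K ≃ₐ[F] K) :=
    { toFun := fun g => AlgEquiv.ofBijective
        ({ toFun := fun k => ⟨((g : GL (Fin 3) F) : M3) * k * (((g : GL (Fin 3) F)⁻¹ : GL (Fin 3) F) : M3),
            (g.2.1 k).1 k.2⟩
           map_one' := Subtype.ext (by simp)
           map_mul' := fun a b => Subtype.ext (by
             simp only [Subalgebra.coe_mul, mul_assoc, Units.inv_mul_cancel_left])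
           map_zero' := Subtype.ext (by simp)
           map_add' := fun a b => Subtype.ext (by simp [mul_add, add_mul])
           commutes' := fun c => Subtype.ext (by
             show ((g : GL (Fin 3) F) : M3) * algebraMap F M3 c * _ = algebraMap F M3 c
             rw [← Algebra.commutes, mul_assoc, ← Units.val_mul, mul_inv_cancel, Units.val_one, mul_one]) } :
          K →ₐ[F] K) (AlgHom.bijective _)
      map_one' := AlgEquiv.ext fun k => Subtype.ext (by simp)
      map_mul' := fun g h => AlgEquiv.ext fun k => Subtype.ext (by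
        show _ = ((g : GL (Fin 3) F) : M3) * (((h : GL (Fin 3) F) : M3) * k * _) * _
        simp only [Subgroup.coe_mul, _root_.mul_inv_rev, Units.val_mul, mul_assoc]
        rfl) }
  have hker : φ.ker ≤ (cyc hK m).subgroupOf T := by
    intro g hg
    have hc : ∀ k ∈ K, ((g : GL (Fin 3) F) : M3) * k = k * ((g : GL (Fin 3) F) : M3) := fun k hk => by
      have h1 : ((g : GL (Fin 3) F) : M3) * k * (((g : GL (Fin 3) F)⁻¹ : GL (Fin 3) F) : M3) = k :=
        congrArg Subtype.val (AlgEquiv.congr_fun (MonoidHom.mem_ker.1 hg) ⟨k, hk⟩)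
      calc _ = ((g : GL (Fin 3) F) : M3) * k * (((g : GL (Fin 3) F)⁻¹ : GL (Fin 3) F) : M3) *
            ((g : GL (Fin 3) F) : M3) := by
            rw [mul_assoc, ← Units.val_mul, inv_mul_cancel, Units.val_one, mul_one]
        _ = _ := by rw [h1]
    have hgK := mem_of_commute hK hc
    exact ⟨hgK, hS _ g.2.2 hgK⟩
  have hk : Nat.card φ.ker ∣ m := by
    refine (Subgroup.card_dvd_of_le hker).trans ?_
    rw [← Subgroup.inf_subgroupOf_right, Nat.card_congr (Subgroup.subgroupOfEquivOfLe inf_le_right).toEquiv]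
    exact (Subgroup.card_dvd_of_le inf_le_left).trans (card_cyc hK hm.dvd_sub).dvd
  have hr : Nat.card φ.range ∣ 3 :=
    (Subgroup.card_subgroup_dvd_card _).trans (by rw [IsGalois.card_aut_eq_finrank, hK.finrank_eq])
  have h := φ.ker.card_mul_index
  rw [Subgroup.index_ker] at h
  show Nat.card T ∣ _
  rw [← h, mul_comm 3]
  exact Nat.mul_dvd_mul hk hr

end CfsgLib.Geo.SL3.Maximal
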