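/-
Subfield subgroups of SL(3): their orders, irreducibility and elementary transvections.
-/
import Cfsg.Agent.Lib.Geo.SL3.Maximal.Heisenberg
import Cfsg.Agent.Lib.Geo.SL3.Maximal.ArithLinear
import Cfsg.Agent.Lib.Classical.Dickson.SubgroupFacts

set_option autoImplicit false

namespace CfsgLib.Geo.SL3.Maximal

open Matrix Cfsg.Geo

variable {F : Type*} [Field F]

local notation "M3" => Matrix (Fin 3) (Fin 3) F

/-- The part of determinant one of a subfield subgroup. -/
abbrev subGroup (F₀ : Subfield F) (P : GL (Fin 3) F) : Subgroup (GL (Fin 3) F) :=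
  subfieldSubgroup F₀ P ⊓ specialLinear (Fin 3) F

theorem subfield_eq [Finite F] {k k' : Subfield F} (h : Nat.card k = Nat.card k') : k = k' :=
  SetLike.ext fun x => by
    rw [CfsgLib.Classical.Dickson.mem_subfield_iff_pow, CfsgLib.Classical.Dickson.mem_subfield_iff_pow, h]

theorem subGroup_eq_map (F₀ : Subfield F) (P : GL (Fin 3) F) :
    subGroup F₀ P = (subGroup F₀ 1).map (MulAut.conj P).toMonoidHom := by
  ext g
  have hd : ∀ Q : GL (Fin 3) F, (P * Q * P⁻¹ ∈ specialLinear (Fin 3) F) ↔ Q ∈ specialLinear (Fin 3) F := fun Q => by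
    rw [Cfsg.Geo.specialLinear, MonoidHom.mem_ker, MonoidHom.mem_ker, map_mul, map_mul, map_inv,
      mul_inv_cancel_comm]
  rw [Subgroup.mem_map]
  constructor
  · rintro ⟨hg, hs⟩
    obtain ⟨A, c, hc⟩ := mem_subfieldSubgroup_iff.1 hg
    refine ⟨P⁻¹ * g * P, ⟨mem_subfieldSubgroup_iff.2 ⟨A, c, by simpa using hc⟩, ?_⟩, ?_⟩
    · refine (hd _).1 ?_; rw [show P * (P⁻¹ * g * P) * P⁻¹ = g by group]; exact hs
    · simp only [MulEquiv.coe_toMonoidHom, MulAut.conj_apply]; group
  · rintro ⟨x, ⟨hx, hs⟩, rfl⟩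
    obtain ⟨A, c, hc⟩ := mem_subfieldSubgroup_iff.1 hx
    simp only [MulEquiv.coe_toMonoidHom, MulAut.conj_apply]
    refine ⟨mem_subfieldSubgroup_iff.2 ⟨A, c, ?_⟩, (hd x).2 hs⟩
    rw [show P⁻¹ * (P * x * P⁻¹) * P = x by group]
    simpa using hc

theorem card_subGroup_eq (F₀ : Subfield F) (P P' : GL (Fin 3) F) :
    Nat.card (subGroup F₀ P) = Nat.card (subGroup F₀ P') := by
  rw [subGroup_eq_map F₀ P, subGroup_eq_map F₀ P', Subgroup.card_map_of_injective (MulEquiv.injective _),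
    Subgroup.card_map_of_injective (MulEquiv.injective _)]

/-- The determinant-one matrices over the subfield. -/
noncomputable def slMap (F₀ : Subfield F) : Matrix.SpecialLinearGroup (Fin 3) F₀ →* GL (Fin 3) F :=
  (Matrix.GeneralLinearGroup.map (F₀.subtype : F₀ →+* F)).comp Matrix.SpecialLinearGroup.toGL

theorem slMap_val (F₀ : Subfield F) (A : Matrix.SpecialLinearGroup (Fin 3) F₀) :
    (slMap F₀ A : M3) = (A : Matrix (Fin 3) (Fin 3) F₀).map F₀.subtype := rfl

theorem slMap_injective (F₀ : Subfield F) : Function.Injective (slMap F₀) := fun A B e => by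
  refine Subtype.ext (Matrix.map_injective F₀.subtype.injective ?_)
  exact congrArg Units.val e

theorem slMap_mem (F₀ : Subfield F) (A : Matrix.SpecialLinearGroup (Fin 3) F₀) : slMap F₀ A ∈ subGroup F₀ 1 := by
  refine ⟨mem_subfieldSubgroup_iff.2 ⟨Matrix.SpecialLinearGroup.toGL A, 1, ?_⟩, mem_specialLinear ?_⟩
  · simp only [inv_one, one_mul, mul_one, Units.val_one, one_smul]
    rfl
  · rw [slMap_val, show (A : Matrix (Fin 3) (Fin 3) F₀).map F₀.subtype =
      F₀.subtype.mapMatrix (A : Matrix (Fin 3) (Fin 3) F₀) from rfl, ← RingHom.map_det, A.det_coe, map_one]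

theorem card_slThree [Finite F] (F₀ : Subfield F) :
    Nat.card (Matrix.SpecialLinearGroup (Fin 3) F₀) = Arith.ordSL (Nat.card F₀) := by
  haveI := Fintype.ofFinite F₀
  have h := CfsgLib.Classical.card_SL (F := F₀) 3 (by norm_num)
  rw [← Nat.card_eq_fintype_card (α := F₀), Fin.prod_univ_three] at h
  have h1 : 1 < Nat.card F₀ := Finite.one_lt_card
  generalize Nat.card F₀ = q at h h1 ⊢
  simp only [Fin.val_zero, Fin.val_one, Fin.val_two, pow_zero, pow_one] at h
  rw [show q ^ 3 - q = q * (q ^ 2 - 1) by rw [Nat.mul_sub, mul_one]; ring_nf,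
    show q ^ 3 - q ^ 2 = q ^ 2 * (q - 1) by rw [Nat.mul_sub, mul_one]; ring_nf] at h
  refine Nat.eq_of_mul_eq_mul_left (show 0 < q - 1 by omega) (h.trans ?_)
  show _ = (q - 1) * (q ^ 3 * (q ^ 2 - 1) * (q ^ 3 - 1))
  ring

theorem ordSL_dvd [Finite F] (F₀ : Subfield F) (P : GL (Fin 3) F) :
    Arith.ordSL (Nat.card F₀) ∣ Nat.card (subGroup F₀ P) := by
  rw [card_subGroup_eq F₀ P 1, ← card_slThree F₀, Nat.card_congr (MonoidHom.ofInjective (slMap_injective F₀)).toEquiv]
  refine Subgroup.card_dvd_of_le ?_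
  rintro _ ⟨A, rfl⟩
  exact slMap_mem F₀ A

theorem scal_unique {F₀ : Subfield F} {A B : GL (Fin 3) F₀} {c d : Fˣ}
    (h : (c : F) • (A : Matrix (Fin 3) (Fin 3) F₀).map F₀.subtype = (d : F) • (B : Matrix (Fin 3) (Fin 3) F₀).map F₀.subtype) :
    c⁻¹ * d ∈ (Units.map (F₀.subtype : F₀ →+* F).toMonoidHom).range := by
  obtain ⟨i, j, hij⟩ : ∃ i j, (B : Matrix (Fin 3) (Fin 3) F₀) i j ≠ 0 := by
    by_contra! hall
    exact B.ne_zero (Matrix.ext hall)
  have e := congrFun (congrFun h i) j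
  simp only [Matrix.smul_apply, Matrix.map_apply, smul_eq_mul] at e
  have hB : F₀.subtype ((B : Matrix (Fin 3) (Fin 3) F₀) i j) ≠ 0 := fun h0 => hij
    (F₀.subtype.injective (h0.trans (map_zero _).symm))
  have hA : (A : Matrix (Fin 3) (Fin 3) F₀) i j ≠ 0 := fun h0 => by
    rw [h0, map_zero, mul_zero] at e
    exact mul_ne_zero d.ne_zero hB e.symm
  refine ⟨Units.mk0 _ (div_ne_zero hA hij), Units.ext ?_⟩
  show F₀.subtype ((A : Matrix (Fin 3) (Fin 3) F₀) i j / (B : Matrix (Fin 3) (Fin 3) F₀) i j) = _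
  rw [map_div₀, Units.val_mul, Units.val_inv_eq_inv_val, div_eq_iff hB, mul_assoc, ← e, ← mul_assoc,
    inv_mul_cancel₀ c.ne_zero, one_mul]

theorem exists_form {F₀ : Subfield F} (g : subGroup F₀ (1 : GL (Fin 3) F)) :
    ∃ (A : GL (Fin 3) F₀) (c : Fˣ),
      ((g : GL (Fin 3) F) : M3) = (c : F) • (A : Matrix (Fin 3) (Fin 3) F₀).map F₀.subtype := by
  obtain ⟨A, c, h⟩ := mem_subfieldSubgroup_iff.1 g.2.1
  exact ⟨A, c, by simpa using h⟩

theorem scal_class_eq {F₀ : Subfield F} (g : subGroup F₀ (1 : GL (Fin 3) F)) (A : GL (Fin 3) F₀) (c : Fˣ)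
    (h : ((g : GL (Fin 3) F) : M3) = (c : F) • (A : Matrix (Fin 3) (Fin 3) F₀).map F₀.subtype) :
    (((exists_form g).choose_spec.choose : Fˣ) : Fˣ ⧸ (Units.map (F₀.subtype : F₀ →+* F).toMonoidHom).range) = c :=
  QuotientGroup.eq.2 (scal_unique ((exists_form g).choose_spec.choose_spec.symm.trans h))

/-- The class of the scalar factor. -/
noncomputable def scalClass (F₀ : Subfield F) :
    subGroup F₀ (1 : GL (Fin 3) F) →* Fˣ ⧸ (Units.map (F₀.subtype : F₀ →+* F).toMonoidHom).range where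
  toFun g := ((exists_form g).choose_spec.choose : Fˣ)
  map_one' := scal_class_eq 1 1 1 (by simp)
  map_mul' g g' := by
    refine (scal_class_eq (g * g') ((exists_form g).choose * (exists_form g').choose)
      ((exists_form g).choose_spec.choose * (exists_form g').choose_spec.choose) ?_).trans (QuotientGroup.mk_mul _ _ _)
    calc (((g * g' : subGroup F₀ (1 : GL (Fin 3) F)) : GL (Fin 3) F) : M3)
        = ((g : GL (Fin 3) F) : M3) * ((g' : GL (Fin 3) F) : M3) := rfl
      _ = _ := (congrArg₂ (· * ·) (exists_form g).choose_spec.choose_spec (exists_form g').choose_spec.choose_spec).trans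
        (by rw [smul_mul_smul_comm, ← Matrix.map_mul, ← Units.val_mul, ← Units.val_mul])

theorem card_subGroup_dvd [Finite F] (F₀ : Subfield F) (P : GL (Fin 3) F) :
    Nat.card (subGroup F₀ P) ∣ 3 * Arith.ordSL (Nat.card F₀) := by
  classical
  rw [card_subGroup_eq F₀ P 1]
  set φ := scalClass F₀
  have hker : Nat.card φ.ker ∣ Arith.ordSL (Nat.card F₀) := by
    rw [← card_slThree F₀, Nat.card_congr (MonoidHom.ofInjective (slMap_injective F₀)).toEquiv]
    refine Subgroup.card_dvd_of_injective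
      ({ toFun := fun g => ⟨((g : subGroup F₀ (1 : GL (Fin 3) F)) : GL (Fin 3) F), ?_⟩
         map_one' := rfl
         map_mul' := fun _ _ => rfl } : φ.ker →* (slMap F₀).range)
      fun a b e => Subtype.ext (Subtype.ext (congrArg Subtype.val e :))
    obtain ⟨A, hA⟩ : ∃ A : GL (Fin 3) F₀, (((g : subGroup F₀ (1 : GL (Fin 3) F)) : GL (Fin 3) F) : M3) =
        ((exists_form g.1).choose_spec.choose : F) • (A : Matrix (Fin 3) (Fin 3) F₀).map F₀.subtype :=
      ⟨_, (exists_form g.1).choose_spec.choose_spec⟩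
    obtain ⟨t, ht⟩ := (QuotientGroup.eq_one_iff (exists_form g.1).choose_spec.choose).1 g.2
    rw [← ht] at hA
    have hA' : (((g : subGroup F₀ (1 : GL (Fin 3) F)) : GL (Fin 3) F) : M3) =
        ((t : F₀) • (A : Matrix (Fin 3) (Fin 3) F₀)).map F₀.subtype := by
      rw [hA]
      ext i j
      simp [Matrix.smul_apply]
    have hd : ((t : F₀) • (A : Matrix (Fin 3) (Fin 3) F₀)).det = 1 := by
      apply F₀.subtype.injective
      rw [RingHom.map_det, map_one, RingHom.mapMatrix_apply, ← hA']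
      exact det_one_of_mem g.1.2.2
    exact ⟨⟨_, hd⟩, Units.ext hA'.symm⟩
  have hrange : Nat.card φ.range ∣ 3 := by
    haveI : IsCyclic (Fˣ ⧸ (Units.map (F₀.subtype : F₀ →+* F).toMonoidHom).range) :=
      isCyclic_of_surjective (QuotientGroup.mk' _) (QuotientGroup.mk'_surjective _)
    rw [← IsCyclic.exponent_eq_card]
    refine Monoid.exponent_dvd_of_forall_pow_eq_one fun x => Subtype.ext ?_
    obtain ⟨g, hg⟩ := x.2
    rw [SubgroupClass.coe_pow, ← hg, OneMemClass.coe_one]
    obtain ⟨A, c, hA⟩ : ∃ (A : GL (Fin 3) F₀) (c : Fˣ), ((g : GL (Fin 3) F) : M3) =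
        (c : F) • (A : Matrix (Fin 3) (Fin 3) F₀).map F₀.subtype ∧ φ g = (c : Fˣ ⧸ _) :=
      ⟨_, _, (exists_form g).choose_spec.choose_spec, rfl⟩
    rw [hA.2, ← QuotientGroup.mk_pow, QuotientGroup.eq_one_iff]
    refine ⟨(Matrix.GeneralLinearGroup.det A)⁻¹, Units.ext ?_⟩
    have hd := det_one_of_mem g.2.2
    rw [hA.1, Matrix.det_smul, Fintype.card_fin, show (A : Matrix (Fin 3) (Fin 3) F₀).map F₀.subtype =
      F₀.subtype.mapMatrix (A : Matrix (Fin 3) (Fin 3) F₀) from rfl, ← RingHom.map_det] at hd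
    show F₀.subtype ((((Matrix.GeneralLinearGroup.det A)⁻¹ : F₀ˣ)) : F₀) = (c : F) ^ 3
    rw [Units.val_inv_eq_inv_val, map_inv₀, Matrix.GeneralLinearGroup.val_det_apply]
    exact (eq_inv_of_mul_eq_one_left hd).symm
  have h := φ.ker.card_mul_index
  rw [Subgroup.index_ker] at h
  rw [← h, mul_comm 3]
  exact Nat.mul_dvd_mul hker hrange

/-- An elementary transvection in the basis of the subfield structure. -/
def elem (P : GL (Fin 3) F) {i j : Fin 3} (hij : i ≠ j) : GL (Fin 3) F :=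
  P * Matrix.GeneralLinearGroup.mkOfDetNeZero (Matrix.transvection i j (1 : F))
    (by rw [Matrix.det_transvection_of_ne i j hij]; exact one_ne_zero) * P⁻¹

theorem elem_mem (F₀ : Subfield F) (P : GL (Fin 3) F) {i j : Fin 3} (hij : i ≠ j) :
    elem P hij ∈ subGroup F₀ P := by
  rw [subGroup_eq_map]
  refine Subgroup.mem_map.2 ⟨Matrix.GeneralLinearGroup.mkOfDetNeZero (Matrix.transvection i j (1 : F))
    (by rw [Matrix.det_transvection_of_ne i j hij]; exact one_ne_zero), ?_, rfl⟩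
  convert slMap_mem F₀ (⟨Matrix.transvection i j (1 : F₀), Matrix.det_transvection_of_ne i j hij _⟩ :
    Matrix.SpecialLinearGroup (Fin 3) F₀) using 1
  refine Units.ext ?_
  show Matrix.transvection i j (1 : F) = (Matrix.transvection i j (1 : F₀)).map F₀.subtype
  ext a b
  simp [Matrix.transvection, Matrix.single_apply, Matrix.one_apply]
  split_ifs <;> simp

theorem elem_mulVec (P : GL (Fin 3) F) {i j : Fin 3} (hij : i ≠ j) (v : Fin 3 → F) :
    (elem P hij : M3) *ᵥ ((P : M3) *ᵥ v) = (P : M3) *ᵥ (v + v j • Pi.single i 1) := by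
  show ((P : M3) * Matrix.transvection i j (1 : F) * ((P⁻¹ : GL (Fin 3) F) : M3)) *ᵥ ((P : M3) *ᵥ v) = _
  rw [Matrix.mulVec_mulVec, mul_assoc, ← Units.val_mul, inv_mul_cancel, Units.val_one, mul_one,
    ← Matrix.mulVec_mulVec]
  congr 1
  rw [Matrix.transvection, Matrix.add_mulVec, Matrix.one_mulVec, Matrix.single_mulVec]
  ext k
  by_cases hk : k = i <;> simp [Pi.single_apply, Function.update, hk]

/-- Subfield subgroups are irreducible. -/
theorem irreducible_sub (F₀ : Subfield F) (P : GL (Fin 3) F) (W : Submodule F (Fin 3 → F))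
    (hW : ∀ g ∈ subGroup F₀ P, ∀ w ∈ W, (g : M3) *ᵥ w ∈ W) : W = ⊥ ∨ W = ⊤ := by
  by_cases h0 : W = ⊥
  · exact Or.inl h0
  refine Or.inr ?_
  set U := W.comap (Matrix.toLin' (P : M3)) with hU
  have hstep : ∀ {i j : Fin 3}, i ≠ j → ∀ v ∈ U, v j • (Pi.single i 1 : Fin 3 → F) ∈ U := by
    intro i j hij v hv
    rw [hU, Submodule.mem_comap, Matrix.toLin'_apply] at hv ⊢
    have h1 := hW _ (elem_mem F₀ P hij) _ hv
    rw [elem_mulVec P hij, Matrix.mulVec_add] at h1
    simpa using W.sub_mem h1 hv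
  obtain ⟨w, hw, hw0⟩ := W.ne_bot_iff.1 h0
  set v := ((P⁻¹ : GL (Fin 3) F) : M3) *ᵥ w with hv
  have hvU : v ∈ U := by
    rw [hU, Submodule.mem_comap, Matrix.toLin'_apply, hv, Matrix.mulVec_mulVec, Units.mul_inv, Matrix.one_mulVec]
    exact hw
  obtain ⟨j, hj⟩ : ∃ j, v j ≠ 0 := Function.ne_iff.1 (CfsgLib.Geo.Asch.mulVec_ne_zero P⁻¹ hw0)
  have hoff : ∀ i, i ≠ j → (Pi.single i 1 : Fin 3 → F) ∈ U := fun i hij => by
    have := U.smul_mem (v j)⁻¹ (hstep hij v hvU)
    rwa [smul_smul, inv_mul_cancel₀ hj, one_smul] at this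
  have hall : ∀ i, (Pi.single i 1 : Fin 3 → F) ∈ U := fun i => by
    by_cases hij : i = j
    · subst hij
      obtain ⟨k, hk⟩ := exists_ne i
      have := hstep hk.symm _ (hoff k hk)
      simpa using this
    · exact hoff i hij
  refine eq_top_iff.2 fun x _ => ?_
  have hx : ((P⁻¹ : GL (Fin 3) F) : M3) *ᵥ x ∈ U := by
    rw [pi_eq_sum_univ' (((P⁻¹ : GL (Fin 3) F) : M3) *ᵥ x)]
    exact U.sum_mem fun i _ => U.smul_mem _ (hall i)
  rwa [hU, Submodule.mem_comap, Matrix.toLin'_apply, Matrix.mulVec_mulVec, Units.mul_inv, Matrix.one_mulVec] at hx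

/-- An elementary transvection preserving a form up to a scalar forces vanishing entries. -/
theorem transvection_form {G : (Fin 3 → F) → (Fin 3 → F) → F} (hl : ∀ x y z, G (x + y) z = G x z + G y z)
    (hr : ∀ x y z, G x (y + z) = G x y + G x z)
    (hnd : ∀ v : Fin 3 → F, (∀ w ∈ Set.range fun i : Fin 3 => (Pi.single i 1 : Fin 3 → F), G v w = 0) → v = 0)
    {i j k : Fin 3} (hij : i ≠ j) (hik : i ≠ k) (hjk : j ≠ k) {c : F}
    (h : ∀ u v : Fin 3 → F, G (u + u j • Pi.single i 1) (v + v j • Pi.single i 1) = c * G u v) :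
    G (Pi.single i 1) (Pi.single i 1) = 0 ∧ G (Pi.single i 1) (Pi.single k 1) = 0 ∧
      G (Pi.single i 1) (Pi.single j 1) + G (Pi.single j 1) (Pi.single i 1) = 0 := by
  set a : Fin 3 → F := Pi.single i 1
  set b : Fin 3 → F := Pi.single j 1
  set d : Fin 3 → F := Pi.single k 1
  have ha : a + a j • a = a := by simp [a, hij.symm]
  have hd : d + d j • a = d := by simp [d, hjk]
  have hb : b + b j • a = b + a := by simp [b]
  have haa := h a a
  have had := h a d
  have hab := h a b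
  rw [ha] at haa had hab
  rw [hd] at had
  rw [hb, hr] at hab
  by_cases hc : c = 1
  · subst hc
    rw [one_mul] at hab
    have h0 : G a a = 0 := by linear_combination hab
    have hbd := h b d
    rw [hb, hd, hl, one_mul] at hbd
    have hbb := h b b
    rw [hb, hl, hr, hr, one_mul] at hbb
    exact ⟨h0, by linear_combination hbd, by linear_combination hbb - h0⟩
  · exfalso
    have h1 : c - 1 ≠ 0 := sub_ne_zero.2 hc
    have h0 : G a a = 0 := (mul_eq_zero.1 (show (c - 1) * G a a = 0 by linear_combination -haa)).resolve_left h1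
    have h2 : G a d = 0 := (mul_eq_zero.1 (show (c - 1) * G a d = 0 by linear_combination -had)).resolve_left h1
    have h3 : G a b = 0 := (mul_eq_zero.1 (show (c - 1) * G a b = 0 by linear_combination -hab + h0)).resolve_left h1
    have hz : a = 0 := hnd a (by
      rintro _ ⟨l, rfl⟩
      rcases (show l = i ∨ l = j ∨ l = k by
        revert hij hik hjk; fin_cases i <;> fin_cases j <;> fin_cases k <;> fin_cases l <;> decide) with rfl | rfl | rfl
      exacts [h0, h3, h2])
    exact one_ne_zero (α := F) (by simpa [a] using congrFun hz i)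

end CfsgLib.Geo.SL3.Maximal
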