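/-
Similarity groups of hermitian forms in SL(3): order, irreducibility, no pair of transvections with one centre.
-/
import Cfsg.Agent.Lib.Geo.SL3.Maximal.SubfieldOrder
import Cfsg.Agent.Lib.Geo.Asch.SUTools
import Cfsg.Agent.Lib.Classical.Unitary.Matrix

set_option autoImplicit false

namespace CfsgLib.Geo.SL3.Maximal

open Matrix Cfsg.Geo
open CfsgLib.Geo.Asch (IsQPow SUg)

variable {F : Type*} [Field F] [Fintype F]

local notation "M3" => Matrix (Fin 3) (Fin 3) F

/-- The part of determinant one of a similarity group of a two-argument form. -/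
abbrev formGroup (f : (Fin 3 → F) → (Fin 3 → F) → F) : Subgroup (GL (Fin 3) F) :=
  similarityGroup f ⊓ specialLinear (Fin 3) F

/-- An involutory automorphism is a power map with exponent the square root of the order. -/
theorem exists_isQPow_of {σ : F ≃+* F} (hne : σ ≠ RingEquiv.refl F) (hinv : ∀ a, σ (σ a) = a) :
    ∃ q₀, Fintype.card F = q₀ ^ 2 ∧ IsQPow σ q₀ := by
  have h : CfsgLib.Classical.Herm.IsInvol σ.toRingHom :=
    ⟨fun e => hne (RingEquiv.ext fun x => RingHom.congr_fun e x), hinv⟩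
  refine ⟨Nat.card (CfsgLib.Classical.Herm.fixedSub σ.toRingHom), by rw [← Nat.card_eq_fintype_card, h.card_sq],
    h.apply_eq_pow, hinv, h.exists_ne⟩

/-- Every unitary form is the standard one in some basis. -/
theorem exists_frame {σ : F ≃+* F} {f : (Fin 3 → F) → (Fin 3 → F) → F} (hf : IsUnitaryForm σ f) {q₀ : ℕ}
    (hq : IsQPow σ q₀) :
    ∃ P : GL (Fin 3) F, ∀ u v, f ((P : M3) *ᵥ u) ((P : M3) *ᵥ v) = Cfsg.hermForm 3 F q₀ u v := by
  have hs := CfsgLib.Geo.Asch.isSesqForm_of_unitary hf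
  let B : (Fin 3 → F) →ₛₗ[σ.toRingHom] (Fin 3 → F) →ₗ[F] F :=
    LinearMap.mk₂'ₛₗ σ.toRingHom (RingHom.id F) (fun x y => f y x) (fun x x' y => hs.add_right y x x')
      (fun c x y => hs.smul_right c y x) (fun x y y' => hs.add_left y y' x) (fun c x y => hs.smul_left c y x)
  have hB : CfsgLib.Classical.Herm.IsHerm B :=
    { invol := ⟨fun e => hf.ne_refl (RingEquiv.ext fun x => RingHom.congr_fun e x), hf.involutive⟩
      symm := fun x y => (hf.herm x y).symm
      nondeg := fun x hx => by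
        by_contra h0
        obtain ⟨y, hy⟩ := (hf.nondegenerate x h0).1
        exact hy (hx y) }
  obtain ⟨b, hb⟩ := hB.exists_orthonormal_basis (Module.finrank_fin_fun F)
  set A : M3 := Matrix.of fun i j => b j i with hA
  have hu : IsUnit A := Matrix.linearIndependent_cols_iff_isUnit.1 b.linearIndependent
  refine ⟨hu.unit, fun u v => ?_⟩
  have hmul : ∀ w, A *ᵥ w = w 0 • b 0 + w 1 • b 1 + w 2 • b 2 := fun w => by
    ext i
    simp [hA, Matrix.mulVec, dotProduct, Fin.sum_univ_three, mul_comm]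
  have hf' : ∀ i j, f (b i) (b j) = if j = i then 1 else 0 := fun i j => hb j i
  rw [IsUnit.unit_spec, hmul, hmul, CfsgLib.Geo.Asch.hermForm_eq hq, Fin.sum_univ_three]
  simp only [hs.add_left, hs.add_right, hs.smul_left, hs.smul_right, hf']
  simp

theorem formGroup_eq_map {f g : (Fin 3 → F) → (Fin 3 → F) → F} (P : GL (Fin 3) F)
    (h : ∀ u v, f ((P : M3) *ᵥ u) ((P : M3) *ᵥ v) = g u v) :
    formGroup f = (formGroup g).map (MulAut.conj P).toMonoidHom := by
  have hd : ∀ X : GL (Fin 3) F, (P * X * P⁻¹ ∈ specialLinear (Fin 3) F) ↔ X ∈ specialLinear (Fin 3) F := fun X => by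
    rw [Cfsg.Geo.specialLinear, MonoidHom.mem_ker, MonoidHom.mem_ker, map_mul, map_mul, map_inv,
      mul_inv_cancel_comm]
  have hcan : ∀ w, (P : M3) *ᵥ (((P⁻¹ : GL (Fin 3) F) : M3) *ᵥ w) = w := fun w => by
    rw [Matrix.mulVec_mulVec, Units.mul_inv, Matrix.one_mulVec]
  have hcan' : ∀ w, ((P⁻¹ : GL (Fin 3) F) : M3) *ᵥ ((P : M3) *ᵥ w) = w := fun w => by
    rw [Matrix.mulVec_mulVec, Units.inv_mul, Matrix.one_mulVec]
  have hg : ∀ u v, g (((P⁻¹ : GL (Fin 3) F) : M3) *ᵥ u) (((P⁻¹ : GL (Fin 3) F) : M3) *ᵥ v) = f u v := fun u v => by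
    rw [← h, hcan, hcan]
  ext x
  rw [Subgroup.mem_map]
  constructor
  · rintro ⟨⟨c, hc⟩, hs⟩
    refine ⟨P⁻¹ * x * P, ⟨⟨c, fun u v => ?_⟩, (hd _).1 ?_⟩, ?_⟩
    · rw [Units.val_mul, Units.val_mul, ← Matrix.mulVec_mulVec, ← Matrix.mulVec_mulVec, ← Matrix.mulVec_mulVec,
        ← Matrix.mulVec_mulVec, hg, hc, h]
    · rw [show P * (P⁻¹ * x * P) * P⁻¹ = x by group]; exact hs
    · simp only [MulEquiv.coe_toMonoidHom, MulAut.conj_apply]; group
  · rintro ⟨y, ⟨⟨c, hc⟩, hs⟩, rfl⟩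
    simp only [MulEquiv.coe_toMonoidHom, MulAut.conj_apply]
    refine ⟨⟨c, fun u v => ?_⟩, (hd y).2 hs⟩
    rw [Units.val_mul, Units.val_mul, ← Matrix.mulVec_mulVec, ← Matrix.mulVec_mulVec, ← Matrix.mulVec_mulVec,
      ← Matrix.mulVec_mulVec, h, hc, hg]

variable {σ : F ≃+* F} {q : ℕ}

theorem card_SUg (hF : Fintype.card F = q ^ 2) : Nat.card (SUg 3 F q) = Arith.ordSU q := by
  have e : Nat.card (Cfsg.SU 3 F q) = Nat.card (SUg 3 F q) := by
    refine Nat.card_eq_of_bijective (fun g : Cfsg.SU 3 F q =>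
      (⟨Matrix.SpecialLinearGroup.toGL (g : Matrix.SpecialLinearGroup (Fin 3) F),
        CfsgLib.Classical.Herm.toGL_mem_GU g, mem_specialLinear (g : Matrix.SpecialLinearGroup (Fin 3) F).det_coe⟩ :
        SUg 3 F q)) ⟨?_, ?_⟩
    · intro a b e
      exact Subtype.ext (Matrix.SpecialLinearGroup.toGL_injective (congrArg Subtype.val e))
    · rintro ⟨g, hg, hs⟩
      exact ⟨⟨⟨_, det_one_of_mem hs⟩, fun u v => hg u v⟩, Subtype.ext (Units.ext rfl)⟩
  have h := CfsgLib.Classical.Herm.card_SU hF 3 (by norm_num)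
  rw [e] at h
  simp only [show 3 * (3 - 1) / 2 = 3 from rfl, Finset.prod_range_succ, Finset.prod_range_zero, one_mul,
    Nat.even_iff] at h
  norm_num at h
  refine Nat.eq_of_mul_eq_mul_left (show 0 < q + 1 by omega) (h.trans ?_)
  show _ = (q + 1) * (q ^ 3 * (q ^ 2 - 1) * (q ^ 3 + 1))
  ring

theorem SUg_le_formGroup : SUg 3 F q ≤ formGroup (Cfsg.hermForm 3 F q) :=
  fun g hg => ⟨⟨1, fun u v => by rw [Units.val_one, one_mul]; exact hg.1 u v⟩, hg.2⟩

theorem herm_multiplier_cube (hq : IsQPow σ q) {g : GL (Fin 3) F} (hg : g ∈ specialLinear (Fin 3) F) {c : F}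
    (h : ∀ u v, Cfsg.hermForm 3 F q ((g : M3) *ᵥ u) ((g : M3) *ᵥ v) = c * Cfsg.hermForm 3 F q u v) : c ^ 3 = 1 := by
  have e : (g : M3)ᵀ * (g : M3).map σ = c • 1 := by
    ext i j
    have h1 := h (Pi.single i 1) (Pi.single j 1)
    rw [CfsgLib.Geo.Asch.hermForm_eq hq, CfsgLib.Geo.Asch.hermForm_eq hq] at h1
    rw [Matrix.mul_apply, Matrix.smul_apply, Matrix.one_apply]
    simpa [Pi.single_apply, eq_comm] using h1
  have hσd : ((g : M3).map σ).det = 1 := by
    rw [show (g : M3).map σ = σ.toRingHom.mapMatrix (g : M3) from rfl, ← RingHom.map_det, det_one_of_mem hg, map_one]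
  have hd := congrArg Matrix.det e
  rw [Matrix.det_mul, Matrix.det_transpose, det_one_of_mem hg, hσd, one_mul, Matrix.det_smul, Matrix.det_one,
    mul_one, Fintype.card_fin] at hd
  exact hd.symm

theorem card_formGroup_std (hq : IsQPow σ q) (hF : Fintype.card F = q ^ 2) :
    Arith.ordSU q ∣ Nat.card (formGroup (Cfsg.hermForm 3 F q)) ∧
      Nat.card (formGroup (Cfsg.hermForm 3 F q)) ∣ 3 * Arith.ordSU q := by
  classical
  refine ⟨card_SUg hF ▸ Subgroup.card_dvd_of_le SUg_le_formGroup, ?_⟩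
  have h00 : Cfsg.hermForm 3 F q (Pi.single 0 1) (Pi.single 0 1) = 1 := by
    simp [CfsgLib.Geo.Asch.hermForm_eq hq, Fin.sum_univ_three]
  have huniq : ∀ {g : GL (Fin 3) F} {a b : Fˣ},
      (∀ u v, Cfsg.hermForm 3 F q ((g : M3) *ᵥ u) ((g : M3) *ᵥ v) = (a : F) * Cfsg.hermForm 3 F q u v) →
      (∀ u v, Cfsg.hermForm 3 F q ((g : M3) *ᵥ u) ((g : M3) *ᵥ v) = (b : F) * Cfsg.hermForm 3 F q u v) → a = b := by
    intro g a b ha hb
    have := (ha (Pi.single 0 1) (Pi.single 0 1)).symm.trans (hb _ _)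
    rw [h00, mul_one, mul_one] at this
    exact Units.ext this
  let G := formGroup (Cfsg.hermForm 3 F q)
  let μ : G →* Fˣ :=
    { toFun := fun g => g.2.1.choose
      map_one' := huniq (g := 1) (one_mem G : (1 : GL (Fin 3) F) ∈ G).1.choose_spec (fun u v => by simp)
      map_mul' := fun g g' => huniq (g * g').2.1.choose_spec (fun u v => by
        show Cfsg.hermForm 3 F q ((((g : GL (Fin 3) F) : M3) * ((g' : GL (Fin 3) F) : M3)) *ᵥ u)
          ((((g : GL (Fin 3) F) : M3) * ((g' : GL (Fin 3) F) : M3)) *ᵥ v) = _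
        rw [← Matrix.mulVec_mulVec, ← Matrix.mulVec_mulVec, g.2.1.choose_spec, g'.2.1.choose_spec, Units.val_mul,
          mul_assoc]) }
  have hker : Nat.card μ.ker ∣ Arith.ordSU q := by
    rw [← card_SUg hF]
    refine Subgroup.card_dvd_of_injective ({ toFun := fun g => ⟨((g : G) : GL (Fin 3) F), fun u v => ?_, g.1.2.2⟩
                                             map_one' := rfl
                                             map_mul' := fun _ _ => rfl } : μ.ker →* SUg 3 F q)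
      fun a b e => Subtype.ext (Subtype.ext (congrArg Subtype.val e :))
    have e := g.1.2.1.choose_spec u v
    rw [show g.1.2.1.choose = 1 from MonoidHom.mem_ker.1 g.2, Units.val_one, one_mul] at e
    exact e
  have hrange : Nat.card μ.range ∣ 3 := by
    have hle : μ.range ≤ (powMonoidHom 3 : Fˣ →* Fˣ).ker := by
      rintro _ ⟨g, rfl⟩
      exact MonoidHom.mem_ker.2 (Units.ext (herm_multiplier_cube hq g.2.2 g.2.1.choose_spec))
    refine (Subgroup.card_dvd_of_le hle).trans ?_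
    rw [IsCyclic.card_powMonoidHom_ker]
    exact Nat.gcd_dvd_right _ _
  have h := μ.ker.card_mul_index
  rw [Subgroup.index_ker] at h
  rw [show formGroup (Cfsg.hermForm 3 F q) = G from rfl, ← h, mul_comm 3]
  exact Nat.mul_dvd_mul hker hrange

theorem card_formGroup_eq {f : (Fin 3 → F) → (Fin 3 → F) → F} (hf : IsUnitaryForm σ f) (hq : IsQPow σ q) :
    Nat.card (formGroup f) = Nat.card (formGroup (Cfsg.hermForm 3 F q)) := by
  obtain ⟨P, hP⟩ := exists_frame hf hq
  rw [formGroup_eq_map P hP, Subgroup.card_map_of_injective (MulEquiv.injective _)]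

theorem irreducible_form {f : (Fin 3 → F) → (Fin 3 → F) → F} (hf : IsUnitaryForm σ f) (hq : IsQPow σ q)
    (hF : Fintype.card F = q ^ 2) (W : Submodule F (Fin 3 → F))
    (hW : ∀ g ∈ formGroup f, ∀ w ∈ W, (g : M3) *ᵥ w ∈ W) : W = ⊥ ∨ W = ⊤ := by
  obtain ⟨P, hP⟩ := exists_frame hf hq
  set U := W.comap (Matrix.toLin' (P : M3)) with hU
  have hcan : ∀ w, (P : M3) *ᵥ (((P⁻¹ : GL (Fin 3) F) : M3) *ᵥ w) = w := fun w => by
    rw [Matrix.mulVec_mulVec, Units.mul_inv, Matrix.one_mulVec]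
  rcases CfsgLib.Geo.Asch.actsIrreducibly_SU (n := 3) hq hF (by norm_num) U (by
    rintro _ ⟨g, hg, rfl⟩ _ ⟨x, hx, rfl⟩
    simp only [hU, Submodule.mem_comap, Matrix.toLin'_apply, SetLike.mem_coe] at hx ⊢
    have hmem : P * g * P⁻¹ ∈ formGroup f := by
      rw [formGroup_eq_map P hP]
      exact ⟨g, SUg_le_formGroup hg, rfl⟩
    have := hW _ hmem _ hx
    rwa [Units.val_mul, Units.val_mul, Matrix.mulVec_mulVec, mul_assoc, Units.inv_mul, mul_one,
      ← Matrix.mulVec_mulVec] at this) with h | h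
  · refine Or.inl ((Submodule.eq_bot_iff _).2 fun w hw => ?_)
    have : ((P⁻¹ : GL (Fin 3) F) : M3) *ᵥ w ∈ U := by
      rw [hU, Submodule.mem_comap, Matrix.toLin'_apply, hcan]; exact hw
    rw [h, Submodule.mem_bot] at this
    rw [← hcan w, this, Matrix.mulVec_zero]
  · refine Or.inr (eq_top_iff.2 fun w _ => ?_)
    have : ((P⁻¹ : GL (Fin 3) F) : M3) *ᵥ w ∈ U := h ▸ Submodule.mem_top
    rwa [hU, Submodule.mem_comap, Matrix.toLin'_apply, hcan] at this

/-- A similarity group of a hermitian form has no two elementary transvections with one centre. -/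
theorem not_sub_le_form {f : (Fin 3 → F) → (Fin 3 → F) → F} (hf : IsUnitaryForm σ f) (F₀ : Subfield F)
    (P : GL (Fin 3) F) : ¬ subGroup F₀ P ≤ formGroup f := by
  intro hle
  have hs := CfsgLib.Geo.Asch.isSesqForm_of_unitary hf
  have h01 : (0 : Fin 3) ≠ 1 := by decide
  have h02 : (0 : Fin 3) ≠ 2 := by decide
  have h12 : (1 : Fin 3) ≠ 2 := by decide
  obtain ⟨c, hc⟩ := (hle (elem_mem F₀ P h01)).1
  obtain ⟨c', hc'⟩ := (hle (elem_mem F₀ P h02)).1
  set G : (Fin 3 → F) → (Fin 3 → F) → F := fun u v => f ((P : M3) *ᵥ u) ((P : M3) *ᵥ v) with hG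
  have hnd : ∀ v : Fin 3 → F, (∀ w ∈ Set.range fun i : Fin 3 => (Pi.single i 1 : Fin 3 → F), G v w = 0) → v = 0 := by
    intro v hv
    by_contra h0
    obtain ⟨x, hx⟩ := (hf.nondegenerate ((P : M3) *ᵥ v) (CfsgLib.Geo.Asch.mulVec_ne_zero P h0)).2
    refine hx ?_
    have hxe : x = (P : M3) *ᵥ (((P⁻¹ : GL (Fin 3) F) : M3) *ᵥ x) := by
      rw [Matrix.mulVec_mulVec, Units.mul_inv, Matrix.one_mulVec]
    rw [hxe, pi_eq_sum_univ' (((P⁻¹ : GL (Fin 3) F) : M3) *ᵥ x)]
    simp only [Fin.sum_univ_three, Matrix.mulVec_add, Matrix.mulVec_smul, hs.add_right, hs.smul_right]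
    have h0' : ∀ l, f ((P : M3) *ᵥ v) ((P : M3) *ᵥ Pi.single l 1) = 0 := fun l => hv _ ⟨l, rfl⟩
    rw [h0', h0', h0']
    ring
  obtain ⟨h0, hk, -⟩ := transvection_form (G := G) (fun x y z => by simp only [hG, Matrix.mulVec_add, hs.add_left])
    (fun x y z => by simp only [hG, Matrix.mulVec_add, hs.add_right]) hnd h01 h02 h12 (c := (c : F)) (fun u v => by
      simp only [hG, ← elem_mulVec P h01, hc])
  obtain ⟨-, hj, -⟩ := transvection_form (G := G) (fun x y z => by simp only [hG, Matrix.mulVec_add, hs.add_left])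
    (fun x y z => by simp only [hG, Matrix.mulVec_add, hs.add_right]) hnd h02 h01 h12.symm (c := (c' : F)) (fun u v => by
      simp only [hG, ← elem_mulVec P h02, hc'])
  have hz : (Pi.single 0 1 : Fin 3 → F) = 0 := hnd _ (by
    rintro _ ⟨l, rfl⟩
    fin_cases l
    exacts [h0, hj, hk])
  exact one_ne_zero (α := F) (by simpa using congrFun hz 0)

end CfsgLib.Geo.SL3.Maximal
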