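/-
Points of the hermitian space in dimension three and their stabilisers in SU(3).
-/
import Cfsg.Agent.Lib.Geo.SL3.Maximal.HermOrder
import Cfsg.Agent.Lib.Geo.Asch.UnitFour
import Cfsg.Agent.Lib.Geo.Asch.UnitNotLe
import Cfsg.Agent.Lib.Classical.Unitary.Isotropic

set_option autoImplicit false

namespace CfsgLib.Geo.SL3.Maximal

open Matrix Cfsg.Geo
open CfsgLib.Geo.Asch (IsQPow SUg pairVec)
open CfsgLib.Geo (transvectionGL)

variable {F : Type*} [Field F] [Fintype F] {σ : F ≃+* F} {q : ℕ}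

local notation "M3" => Matrix (Fin 3) (Fin 3) F
local notation "hf" => Cfsg.hermForm 3 F q

omit [Fintype F] in
theorem mem_GU_iff {g : GL (Fin 3) F} :
    g ∈ Cfsg.GU 3 F q ↔ ∀ u v, Cfsg.hermForm 3 F q ((g : M3) *ᵥ u) ((g : M3) *ᵥ v) = Cfsg.hermForm 3 F q u v :=
  Iff.rfl

/-- Membership in the stabiliser of a line. -/
theorem mem_stab_span {g : GL (Fin 3) F} {w : Fin 3 → F} (hw : w ≠ 0) :
    g ∈ subspaceStabilizer (F ∙ w) ↔ (g : M3) *ᵥ w ∈ (F ∙ w) := by
  rw [CfsgLib.Geo.mem_subspaceStabilizer_iff]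
  refine ⟨fun h => (h w).1 (Submodule.mem_span_singleton_self w), fun h x => ?_⟩
  obtain ⟨c, hc⟩ := Submodule.mem_span_singleton.1 h
  have hc0 : c ≠ 0 := fun e => CfsgLib.Geo.Asch.mulVec_ne_zero g hw (by rw [← hc, e, zero_smul])
  constructor
  · intro hx
    obtain ⟨a, rfl⟩ := Submodule.mem_span_singleton.1 hx
    rw [Matrix.mulVec_smul]
    exact Submodule.smul_mem _ _ h
  · intro hx
    obtain ⟨a, ha⟩ := Submodule.mem_span_singleton.1 hx
    refine Submodule.mem_span_singleton.2 ⟨a / c, ?_⟩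
    have e : (g : M3) *ᵥ ((a / c) • w) = (g : M3) *ᵥ x := by
      rw [Matrix.mulVec_smul, ← hc, smul_smul, div_mul_cancel₀ a hc0, ha]
    have := congrArg (((g⁻¹ : GL (Fin 3) F) : M3) *ᵥ ·) e
    simpa [Matrix.mulVec_mulVec] using this

/-- Vectors of equal length are conjugate. -/
theorem exists_GU_map (hF : Fintype.card F = q ^ 2) {u v : Fin 3 → F} (hu : u ≠ 0) (hv : v ≠ 0)
    (h : Cfsg.hermForm 3 F q u u = Cfsg.hermForm 3 F q v v) : ∃ B ∈ Cfsg.GU 3 F q, (B : M3) *ᵥ u = v := by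
  have hH := CfsgLib.Classical.Herm.hermStd_isHerm (n := 3) hF
  let e := LinearEquiv.toSpanNonzeroSingleton F (Fin 3 → F) u hu
  let φ : (F ∙ u) →ₗ[F] (Fin 3 → F) := (LinearMap.toSpanSingleton F (Fin 3 → F) v).comp e.symm.toLinearMap
  have hφ : ∀ (a : F), φ (e a) = a • v := fun a => by simp [φ]
  obtain ⟨g, hg⟩ := hH.exists_extension (F ∙ u) φ
    (fun a b hab => by
      obtain ⟨a, rfl⟩ := e.surjective a
      obtain ⟨b, rfl⟩ := e.surjective b
      rw [hφ, hφ] at hab
      rw [smul_left_injective F hv hab])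
    (fun a b => by
      obtain ⟨a, rfl⟩ := e.surjective a
      obtain ⟨b, rfl⟩ := e.surjective b
      rw [hφ, hφ, LinearEquiv.toSpanNonzeroSingleton_apply, LinearEquiv.toSpanNonzeroSingleton_apply]
      simp only [map_smulₛₗ, map_smul, LinearMap.smul_apply, smul_eq_mul,
        CfsgLib.Classical.Herm.hermStd_apply, h])
  refine ⟨((CfsgLib.Classical.Herm.guEquiv 3 hF).symm g : Cfsg.GU 3 F q), SetLike.coe_mem _, ?_⟩
  rw [← CfsgLib.Classical.Herm.guEquiv_apply hF, MulEquiv.apply_symm_apply]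
  have := hg (e 1)
  rw [hφ, one_smul, LinearEquiv.toSpanNonzeroSingleton_apply] at this
  simpa using this

theorem herm_single (hq : IsQPow σ q) (i : Fin 3) : hf (Pi.single i 1) (Pi.single i 1) = 1 := by
  rw [CfsgLib.Geo.Asch.hermForm_eq hq, Fin.sum_univ_three]
  fin_cases i <;> simp

/-- A non-degenerate line is the image of the third coordinate line. -/
theorem exists_frame_point (hq : IsQPow σ q) (hF : Fintype.card F = q ^ 2) {W : Submodule F (Fin 3 → F)}
    (h0 : W ≠ ⊥) (h1 : Module.finrank F W = 1) (hnd : IsNondegenerateOn hf W) :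
    ∃ B ∈ Cfsg.GU 3 F q, W = F ∙ ((B : M3) *ᵥ Pi.single 2 1) := by
  have hfu := CfsgLib.Geo.Asch.isUnitaryForm_hermForm (n := 3) hq
  have hs := CfsgLib.Geo.Asch.isSesqForm_of_unitary hfu
  obtain ⟨b, hb, hb0⟩ := W.ne_bot_iff.1 h0
  have hWb : W = F ∙ b := (Submodule.eq_of_le_of_finrank_eq ((Submodule.span_singleton_le_iff_mem _ _).2 hb)
    (by rw [finrank_span_singleton hb0, h1])).symm
  have hbb : hf b b ≠ 0 := by
    intro h00
    obtain ⟨⟨x, hx, hx0⟩, -⟩ := hnd b hb hb0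
    obtain ⟨c, rfl⟩ := Submodule.mem_span_singleton.1 (hWb ▸ hx)
    rw [hs.smul_left, h00, mul_zero] at hx0
    exact hx0 rfl
  obtain ⟨l, hl⟩ := hq.exists_norm hF (b := (hf b b)⁻¹) (by rw [map_inv₀, ← hfu.herm])
  have hl0 : l ≠ 0 := fun e => by
    rw [e, zero_mul, eq_comm, inv_eq_zero] at hl
    exact hbb hl
  obtain ⟨B, hB, hBv⟩ := exists_GU_map hF (u := (Pi.single 2 1 : Fin 3 → F)) (v := l • b) (by simp)
    (smul_ne_zero hl0 hb0) (by rw [herm_single hq, hs.smul_left, hs.smul_right, ← mul_assoc, hl, inv_mul_cancel₀ hbb])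
  exact ⟨B, hB, by rw [hBv, Submodule.span_singleton_smul_eq hl0.isUnit, hWb]⟩

/-- Three orthogonal lines are the images of the coordinate lines. -/
theorem exists_frame_lines (hq : IsQPow σ q) (hF : Fintype.card F = q ^ 2) {D : Fin 3 → Submodule F (Fin 3 → F)}
    (hD : IsNondegenerateMDecomposition hf 1 D) :
    ∃ B ∈ Cfsg.GU 3 F q, ∀ i, D i = F ∙ ((B : M3) *ᵥ Pi.single i 1) := by
  have hfu := CfsgLib.Geo.Asch.isUnitaryForm_hermForm (n := 3) hq
  have hs := CfsgLib.Geo.Asch.isSesqForm_of_unitary hfu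
  have hone : ∀ i, ∃ v, v ≠ 0 ∧ hf v v = 1 ∧ D i = F ∙ v := fun i => by
    have h0 : D i ≠ ⊥ := fun h => by
      have := hD.decomp.finrank_eq i
      rw [h, finrank_bot] at this
      omega
    obtain ⟨B, hB, hW⟩ := exists_frame_point hq hF h0 (hD.decomp.finrank_eq i) (hD.nondegenerate i)
    exact ⟨_, CfsgLib.Geo.Asch.mulVec_ne_zero B (by simp), by rw [mem_GU_iff.1 hB, herm_single hq], hW⟩
  choose v hv0 hvv hvD using hone
  set M : M3 := Matrix.of fun i j => v j i with hM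
  have horth : ∀ i j, hf (v i) (v j) = if i = j then 1 else 0 := by
    intro i j
    split_ifs with h
    · subst h; exact hvv i
    · exact hD.orthogonal i j h _ (hvD i ▸ Submodule.mem_span_singleton_self _) _
        (hvD j ▸ Submodule.mem_span_singleton_self _)
  have hMM : Mᵀ * M.map σ = 1 := by
    ext i j
    rw [Matrix.mul_apply, Matrix.one_apply, ← horth i j, CfsgLib.Geo.Asch.hermForm_eq hq]
    simp [hM]
  have hdet : M.det ≠ 0 := fun h => by
    have := congrArg Matrix.det hMM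
    rw [Matrix.det_mul, Matrix.det_transpose, h, zero_mul, Matrix.det_one] at this
    exact zero_ne_one this
  refine ⟨Matrix.GeneralLinearGroup.mkOfDetNeZero M hdet,
    CfsgLib.Geo.Asch.mem_GU_of_mul hq hMM, fun i => ?_⟩
  rw [hvD]
  congr 1
  show {v i} = {M *ᵥ Pi.single i 1}
  congr 1
  ext k
  simp [hM]

/-- The norm-one units. -/
def normOne (F : Type*) [Field F] (q : ℕ) : Subgroup Fˣ := (powMonoidHom (q + 1) : Fˣ →* Fˣ).ker

omit [Fintype F] in
theorem mem_normOne (hq : IsQPow σ q) {c : Fˣ} : c ∈ normOne F q ↔ (c : F) * σ c = 1 := by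
  rw [normOne, MonoidHom.mem_ker, powMonoidHom_apply, Units.ext_iff, Units.val_pow_eq_pow_val, Units.val_one,
    pow_succ', hq.eq_pow]

theorem card_normOne (hF : Fintype.card F = q ^ 2) : Nat.card (normOne F q) = q + 1 := by
  classical
  rw [normOne, IsCyclic.card_powMonoidHom_ker, Nat.card_units, Nat.card_eq_fintype_card, hF,
    show q ^ 2 - 1 = (q + 1) * (q - 1) by rw [← Nat.sq_sub_sq, one_pow]]
  exact Nat.gcd_eq_right (Dvd.intro _ rfl)

omit [Fintype F] in
theorem neg_one_mem_normOne (hq : IsQPow σ q) : (-1 : Fˣ) ∈ normOne F q := by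
  rw [mem_normOne hq]; simp

theorem monGroup_mem_GU (hq : IsQPow σ q) {B : GL (Fin 3) F} (hB : B ∈ Cfsg.GU 3 F q) {τ : Equiv.Perm (Fin 3)}
    {c : Fin 3 → Fˣ} {g : GL (Fin 3) F} (hg : (g : M3) * (B : M3) = (B : M3) * monMat τ fun j => (c j : F)) :
    g ∈ Cfsg.GU 3 F q ↔ ∀ j, c j ∈ normOne F q := by
  have e : (g : M3) = (monElem B τ c : M3) := by rw [eq_monElem hg]
  have hmon : monElem B τ c = B * (monElem 1 τ c) * B⁻¹ := Units.ext (by
    show (B : M3) * _ * _ = (B : M3) * ((1 : M3) * _ * ((1⁻¹ : GL (Fin 3) F) : M3)) * _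
    simp)
  rw [eq_monElem hg, hmon]
  have h1 : monElem 1 τ c ∈ Cfsg.GU 3 F q ↔ ∀ j, c j ∈ normOne F q := by
    have hval : ∀ u, (monElem 1 τ c : M3) *ᵥ u = fun i => (c (τ⁻¹ i) : F) * u (τ⁻¹ i) := fun u => by
      funext i
      show (((1 : M3) * monMat τ (fun j => (c j : F)) * ((1⁻¹ : GL (Fin 3) F) : M3)) *ᵥ u) i = _
      simp only [inv_one, Units.val_one, one_mul, mul_one, Matrix.mulVec, dotProduct, monMat, Matrix.of_apply]
      rw [Finset.sum_eq_single (τ⁻¹ i) (fun j _ hj => by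
        rw [if_neg (fun e => hj (by rw [e]; simp)), zero_mul]) (by simp)]
      simp
    constructor
    · intro h j
      have h2 := mem_GU_iff.1 h (Pi.single j 1) (Pi.single j 1)
      rw [herm_single hq, hval, CfsgLib.Geo.Asch.hermForm_eq hq, Finset.sum_eq_single (τ j)
        (fun i _ hi => by
          rw [Pi.single_eq_of_ne (fun e => hi (by rw [← e]; simp)), mul_zero, zero_mul]) (by simp)] at h2
      rw [mem_normOne hq]
      simpa using h2
    · intro h
      refine mem_GU_iff.2 fun u v => ?_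
      rw [hval, hval, CfsgLib.Geo.Asch.hermForm_eq hq, CfsgLib.Geo.Asch.hermForm_eq hq,
        ← Equiv.sum_comp τ (fun i => (c (τ⁻¹ i) : F) * u (τ⁻¹ i) * σ ((c (τ⁻¹ i) : F) * v (τ⁻¹ i)))]
      refine Finset.sum_congr rfl fun j _ => ?_
      rw [show τ⁻¹ (τ j) = j from τ.symm_apply_apply j, map_mul]
      linear_combination (u j * σ (v j)) * (mem_normOne hq).1 (h j)
  rw [← h1]
  refine ⟨fun h => ?_, fun h => mul_mem (mul_mem hB h) (inv_mem hB)⟩
  have := mul_mem (mul_mem (inv_mem hB) h) hB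
  rwa [show B⁻¹ * (B * monElem 1 τ c * B⁻¹) * B = monElem 1 τ c by group] at this

/-- The stabiliser of three orthogonal lines. -/
theorem lines_stab_eq (hq : IsQPow σ q) {B : GL (Fin 3) F} (hB : B ∈ Cfsg.GU 3 F q)
    {D : Fin 3 → Submodule F (Fin 3 → F)} (hD : ∀ i, D i = F ∙ ((B : M3) *ᵥ Pi.single i 1)) :
    decompositionStabilizer D ⊓ SUg 3 F q = monGroup B (normOne F q) ⊓ specialLinear (Fin 3) F := by
  rw [stabilizer_eq hD]
  ext g
  constructor
  · rintro ⟨⟨τ, c, -, hg⟩, hU, hS⟩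
    exact ⟨⟨τ, c, (monGroup_mem_GU hq hB hg).1 hU, hg⟩, hS⟩
  · rintro ⟨⟨τ, c, hc, hg⟩, hS⟩
    exact ⟨⟨τ, c, fun _ => trivial, hg⟩, (monGroup_mem_GU hq hB hg).2 hc, hS⟩

theorem card_lines (hq : IsQPow σ q) (hF : Fintype.card F = q ^ 2) (B : GL (Fin 3) F) :
    Nat.card (monGroup B (normOne F q) ⊓ specialLinear (Fin 3) F : Subgroup _) = 6 * (q + 1) ^ 2 := by
  rw [card_monGroup B (neg_one_mem_normOne hq), card_normOne hF]

/-- Isotropic vectors orthogonal to each other are proportional. -/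
theorem isotropic_perp (hq : IsQPow σ q) {u w : Fin 3 → F} (hu0 : u ≠ 0) (huu : hf u u = 0) (hww : hf w w = 0)
    (hwu : hf w u = 0) : w ∈ (F ∙ u) := by
  have hfu := CfsgLib.Geo.Asch.isUnitaryForm_hermForm (n := 3) hq
  have hs := CfsgLib.Geo.Asch.isSesqForm_of_unitary hfu
  by_contra hw
  let φ : (Fin 3 → F) → (Fin 3 → F) →ₗ[F] F := fun y =>
    { toFun := fun x => hf x y
      map_add' := fun a b => hs.add_left a b y
      map_smul' := fun c a => hs.smul_left c a y }
  obtain ⟨x₀, hx₀⟩ := (hfu.nondegenerate u hu0).1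
  set S : Submodule F (Fin 3 → F) := Submodule.span F {u, w}
  have hker : ∀ y : Fin 3 → F, hf u y = 0 → hf w y = 0 → S ≤ LinearMap.ker (φ y) := fun y h1 h2 => by
    rw [Submodule.span_le]
    rintro x (rfl | rfl)
    exacts [h1, h2]
  have hS : 2 ≤ Module.finrank F S := by
    have hli : LinearIndependent F ![u, w] := LinearIndependent.pair_iff.2 fun a b hab => by
      by_cases hb : b = 0
      · rw [hb, zero_smul, add_zero, smul_eq_zero] at hab
        exact ⟨hab.resolve_right hu0, hb⟩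
      · exfalso
        refine hw (Submodule.mem_span_singleton.2 ⟨-a / b, ?_⟩)
        rw [div_eq_inv_mul, mul_smul, neg_smul, neg_eq_of_add_eq_zero_right hab, smul_smul, inv_mul_cancel₀ hb,
          one_smul]
    have := finrank_span_eq_card hli
    rw [Matrix.range_cons_cons_empty, Fintype.card_fin] at this
    exact le_of_eq this.symm
  have huw : hf u w = 0 := by rw [hfu.herm, hwu, map_zero]
  have hk3 := LinearMap.finrank_range_add_finrank_ker (φ u)
  rw [Module.finrank_fin_fun] at hk3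
  have hr : 1 ≤ Module.finrank F (LinearMap.range (φ u)) :=
    Submodule.one_le_finrank_iff.2 fun e => hx₀ (by
      have : φ u x₀ ∈ LinearMap.range (φ u) := ⟨x₀, rfl⟩
      rwa [e, Submodule.mem_bot] at this)
  have hSu : S = LinearMap.ker (φ u) :=
    Submodule.eq_of_le_of_finrank_le (hker u huu hwu) (by omega)
  set c := hf x₀ w / hf x₀ u
  refine hw (Submodule.mem_span_singleton.2 ⟨σ c, ?_⟩)
  by_contra hne
  obtain ⟨x, hx⟩ := (hfu.nondegenerate (σ c • u - w) (sub_ne_zero.2 hne)).1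
  refine hx ?_
  have hy : x - (hf x u / hf x₀ u) • x₀ ∈ S := by
    rw [hSu, LinearMap.mem_ker]
    rw [map_sub, map_smul]
    show hf x u - _ * hf x₀ u = 0
    rw [div_mul_cancel₀ _ hx₀, sub_self]
  have hyw : hf (x - (hf x u / hf x₀ u) • x₀) w = 0 := hker w huw hww hy
  have hyw' : φ w x - φ w ((hf x u / hf x₀ u) • x₀) = 0 := (map_sub (φ w) _ _).symm.trans hyw
  rw [map_smul, sub_eq_zero] at hyw'
  change hf x w = _ * hf x₀ w at hyw'
  rw [sub_eq_add_neg, ← neg_one_smul F w, hs.add_right, hs.smul_right, hs.smul_right, hfu.involutive, hyw',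
    map_neg, map_one]
  simp only [c]
  ring

/-- A non-zero totally singular subspace is an isotropic line. -/
theorem exists_isotropic_line (hq : IsQPow σ q) {W : Submodule F (Fin 3 → F)} (h0 : W ≠ ⊥)
    (hts : IsTotallySingularFor hf W) : ∃ u, u ≠ 0 ∧ hf u u = 0 ∧ W = F ∙ u := by
  obtain ⟨u, hu, hu0⟩ := W.ne_bot_iff.1 h0
  exact ⟨u, hu0, hts u hu u hu, le_antisymm
    (fun w hw => isotropic_perp hq hu0 (hts u hu u hu) (hts w hw w hw) (hts w hw u hu))
    ((Submodule.span_singleton_le_iff_mem _ _).2 hu)⟩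

/-- The order of the stabiliser of an isotropic line. -/
theorem card_iso_stab (hq : IsQPow σ q) (hF : Fintype.card F = q ^ 2) {u : Fin 3 → F} (hu : u ≠ 0)
    (huu : hf u u = 0) :
    Nat.card (subspaceStabilizer (F ∙ u) ⊓ SUg 3 F q : Subgroup _) = q ^ 3 * (q ^ 2 - 1) := by
  have hfu := CfsgLib.Geo.Asch.isUnitaryForm_hermForm (n := 3) hq
  have hs := CfsgLib.Geo.Asch.isSesqForm_of_unitary hfu
  have h := CfsgLib.Classical.Herm.card_su_stab hF 3 1 (by norm_num) (by norm_num) (F ∙ u)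
    (finrank_span_singleton hu) (fun x hx y hy => by
      obtain ⟨a, rfl⟩ := Submodule.mem_span_singleton.1 hx
      obtain ⟨b, rfl⟩ := Submodule.mem_span_singleton.1 hy
      rw [hs.smul_left, hs.smul_right, huu, mul_zero, mul_zero])
  have e : Nat.card ↥((Cfsg.stabilizing (Cfsg.slToMat 3 F) ((F ∙ u : Submodule F (Fin 3 → F)) : Set (Fin 3 → F))).subgroupOf
      (Cfsg.SU 3 F q)) = Nat.card (subspaceStabilizer (F ∙ u) ⊓ SUg 3 F q : Subgroup _) := by
    refine Nat.card_eq_of_bijective (fun g => ⟨Matrix.SpecialLinearGroup.toGL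
      ((g : Cfsg.SU 3 F q) : Matrix.SpecialLinearGroup (Fin 3) F), Subgroup.mem_subgroupOf.1 g.2,
      CfsgLib.Classical.Herm.toGL_mem_GU _, mem_specialLinear
        ((g : Cfsg.SU 3 F q) : Matrix.SpecialLinearGroup (Fin 3) F).det_coe⟩) ⟨?_, ?_⟩
    · intro a b e
      exact Subtype.ext (Subtype.ext (Matrix.SpecialLinearGroup.toGL_injective (congrArg Subtype.val e)))
    · rintro ⟨g, hW, hg, hS⟩
      exact ⟨⟨⟨⟨_, det_one_of_mem hS⟩, fun u v => hg u v⟩, hW⟩, Subtype.ext (Units.ext rfl)⟩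
  rw [e] at h
  simp [Nat.even_iff] at h
  refine Nat.eq_of_mul_eq_mul_left (show 0 < q + 1 by omega) (h.trans ?_)
  ring

/-- An isometry of the plane extended by the inverse determinant. -/
def extPlane (A : Matrix (Fin 2) (Fin 2) F) : M3 :=
  !![A 0 0, A 0 1, 0; A 1 0, A 1 1, 0; 0, 0, A.det⁻¹]

/-- The order of the stabiliser of an anisotropic line. -/
theorem card_point_stab (hq : IsQPow σ q) (hF : Fintype.card F = q ^ 2) {B : GL (Fin 3) F}
    (hB : B ∈ Cfsg.GU 3 F q) :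
    Nat.card (subspaceStabilizer (F ∙ ((B : M3) *ᵥ Pi.single 2 1)) ⊓ SUg 3 F q : Subgroup _) =
      q * (q + 1) * (q ^ 2 - 1) := by
  classical
  have h := CfsgLib.Classical.Herm.card_GU hF 2
  have hB2 : (B : M3) *ᵥ (Pi.single 2 1 : Fin 3 → F) ≠ 0 := CfsgLib.Geo.Asch.mulVec_ne_zero B (by simp)
  have hdet2 : ∀ A : Cfsg.GU 2 F q, ((A : GL (Fin 2) F) : Matrix (Fin 2) (Fin 2) F).det ≠ 0 := fun A => by
    rw [← Matrix.GeneralLinearGroup.val_det_apply]; exact Units.ne_zero _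
  have hd3 : ∀ A : Cfsg.GU 2 F q, (extPlane ((A : GL (Fin 2) F) : Matrix (Fin 2) (Fin 2) F)).det = 1 := fun A => by
    have h0 := hdet2 A
    rw [Matrix.det_fin_two] at h0
    simp [extPlane, Matrix.det_fin_three, Matrix.det_fin_two]
    field_simp
  let ext : Cfsg.GU 2 F q → GL (Fin 3) F := fun A =>
    Matrix.GeneralLinearGroup.mkOfDetNeZero _ (by rw [hd3 A]; exact one_ne_zero)
  have hmemext : ∀ A, ext A ∈ Cfsg.GU 3 F q := by
    intro A
    refine CfsgLib.Geo.Asch.mem_GU_of_mul hq ?_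
    have h00 : ∀ i j, Cfsg.hermForm 2 F q (((A : GL (Fin 2) F) : Matrix (Fin 2) (Fin 2) F) *ᵥ Pi.single i 1)
        (((A : GL (Fin 2) F) : Matrix (Fin 2) (Fin 2) F) *ᵥ Pi.single j 1) =
        Cfsg.hermForm 2 F q (Pi.single i 1) (Pi.single j 1) := fun i j => A.2 _ _
    simp only [CfsgLib.Geo.Asch.hermForm_eq hq, Fin.sum_univ_two, Matrix.mulVec_single_one, Matrix.col_apply] at h00
    have a00 := h00 0 0
    have a01 := h00 0 1
    have a10 := h00 1 0
    have a11 := h00 1 1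
    simp at a00 a01 a10 a11
    have hd : ((A : GL (Fin 2) F) : Matrix (Fin 2) (Fin 2) F).det * σ ((A : GL (Fin 2) F) : Matrix (Fin 2) (Fin 2) F).det = 1 := by
      simp only [Matrix.det_fin_two, map_sub, map_mul]
      linear_combination a11 * 1 + (a00 - 1) * (((A : GL (Fin 2) F) : Matrix (Fin 2) (Fin 2) F) 0 1 *
        σ (((A : GL (Fin 2) F) : Matrix (Fin 2) (Fin 2) F) 0 1) + ((A : GL (Fin 2) F) : Matrix (Fin 2) (Fin 2) F) 1 1 *
        σ (((A : GL (Fin 2) F) : Matrix (Fin 2) (Fin 2) F) 1 1)) - a01 * (((A : GL (Fin 2) F) : Matrix (Fin 2) (Fin 2) F) 0 1 *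
        σ (((A : GL (Fin 2) F) : Matrix (Fin 2) (Fin 2) F) 0 0) + ((A : GL (Fin 2) F) : Matrix (Fin 2) (Fin 2) F) 1 1 *
        σ (((A : GL (Fin 2) F) : Matrix (Fin 2) (Fin 2) F) 1 0))
    show (extPlane _)ᵀ * (extPlane _).map σ = 1
    ext i j
    fin_cases i <;> fin_cases j <;>
      simp [extPlane, Matrix.mul_apply, Fin.sum_univ_three, map_inv₀, a00, a01, a10, a11]
    rw [← mul_inv, hd, inv_one]
  have hstab : ∀ A, B * ext A * B⁻¹ ∈ subspaceStabilizer (F ∙ ((B : M3) *ᵥ Pi.single 2 1)) ⊓ SUg 3 F q := by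
    intro A
    refine ⟨(mem_stab_span hB2).2 ?_, (Cfsg.GU 3 F q).mul_mem ((Cfsg.GU 3 F q).mul_mem hB (hmemext A)) ((Cfsg.GU 3 F q).inv_mem hB), mem_specialLinear ?_⟩
    · rw [Units.val_mul, Units.val_mul, Matrix.mulVec_mulVec, mul_assoc, ← Units.val_mul B⁻¹, inv_mul_cancel,
        Units.val_one, mul_one, ← Matrix.mulVec_mulVec,
        show ((ext A : GL (Fin 3) F) : M3) *ᵥ Pi.single 2 1 =
          (((A : GL (Fin 2) F) : Matrix (Fin 2) (Fin 2) F).det)⁻¹ • Pi.single 2 1 from ?_, Matrix.mulVec_smul]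
      · exact Submodule.smul_mem _ _ (Submodule.mem_span_singleton_self _)
      · show extPlane _ *ᵥ _ = _
        funext i
        fin_cases i <;> simp [extPlane]
    · rw [Units.val_mul, Units.val_mul, Matrix.det_units_conj]
      exact hd3 A
  have e : Nat.card (Cfsg.GU 2 F q) =
      Nat.card (subspaceStabilizer (F ∙ ((B : M3) *ᵥ Pi.single 2 1)) ⊓ SUg 3 F q : Subgroup _) := by
    refine Nat.card_eq_of_bijective (fun A => ⟨_, hstab A⟩) ⟨fun A A' e => ?_, ?_⟩
    · have e1 : (extPlane _ : M3) = extPlane _ :=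
        congrArg Units.val (mul_left_cancel (mul_right_cancel (congrArg Subtype.val e :)))
      refine Subtype.ext (Units.ext ?_)
      ext i j
      fin_cases i <;> fin_cases j
      exacts [congrFun (congrFun e1 0) 0, congrFun (congrFun e1 0) 1, congrFun (congrFun e1 1) 0,
        congrFun (congrFun e1 1) 1]
    · rintro ⟨g, hW, hg, hS⟩
      set x := B⁻¹ * g * B with hx
      have hxU : x ∈ Cfsg.GU 3 F q := mul_mem (mul_mem (inv_mem hB) hg) hB
      obtain ⟨d, hd⟩ := Submodule.mem_span_singleton.1 ((mem_stab_span hB2).1 hW)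
      have hx2 : (x : M3) *ᵥ Pi.single 2 1 = d • Pi.single 2 1 := by
        rw [hx, Units.val_mul, Units.val_mul, ← Matrix.mulVec_mulVec, ← Matrix.mulVec_mulVec, ← hd, Matrix.mulVec_smul,
          Matrix.mulVec_mulVec, Units.inv_mul, Matrix.one_mulVec]
      have x02 : (x : M3) 0 2 = 0 := by simpa using congrFun hx2 0
      have x12 : (x : M3) 1 2 = 0 := by simpa using congrFun hx2 1
      have x22 : (x : M3) 2 2 = d := by simpa using congrFun hx2 2
      have hrel : ∀ i j, Cfsg.hermForm 3 F q ((x : M3) *ᵥ Pi.single i 1) ((x : M3) *ᵥ Pi.single j 1) =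
          Cfsg.hermForm 3 F q (Pi.single i 1) (Pi.single j 1) := fun i j => mem_GU_iff.1 hxU _ _
      simp only [CfsgLib.Geo.Asch.hermForm_eq hq, Fin.sum_univ_three, Matrix.mulVec_single_one, Matrix.col_apply] at hrel
      have r22 := hrel 2 2
      have r20 := hrel 2 0
      have r21 := hrel 2 1
      simp [x02, x12, x22] at r22 r20 r21
      have hd0 : d ≠ 0 := fun e => by rw [e, zero_mul] at r22; exact zero_ne_one r22
      have x20 : (x : M3) 2 0 = 0 := by simpa [hd0] using r20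
      have x21 : (x : M3) 2 1 = 0 := by simpa [hd0] using r21
      have hdet : (x : M3).det = 1 := by
        rw [hx, Units.val_mul, Units.val_mul, Matrix.det_units_conj']
        exact det_one_of_mem hS
      rw [Matrix.det_fin_three, x02, x12, x22, x20, x21] at hdet
      set A : Matrix (Fin 2) (Fin 2) F := !![(x : M3) 0 0, (x : M3) 0 1; (x : M3) 1 0, (x : M3) 1 1] with hA
      have hAd : A.det * d = 1 := by
        rw [hA, Matrix.det_fin_two_of]
        linear_combination hdet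
      have hAm : Aᵀ * A.map σ = 1 := by
        have q00 := hrel 0 0
        have q01 := hrel 0 1
        have q10 := hrel 1 0
        have q11 := hrel 1 1
        simp [x20, x21] at q00 q01 q10 q11
        ext i j
        fin_cases i <;> fin_cases j <;> simp [hA, Matrix.mul_apply, Fin.sum_univ_two, q00, q01, q10, q11]
      let a : GL (Fin 2) F := Matrix.GeneralLinearGroup.mkOfDetNeZero A (left_ne_zero_of_mul_eq_one hAd)
      refine ⟨⟨a, CfsgLib.Geo.Asch.mem_GU_of_mul hq hAm⟩, Subtype.ext ?_⟩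
      have : ext ⟨a, CfsgLib.Geo.Asch.mem_GU_of_mul hq hAm⟩ = x := Units.ext (by
        show extPlane A = (x : M3)
        ext i j
        fin_cases i <;> fin_cases j <;>
          simp [extPlane, x02, x12, x22, x20, x21, inv_eq_of_mul_eq_one_right hAd]
        all_goals simp [hA])
      show B * ext _ * B⁻¹ = g
      rw [this, hx]
      group
  rw [← e, h]
  simp [Finset.prod_range_succ, Nat.even_iff]
  ring

/-- A transvection fixing a line has its centre on the line or orthogonal to it. -/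
theorem fixed_line {u w : Fin 3 → F} {φ : Fin 3 → F} {hφ : φ ⬝ᵥ u = 0} {a : F} (ha : a ≠ 0)
    (hφx : ∀ x, φ ⬝ᵥ x = a * hf x u) (hw : w ≠ 0) (h : transvectionGL φ u hφ ∈ subspaceStabilizer (F ∙ w)) :
    hf w u = 0 ∨ u ∈ (F ∙ w) := by
  have h1 := (mem_stab_span hw).1 h
  rw [CfsgLib.Geo.transvectionGL_mulVec, hφx] at h1
  have h2 := (Submodule.add_mem_iff_right _ (Submodule.mem_span_singleton_self w)).1 h1
  by_cases h0 : hf w u = 0
  · exact Or.inl h0
  · exact Or.inr ((Submodule.smul_mem_iff _ (mul_ne_zero ha h0)).1 h2)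

/-- The transvection at an isotropic vector fixes its line. -/
theorem exists_transvection_at (hq : IsQPow σ q) {u : Fin 3 → F} (hu0 : u ≠ 0) (huu : hf u u = 0) :
    ∃ g ∈ subspaceStabilizer (F ∙ u) ⊓ SUg 3 F q, ∀ w, w ≠ 0 → g ∈ subspaceStabilizer (F ∙ w) →
      hf w u = 0 ∨ u ∈ (F ∙ w) := by
  obtain ⟨a, ha0, ha⟩ := hq.exists_trace_zero
  obtain ⟨φ, hφ, hmem, hφx⟩ := CfsgLib.Geo.Asch.exists_SU_transvection hq huu ha
  refine ⟨transvectionGL φ u hφ, ⟨(mem_stab_span hu0).2 ?_, hmem⟩, fun w hw h => fixed_line ha0 hφx hw h⟩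
  rw [CfsgLib.Geo.transvectionGL_mulVec, hφ, zero_smul, add_zero]
  exact Submodule.mem_span_singleton_self u

/-- The stabiliser of an anisotropic line fixes no other line. -/
theorem point_unique (hq : IsQPow σ q) (hF : Fintype.card F = q ^ 2) {B : GL (Fin 3) F} (hB : B ∈ Cfsg.GU 3 F q)
    {w : Fin 3 → F} (hw : w ≠ 0)
    (hle : subspaceStabilizer (F ∙ ((B : M3) *ᵥ Pi.single 2 1)) ⊓ SUg 3 F q ≤ subspaceStabilizer (F ∙ w)) :
    (F ∙ w) = F ∙ ((B : M3) *ᵥ Pi.single 2 1) := by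
  have hfu := CfsgLib.Geo.Asch.isUnitaryForm_hermForm (n := 3) hq
  have hs := CfsgLib.Geo.Asch.isSesqForm_of_unitary hfu
  obtain ⟨c, d, hcd, hc, hd⟩ := CfsgLib.Geo.Asch.exists_pair_norms hq hF
  have h01 : (0 : Fin 3) ≠ 1 := by decide
  have hB2 : (B : M3) *ᵥ (Pi.single 2 1 : Fin 3 → F) ≠ 0 := CfsgLib.Geo.Asch.mulVec_ne_zero B (by simp)
  obtain ⟨a, ha0, ha⟩ := hq.exists_trace_zero
  set x := ((B⁻¹ : GL (Fin 3) F) : M3) *ᵥ w with hx
  have hBx : (B : M3) *ᵥ x = w := by rw [hx, Matrix.mulVec_mulVec, Units.mul_inv, Matrix.one_mulVec]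
  have hbr : ∀ e : F, e * σ e = -1 → x 0 + x 1 * σ e = 0 ∨ ∃ k : F, x = k • pairVec 0 1 e := by
    intro e he
    set p : Fin 3 → F := pairVec 0 1 e
    have hp2 : hf (Pi.single 2 1) p = 0 := by
      rw [CfsgLib.Geo.Asch.hermForm_eq hq, Fin.sum_univ_three]; simp [p, pairVec]
    have hpp : hf ((B : M3) *ᵥ p) ((B : M3) *ᵥ p) = 0 := by
      rw [mem_GU_iff.1 hB, CfsgLib.Geo.Asch.herm_pairVec hq h01, he, add_neg_cancel]
    obtain ⟨φ, hφ, hmem, hφx⟩ := CfsgLib.Geo.Asch.exists_SU_transvection hq hpp ha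
    have hin : transvectionGL φ ((B : M3) *ᵥ p) hφ ∈
        subspaceStabilizer (F ∙ ((B : M3) *ᵥ Pi.single 2 1)) ⊓ SUg 3 F q := by
      refine ⟨(mem_stab_span hB2).2 ?_, hmem⟩
      rw [CfsgLib.Geo.transvectionGL_mulVec, hφx, mem_GU_iff.1 hB, hp2, mul_zero, zero_smul, add_zero]
      exact Submodule.mem_span_singleton_self _
    rcases fixed_line ha0 hφx hw (hle hin) with h | h
    · left
      rw [← hBx, mem_GU_iff.1 hB, CfsgLib.Geo.Asch.hermForm_eq hq, Fin.sum_univ_three] at h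
      simpa [p, pairVec] using h
    · obtain ⟨k, hk⟩ := Submodule.mem_span_singleton.1 h
      have hk0 : k ≠ 0 := fun e0 => by
        rw [e0, zero_smul] at hk
        exact CfsgLib.Geo.Asch.mulVec_ne_zero B (fun e1 => by simpa [p, pairVec] using congrFun e1 0) hk.symm
      refine Or.inr ⟨k⁻¹, ?_⟩
      rw [hx, show w = k⁻¹ • ((B : M3) *ᵥ p) by rw [← hk, smul_smul, inv_mul_cancel₀ hk0, one_smul],
        Matrix.mulVec_smul, Matrix.mulVec_mulVec, Units.inv_mul, Matrix.one_mulVec]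
  have hx0 : x ≠ 0 := CfsgLib.Geo.Asch.mulVec_ne_zero B⁻¹ hw
  have hpair : ∀ e f : F, f * σ f = -1 → e ≠ f → ∀ k : F, k • pairVec (0 : Fin 3) 1 e = x →
      x 0 + x 1 * σ f = 0 → False := by
    intro e f hf' hne k hk h
    rw [← hk] at h
    simp [pairVec] at h
    have hk0 : k ≠ 0 := fun e0 => by rw [e0, zero_smul] at hk; exact hx0 hk.symm
    have h' : 1 + e * σ f = 0 := by
      have : k * (1 + e * σ f) = 0 := by linear_combination h
      exact (mul_eq_zero.1 this).resolve_left hk0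
    have hσf : σ f ≠ 0 := fun e0 => by simp [e0] at hf'
    exact hne (mul_right_cancel₀ hσf (by linear_combination h' - hf'))
  have hx01 : x 0 = 0 ∧ x 1 = 0 := by
    rcases hbr c hc with h1 | ⟨k, hk⟩ <;> rcases hbr d hd with h2 | ⟨l, hl⟩
    · have e : x 1 * (σ c - σ d) = 0 := by linear_combination h1 - h2
      have h1' := (mul_eq_zero.1 e).resolve_right (sub_ne_zero.2 fun e => hcd (σ.injective e))
      exact ⟨by rw [h1', zero_mul, add_zero] at h1; exact h1, h1'⟩
    · exact (hpair d c hc hcd.symm l hl.symm h1).elim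
    · exact (hpair c d hd hcd k hk.symm h2).elim
    · exfalso
      have e0 := congrFun (hk.symm.trans hl) 0
      have e1 := congrFun (hk.symm.trans hl) 1
      simp [pairVec] at e0 e1
      have hk0 : k ≠ 0 := fun e => by rw [e, zero_smul] at hk; exact hx0 hk
      rw [← e0] at e1
      exact hcd (mul_left_cancel₀ hk0 e1)
  have hxs : x = x 2 • Pi.single 2 1 := by
    funext i
    fin_cases i <;> simp [hx01]
  have hx2 : x 2 ≠ 0 := fun e => hx0 (by rw [hxs, e, zero_smul])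
  rw [← hBx, hxs, Matrix.mulVec_smul, Submodule.span_singleton_smul_eq hx2.isUnit]

end CfsgLib.Geo.SL3.Maximal
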