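/-
Cubic fields closed under adjoints: their cyclic groups and normalisers in SU(3).
-/
import Cfsg.Agent.Lib.Geo.SL3.Maximal.UnitaryPoints
import Cfsg.Agent.Lib.Geo.SL3.Maximal.Singer
import Cfsg.Agent.Lib.Geo.SL3.Maximal.ArithUnitary

set_option autoImplicit false

namespace CfsgLib.Geo.SL3.Maximal

open Matrix Cfsg.Geo
open CfsgLib.Geo.Asch (IsQPow SUg)

variable {F : Type*} [Field F] [Fintype F] {σ : F ≃+* F} {q : ℕ}

local notation "M3" => Matrix (Fin 3) (Fin 3) F
local notation "hf" => Cfsg.hermForm 3 F q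

omit [Fintype F] in
theorem eq_of_adjoint (hq : IsQPow σ q) {A A' : M3} (h : ∀ u v, hf u (A *ᵥ v) = hf u (A' *ᵥ v)) : A = A' := by
  ext i j
  have e := h (Pi.single i 1) (Pi.single j 1)
  simp only [CfsgLib.Geo.Asch.hermForm_eq hq, Matrix.mulVec_single_one, Matrix.col_apply] at e
  simpa [Pi.single_apply] using e

/-- The adjoint is the power by `q³`. -/
theorem adjoint_pow (hq : IsQPow σ q) (hF : Fintype.card F = q ^ 2) {K : Subalgebra F M3}
    (hK : IsFieldSubalgebra 3 K) (hKa : IsAdjointClosedFor hf K) {k : M3} (hk : k ∈ K) (u v : Fin 3 → F) :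
    hf (k *ᵥ u) v = hf u (k ^ q ^ 3 *ᵥ v) := by
  classical
  have hfu := CfsgLib.Geo.Asch.isUnitaryForm_hermForm (n := 3) hq
  have hs := CfsgLib.Geo.Asch.isSesqForm_of_unitary hfu
  choose ad hadK had using hKa
  letI : Field K := fieldOf hK
  haveI : FiniteDimensional F K := FiniteDimensional.of_finrank_pos (by rw [hK.finrank_eq]; norm_num)
  haveI : Finite K := Module.finite_of_finite F
  have huniq : ∀ (a : K) (b : M3), (∀ u v, hf ((a : M3) *ᵥ u) v = hf u (b *ᵥ v)) → ad a a.2 = b := fun a b hb =>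
    eq_of_adjoint hq fun u v => (had a a.2 u v).symm.trans (hb u v)
  let τ : K →+* K :=
    { toFun := fun a => ⟨ad a a.2, hadK a a.2⟩
      map_one' := Subtype.ext (huniq 1 1 fun u v => by simp)
      map_mul' := fun a b => Subtype.ext (huniq (a * b) (ad a a.2 * ad b b.2) fun u v => by
        rw [hK.comm _ (hadK a a.2) _ (hadK b b.2), ← Matrix.mulVec_mulVec, ← had b b.2, ← had a a.2,
          Matrix.mulVec_mulVec]
        rfl)
      map_zero' := Subtype.ext (huniq 0 0 fun u v => by simp [hs.map_zero_left, hs.map_zero_right])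
      map_add' := fun a b => Subtype.ext (huniq (a + b) (ad a a.2 + ad b b.2) fun u v => by
        show hf (((a : M3) + (b : M3)) *ᵥ u) v = _
        rw [Matrix.add_mulVec, Matrix.add_mulVec, hs.add_left, hs.add_right, had a a.2, had b b.2]) }
  have hinv : CfsgLib.Classical.Herm.IsInvol τ := by
    refine ⟨fun e => ?_, fun a => Subtype.ext (huniq (τ a) a fun u v => ?_)⟩
    · obtain ⟨c, hc⟩ := hq.moved
      have h1 : ad (algebraMap F M3 c) (K.algebraMap_mem c) = algebraMap F M3 (σ c) :=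
        huniq ⟨_, K.algebraMap_mem c⟩ _ fun u v => by
          simp only [Algebra.algebraMap_eq_smul_one, Matrix.smul_mulVec, Matrix.one_mulVec, hs.smul_left,
            hs.smul_right, hq.involutive]
      have h2 : ad (algebraMap F M3 c) (K.algebraMap_mem c) = algebraMap F M3 c :=
        congrArg Subtype.val (RingHom.congr_fun e ⟨_, K.algebraMap_mem c⟩)
      exact hc ((FaithfulSMul.algebraMap_injective F M3) (h1.symm.trans h2))
    · show hf (ad a a.2 *ᵥ u) v = hf u ((a : M3) *ᵥ v)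
      rw [hfu.herm, ← had a a.2, ← hfu.herm]
  have hQ : Nat.card (CfsgLib.Classical.Herm.fixedSub τ) = q ^ 3 := by
    refine Nat.pow_left_injective two_ne_zero ?_
    show Nat.card (CfsgLib.Classical.Herm.fixedSub τ) ^ 2 = (q ^ 3) ^ 2
    rw [← hinv.card_sq, card_cubic hK, hF, ← pow_mul, ← pow_mul]
  have e := congrArg Subtype.val (hinv.apply_eq_pow ⟨k, hk⟩)
  rw [hQ] at e
  rw [had k hk, show ad k hk = k ^ q ^ 3 from e.trans (SubmonoidClass.coe_pow _ _)]

theorem isExp_singerU (hF : Fintype.card F = q ^ 2) (h3 : 3 ≤ q) : IsExp (F := F) (Arith.singerU q) :=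
  ⟨Dvd.intro _ (by rw [hF]; exact Arith.singerU_mul_singer q), Arith.seven_le_singerU h3, Arith.nine_not_dvd_singerU q⟩

theorem cyc_le_GU (hq : IsQPow σ q) (hF : Fintype.card F = q ^ 2) {K : Subalgebra F M3}
    (hK : IsFieldSubalgebra 3 K) (hKa : IsAdjointClosedFor hf K) [NeZero (Arith.singerU q)] :
    cyc hK (Arith.singerU q) ≤ Cfsg.GU 3 F q := by
  rintro g ⟨hg, hg'⟩
  refine mem_GU_iff.2 fun u v => ?_
  rw [adjoint_pow hq hF hK hKa hg, Matrix.mulVec_mulVec, ← pow_succ, ← Units.val_pow_eq_pow_val,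
    ← Arith.singerU_mul, pow_mul, hg', one_pow, Units.val_one, Matrix.one_mulVec]

theorem card_field_dvd_unitary (hq : IsQPow σ q) (hF : Fintype.card F = q ^ 2) (h3 : 3 ≤ q) {K : Subalgebra F M3}
    (hK : IsFieldSubalgebra 3 K) (hKa : IsAdjointClosedFor hf K) :
    Nat.card (subalgebraNormalizer K ⊓ SUg 3 F q : Subgroup _) ∣ 3 * Arith.singerU q := by
  haveI : NeZero (Arith.singerU q) := ⟨by have := Arith.seven_le_singerU h3; omega⟩
  refine card_normalizer_dvd hK _ (isExp_singerU hF h3) fun g hg hgK => ?_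
  have h1 : g ^ (Arith.singerU q * (q + 1)) = 1 := Units.ext (eq_of_adjoint hq fun u v => by
    rw [Arith.singerU_mul, pow_succ, Units.val_mul, Units.val_pow_eq_pow_val, ← Matrix.mulVec_mulVec,
      ← adjoint_pow hq hF hK hKa hgK, Units.val_one, Matrix.one_mulVec]
    exact mem_GU_iff.1 hg.1 u v)
  have h2 : g ^ (Arith.singerU q * (q ^ 2 + q + 1)) = 1 := Units.ext (by
    rw [Arith.singerU_mul_singer, Units.val_pow_eq_pow_val, ← hF, det_eq_pow hK hgK, det_one_of_mem hg.2, one_smul,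
      Units.val_one])
  rw [pow_mul] at h1 h2
  refine orderOf_eq_one_iff.1 (Nat.eq_one_of_dvd_coprimes ?_ (orderOf_dvd_of_pow_eq_one h1)
    (orderOf_dvd_of_pow_eq_one h2))
  rw [show q ^ 2 + q + 1 = 1 + (q + 1) * q by ring, Nat.coprime_add_mul_left_right]
  exact Nat.coprime_one_right _

end CfsgLib.Geo.SL3.Maximal
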