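/-
The residual groups of SU(3,5) against the point stabilisers.
-/
import Cfsg.Agent.Lib.Geo.SL3.Maximal.UnitaryPoints
import Cfsg.Agent.Lib.Geo.SL3.Maximal.Residual

set_option autoImplicit false

namespace CfsgLib.Geo.SL3.Maximal

open Matrix Cfsg.Geo
open CfsgLib.Geo.Asch (IsQPow SUg pairVec)

variable {F : Type*} [Field F] [Fintype F] {σ : F ≃+* F}

local notation "M3" => Matrix (Fin 3) (Fin 3) F

/-- No element of order ten in small alternating groups. -/
theorem orderOf_ne_ten {α : Type*} [Fintype α] [DecidableEq α] (h7 : Fintype.card α ≤ 7) (g : alternatingGroup α) :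
    orderOf g ≠ 10 := by
  intro ho
  rw [← Subgroup.orderOf_coe] at ho
  set p : Equiv.Perm α := (g : Equiv.Perm α)
  have hdiv : ∀ n ∈ p.cycleType, n ∣ 10 := fun n hn => ho ▸ Equiv.Perm.dvd_of_mem_cycleType hn
  have hsum : p.cycleType.sum ≤ 7 := by
    rw [Equiv.Perm.sum_cycleType]
    exact (Finset.card_le_univ _).trans h7
  have hparts : ∀ n ∈ p.cycleType, n = 2 ∨ n = 5 := fun n hn => by
    have h2 := Equiv.Perm.two_le_of_mem_cycleType hn
    have h10 := hdiv n hn
    have hn7 : n ≤ 7 := (Multiset.single_le_sum (fun _ _ => Nat.zero_le _) _ hn).trans hsum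
    interval_cases n <;> omega
  have hlcm : p.cycleType.lcm = 10 := by rw [Equiv.Perm.lcm_cycleType, ho]
  have h5 : 5 ∈ p.cycleType := by
    by_contra h5
    have : p.cycleType.lcm ∣ 2 := Multiset.lcm_dvd.2 fun n hn => by
      rcases hparts n hn with rfl | rfl
      · rfl
      · exact absurd hn h5
    rw [hlcm] at this
    omega
  obtain ⟨t, ht⟩ := Multiset.exists_cons_of_mem h5
  have h2 : 2 ∈ t := by
    by_contra h2
    have : p.cycleType.lcm ∣ 5 := Multiset.lcm_dvd.2 fun n hn => by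
      rcases hparts n hn with rfl | rfl
      · rw [ht] at hn
        rcases Multiset.mem_cons.1 hn with h | h
        · norm_num at h
        · exact absurd h h2
      · rfl
    rw [hlcm] at this
    omega
  obtain ⟨s, hs⟩ := Multiset.exists_cons_of_mem h2
  have hs0 : s = 0 := by
    refine Multiset.eq_zero_of_forall_notMem fun n hn => ?_
    have hnp : n ∈ p.cycleType := by
      rw [ht, hs]; exact Multiset.mem_cons_of_mem (Multiset.mem_cons_of_mem hn)
    have h1 := Equiv.Perm.two_le_of_mem_cycleType hnp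
    have h3 := Multiset.single_le_sum (fun _ _ => Nat.zero_le _) _ hn
    rw [ht, hs, Multiset.sum_cons, Multiset.sum_cons] at hsum
    omega
  have hsign := Equiv.Perm.sign_of_cycleType p
  rw [Equiv.Perm.mem_alternatingGroup.1 g.2, ht, hs, hs0] at hsign
  exact absurd hsign (by decide)

theorem card_mulAut_seven : Nat.card (MulAut (alternatingGroup (Fin 7))) = 5040 := by
  rw [← Nat.card_congr (Equiv.ofBijective _
    (CfsgLib.ClassSizes.AlternatingAut.conjNormal_bijective (α := Fin 7) (by simp) (by simp))), Nat.card_perm,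
    Nat.card_eq_fintype_card, Fintype.card_fin]
  rfl

theorem mulAut_dvd {n : ℕ} (h : n = 6 ∨ n = 7) :
    Nat.card (MulAut (alternatingGroup (Fin n))) ∣ 4 * Nat.card (alternatingGroup (Fin n)) := by
  rcases h with rfl | rfl
  · rw [card_alt_six]
    simpa [Nat.factorial] using
      CfsgLib.ClassSizes.AlternatingAut.card_mulAut_six (α := Fin 6) (Fintype.card_fin 6)
  · rw [card_mulAut_seven, nat_card_alternatingGroup]
    norm_num [Nat.factorial]

variable {M P : Subgroup (GL (Fin 3) F)}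

theorem no_cube_five (hcore : IsResidualCore M P) (hM : M ≤ specialLinear (Fin 3) F) {n : ℕ} (hn : n = 6 ∨ n = 7)
    (e : Nonempty ((P ⧸ (scalars (Fin 3) F).subgroupOf P) ≃* alternatingGroup (Fin n))) : ¬ 5 ^ 3 ∣ Nat.card M := by
  intro h
  have h1 := h.trans (card_dvd_three_mul hM ((card_dvd_mulAut hcore e).trans (mulAut_dvd hn)))
  rcases hn with rfl | rfl <;> rw [nat_card_alternatingGroup] at h1 <;> norm_num [Nat.factorial] at h1

theorem comm_of_card_dvd_four {G : Type*} [Group G] [Finite G] (h : Nat.card G ∣ 4) (a b : G) : a * b = b * a := by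
  obtain ⟨i, hi, hc⟩ := (Nat.dvd_prime_pow Nat.prime_two).1 (show Nat.card G ∣ 2 ^ 2 from h)
  haveI : Fact (Nat.Prime 2) := ⟨Nat.prime_two⟩
  interval_cases i
  · haveI : Subsingleton G := (Nat.card_eq_one_iff_unique.1 (by simpa using hc)).1
    exact Subsingleton.elim _ _
  · haveI : IsCyclic G := isCyclic_of_prime_card (p := 2) (by simpa using hc)
    exact IsMulCommutative.is_comm.comm a b
  · exact IsPGroup.commutative_of_card_eq_prime_sq (p := 2) hc a b

/-- A point stabiliser has an element of order ten, so it is in no residual group. -/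
theorem not_point_five (hq : IsQPow σ 5) (hF : Fintype.card F = 5 ^ 2) {B : GL (Fin 3) F}
    (hB : B ∈ Cfsg.GU 3 F 5) (hcore : IsResidualCore M P) (hM : M ≤ specialLinear (Fin 3) F) {n : ℕ}
    (hn : n = 6 ∨ n = 7) (e : Nonempty ((P ⧸ (scalars (Fin 3) F).subgroupOf P) ≃* alternatingGroup (Fin n)))
    (hle : subspaceStabilizer (F ∙ ((B : M3) *ᵥ Pi.single 2 1)) ⊓ SUg 3 F 5 ≤ M) : False := by
  classical
  have hfu := CfsgLib.Geo.Asch.isUnitaryForm_hermForm (n := 3) hq
  have hs := CfsgLib.Geo.Asch.isSesqForm_of_unitary hfu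
  haveI : CharP F 5 := by
    obtain ⟨p, hp⟩ := CharP.exists F
    haveI := hp
    obtain ⟨k, hp', hk⟩ := FiniteField.card F p
    obtain rfl : p = 5 := (Nat.prime_dvd_prime_iff_eq hp' (by norm_num)).1
      (hp'.dvd_of_dvd_pow (n := 2) (by rw [← hF, hk]; exact dvd_pow_self p k.pos.ne'))
    exact hp
  have h2 : (2 : F) ≠ 0 := fun h => by
    have h' : ((2 : ℕ) : F) = 0 := by exact_mod_cast h
    rw [CharP.cast_eq_zero_iff F 5] at h'
    omega
  have hB2 : (B : M3) *ᵥ (Pi.single 2 1 : Fin 3 → F) ≠ 0 := CfsgLib.Geo.Asch.mulVec_ne_zero B (by simp)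
  -- monomial elements of the point stabiliser
  have hmon : ∀ (τ : Equiv.Perm (Fin 3)) (s : Fin 3 → Fˣ), τ 2 = 2 → (∀ j, s j = 1 ∨ s j = -1) →
      (monElem B τ s : M3).det = 1 →
      monElem B τ s ∈ subspaceStabilizer (F ∙ ((B : M3) *ᵥ Pi.single 2 1)) ⊓ SUg 3 F 5 := by
    intro τ s hτ hs1 hd
    refine ⟨(mem_stab_span hB2).2 ?_, (monGroup_mem_GU hq hB (monElem_mul_basis B τ s)).2 fun j => ?_,
      mem_specialLinear hd⟩
    · rw [Matrix.mulVec_mulVec, monElem_mul_basis, ← Matrix.mulVec_mulVec, monMat_mulVec_single, hτ, Matrix.mulVec_smul]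
      exact Submodule.smul_mem _ _ (Submodule.mem_span_singleton_self _)
    · rw [mem_normOne hq]
      rcases hs1 j with h | h <;> simp [h]
  set w₁ := monElem B (Equiv.swap 0 1) ![(1 : Fˣ), -1, 1]
  set w₂ := monElem B 1 ![(1 : Fˣ), -1, -1]
  set z := monElem B 1 ![(-1 : Fˣ), -1, 1] with hzdef
  have hw₁ := hmon (Equiv.swap 0 1) ![(1 : Fˣ), -1, 1] (by decide)
    (by intro j; fin_cases j <;> simp) (by rw [det_monElem]; simp)
  have hw₂ := hmon 1 ![(1 : Fˣ), -1, -1] rfl
    (by intro j; fin_cases j <;> simp) (by rw [det_monElem]; simp)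
  have hz := hmon 1 ![(-1 : Fˣ), -1, 1] rfl
    (by intro j; fin_cases j <;> simp) (by rw [det_monElem]; simp)
  have hmul : ∀ (τ τ' : Equiv.Perm (Fin 3)) (c d : Fin 3 → Fˣ),
      monElem B τ c * monElem B τ' d = monElem B (τ * τ') fun j => c (τ' j) * d j := fun τ τ' c d => by
    refine eq_monElem ?_
    rw [Units.val_mul, mul_assoc, monElem_mul_basis, ← mul_assoc, monElem_mul_basis, mul_assoc, monMat_mul]
    simp
  have hcomm : z * (w₂ * w₁) = w₁ * w₂ := by
    simp only [z, w₁, w₂, hmul, mul_one, one_mul]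
    congr 1
    funext j
    fin_cases j <;> simp [Equiv.swap_apply_def]
  have hz2 : z * z = 1 := by
    rw [hzdef, hmul]
    refine (eq_monElem (B := B) ?_).symm
    rw [Units.val_one, one_mul]
    have : (fun j => ((((![(-1 : Fˣ), -1, 1] : Fin 3 → Fˣ) ((1 : Equiv.Perm (Fin 3)) j)) *
        (![(-1 : Fˣ), -1, 1] : Fin 3 → Fˣ) j : Fˣ) : F)) = fun _ => 1 := by
      funext j; fin_cases j <;> simp
    rw [mul_one (1 : Equiv.Perm (Fin 3)), this, monMat_one, mul_one]
  -- a commuting transvection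
  obtain ⟨c, -, -, hc, -⟩ := CfsgLib.Geo.Asch.exists_pair_norms hq hF
  obtain ⟨a, ha0, ha⟩ := hq.exists_trace_zero
  set p : Fin 3 → F := pairVec 0 1 c with hp
  have hp2 : Cfsg.hermForm 3 F 5 (Pi.single 2 1) p = 0 := by
    rw [CfsgLib.Geo.Asch.hermForm_eq hq, Fin.sum_univ_three]; simp [hp, pairVec]
  set Bp := (B : M3) *ᵥ p
  have hBp0 : Bp ≠ 0 := CfsgLib.Geo.Asch.mulVec_ne_zero B fun h => by simpa [hp, pairVec] using congrFun h 0
  have hpp : Cfsg.hermForm 3 F 5 Bp Bp = 0 := by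
    rw [mem_GU_iff.1 hB, hp, CfsgLib.Geo.Asch.herm_pairVec hq (by decide), hc, add_neg_cancel]
  obtain ⟨φ, hφ, hmem, hφx⟩ := CfsgLib.Geo.Asch.exists_SU_transvection hq hpp ha
  set u := CfsgLib.Geo.transvectionGL φ Bp hφ
  have hu : u ∈ subspaceStabilizer (F ∙ ((B : M3) *ᵥ Pi.single 2 1)) ⊓ SUg 3 F 5 := by
    refine ⟨(mem_stab_span hB2).2 ?_, hmem⟩
    rw [CfsgLib.Geo.transvectionGL_mulVec, hφx, mem_GU_iff.1 hB, hp2, mul_zero, zero_smul, add_zero]
    exact Submodule.mem_span_singleton_self _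
  have hzp : (z : M3) *ᵥ Bp = -Bp := by
    rw [Matrix.mulVec_mulVec, monElem_mul_basis, ← Matrix.mulVec_mulVec, ← Matrix.mulVec_neg]
    congr 1
    funext j
    fin_cases j <;> simp [monMat, Matrix.mulVec, dotProduct, Fin.sum_univ_three, hp, pairVec]
  have hzu : z * u = u * z := by
    refine Units.ext (Matrix.ext_of_mulVec_single fun j => ?_)
    rw [Units.val_mul, Units.val_mul, ← Matrix.mulVec_mulVec, ← Matrix.mulVec_mulVec,
      CfsgLib.Geo.transvectionGL_mulVec, CfsgLib.Geo.transvectionGL_mulVec, Matrix.mulVec_add, Matrix.mulVec_smul, hzp,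
      hφx, hφx]
    have h1 := mem_GU_iff.1 hz.2.1 (Pi.single j 1) Bp
    rw [hzp, ← neg_one_smul F Bp, hs.smul_right, map_neg, map_one] at h1
    rw [← h1, neg_one_mul, mul_neg, smul_neg, neg_smul, neg_neg]
    try rfl
  have hu5 : u ^ 5 = 1 := Units.ext (by
    haveI : Fact (Nat.Prime 5) := ⟨by norm_num⟩
    haveI : CharP M3 5 := Matrix.charP 5
    have hNN : Matrix.vecMulVec Bp φ * Matrix.vecMulVec Bp φ = 0 := by
      rw [Matrix.vecMulVec_mul_vecMulVec, hφ, zero_smul, Matrix.vecMulVec_zero]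
    rw [Units.val_pow_eq_pow_val, show (u : M3) = 1 + Matrix.vecMulVec Bp φ from rfl,
      add_pow_char_of_commute (p := 5) (h := Commute.one_left _), one_pow,
      pow_eq_zero_of_le (show 2 ≤ 5 by norm_num) (by rw [pow_two]; exact hNN), add_zero, Units.val_one])
  have hzns : z ∉ scalars (Fin 3) F := fun h => by
    obtain ⟨k, hk⟩ := (mem_scalars_iff _).1 h
    have h1 : monMat 1 (fun j => ((((![(-1 : Fˣ), -1, 1] : Fin 3 → Fˣ) j) : Fˣ) : F)) = (k : F) • (1 : M3) := by
      refine (Units.mul_right_inj B).1 ?_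
      rw [← monElem_mul_basis, ← hzdef, hk, smul_mul_assoc, one_mul, mul_smul_comm, mul_one]
    have e0 := congrFun (congrFun h1 0) 0
    have e2 := congrFun (congrFun h1 2) 2
    simp [monMat] at e0 e2
    exact h2 (by linear_combination e2 - e0)
  have huns : u ∉ scalars (Fin 3) F := fun h => by
    obtain ⟨k, hk⟩ := (mem_scalars_iff _).1 h
    have happ : ∀ x, x + (a * Cfsg.hermForm 3 F 5 x Bp) • Bp = (k : F) • x := fun x => by
      rw [← hφx, ← CfsgLib.Geo.transvectionGL_mulVec φ Bp hφ, hk, Matrix.smul_mulVec, Matrix.one_mulVec]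
    have hk1 : (k : F) = 1 := by
      have h1 := happ Bp
      rw [hpp, mul_zero, zero_smul, add_zero] at h1
      exact (smul_left_injective F hBp0 (by simpa using h1.symm))
    obtain ⟨x, hx⟩ := (hfu.nondegenerate Bp hBp0).1
    have h1 := happ x
    rw [hk1, one_smul, add_eq_left, smul_eq_zero] at h1
    exact mul_ne_zero ha0 hx (h1.resolve_right hBp0)
  -- the images in the socle
  haveI := socle_normal hcore
  obtain ⟨ee⟩ := e
  let Q := M ⧸ (scalars (Fin 3) F).subgroupOf M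
  have hidx : Nat.card (Q ⧸ socle hcore) ∣ 4 := by
    have h1 := (card_dvd_mulAut hcore ⟨ee⟩).trans (mulAut_dvd hn)
    rw [Subgroup.card_eq_card_quotient_mul_card_subgroup (socle hcore),
      show Nat.card (socle hcore) = Nat.card (alternatingGroup (Fin n)) by
        rw [← Nat.card_congr (socleEquiv hcore).toEquiv, Nat.card_congr ee.toEquiv]] at h1
    exact Nat.dvd_of_mul_dvd_mul_right Nat.card_pos h1
  let im : (g : GL (Fin 3) F) → g ∈ M → Q := fun g hg => QuotientGroup.mk ⟨g, hg⟩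
  have hne : ∀ g hg, g ∉ scalars (Fin 3) F → im g hg ≠ 1 := fun g hg hns h =>
    hns (Subgroup.mem_subgroupOf.1 ((QuotientGroup.eq_one_iff (⟨g, hg⟩ : M)).1 h))
  set Z := im z (hle hz) with hZ
  set U := im u (hle hu) with hU
  have hZs : Z ∈ socle hcore := by
    rw [← QuotientGroup.eq_one_iff]
    have h1 : Z * (im w₂ (hle hw₂) * im w₁ (hle hw₁)) = im w₁ (hle hw₁) * im w₂ (hle hw₂) :=
      congrArg (QuotientGroup.mk : M → Q) (Subtype.ext hcomm :
        (⟨z, hle hz⟩ : M) * (⟨w₂, hle hw₂⟩ * ⟨w₁, hle hw₁⟩) = ⟨w₁, hle hw₁⟩ * ⟨w₂, hle hw₂⟩)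
    have h2 := congrArg (QuotientGroup.mk : Q → Q ⧸ socle hcore) h1
    rw [QuotientGroup.mk_mul, QuotientGroup.mk_mul, QuotientGroup.mk_mul,
      comm_of_card_dvd_four hidx (QuotientGroup.mk (im w₁ (hle hw₁)))] at h2
    exact mul_eq_right.1 h2
  have hU5 : U ^ 5 = 1 := (QuotientGroup.mk_pow _ _ 5).symm.trans
    (congrArg (QuotientGroup.mk : M → Q) (Subtype.ext hu5 : (⟨u, hle hu⟩ : M) ^ 5 = 1))
  have hUs : U ∈ socle hcore := by
    rw [← QuotientGroup.eq_one_iff, ← orderOf_eq_one_iff]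
    refine Nat.eq_one_of_dvd_coprimes (show Nat.Coprime 5 4 by norm_num) (orderOf_dvd_of_pow_eq_one ?_)
      ((orderOf_dvd_natCard _).trans hidx)
    rw [← QuotientGroup.mk_pow, hU5, QuotientGroup.mk_one]
  have hZ2 : Z ^ 2 = 1 := by
    rw [pow_two]
    exact congrArg (QuotientGroup.mk : M → Q) (Subtype.ext hz2 : (⟨z, hle hz⟩ : M) * ⟨z, hle hz⟩ = 1)
  have hcom : Commute Z U :=
    congrArg (QuotientGroup.mk : M → Q) (Subtype.ext hzu : (⟨z, hle hz⟩ : M) * ⟨u, hle hu⟩ = ⟨u, hle hu⟩ * ⟨z, hle hz⟩)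
  have hord : orderOf (Z * U) = 10 := by
    haveI : Fact (Nat.Prime 2) := ⟨Nat.prime_two⟩
    haveI : Fact (Nat.Prime 5) := ⟨by norm_num⟩
    rw [hcom.orderOf_mul_eq_mul_orderOf_of_coprime, orderOf_eq_prime hZ2 (hne _ _ hzns),
      orderOf_eq_prime hU5 (hne _ _ huns)]
    rw [orderOf_eq_prime hZ2 (hne _ _ hzns), orderOf_eq_prime hU5 (hne _ _ huns)]
    norm_num
  refine orderOf_ne_ten (show Fintype.card (Fin n) ≤ 7 by rcases hn with rfl | rfl <;> simp)
    (((socleEquiv hcore).symm.trans ee) ⟨Z * U, mul_mem hZs hUs⟩) ?_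
  rw [MulEquiv.orderOf_eq, ← hord]
  exact (Subgroup.orderOf_coe _).symm

end CfsgLib.Geo.SL3.Maximal
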