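/-
Similarity groups of ternary quadratic forms in SL(3): order, irreducibility, no transvection.
-/
import Cfsg.Agent.Lib.Geo.SL3.Maximal.SubfieldOrder
import Cfsg.Agent.Lib.Geo.OrthFieldExt.Type

set_option autoImplicit false

namespace CfsgLib.Geo.SL3.Maximal

open Matrix Cfsg.Geo
open CfsgLib.Classical.Quad (OQ)

universe u

variable {F : Type u} [Field F] {Q : (Fin 3 → F) → F}

local notation "M3" => Matrix (Fin 3) (Fin 3) F

/-- The part of determinant one of a similarity group. -/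
abbrev simGroup (Q : (Fin 3 → F) → F) : Subgroup (GL (Fin 3) F) :=
  quadSimilarityGroup Q ⊓ specialLinear (Fin 3) F

variable (hQ : IsNondegenerateQuadraticForm Q)

/-- The form as a quadratic form. -/
def qForm : QuadraticForm F (Fin 3 → F) :=
  QuadraticMap.ofPolar Q (fun a x => by rw [hQ.smul, pow_two, smul_eq_mul])
    (fun x x' y => hQ.polar_bilinear.add_left x x' y) (fun a x y => hQ.polar_bilinear.smul_left a x y)

theorem qForm_apply (v : Fin 3 → F) : qForm hQ v = Q v := rfl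

theorem qForm_nondegenerate : (QuadraticMap.polarBilin (qForm hQ)).Nondegenerate := by
  constructor
  · intro v hv
    by_contra h0
    obtain ⟨x, hx⟩ := (hQ.nondegenerate v h0).2
    exact hx (hv x)
  · intro v hv
    by_contra h0
    obtain ⟨x, hx⟩ := (hQ.nondegenerate v h0).1
    exact hx (hv x)

include hQ in
theorem exists_ne_zero : ∃ v, Q v ≠ 0 := by
  by_contra! hall
  obtain ⟨x, hx⟩ := (hQ.nondegenerate (Pi.single 0 1) (by simp)).1
  simp [QuadraticMap.polar, hall] at hx

include hQ in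
theorem gram_eq (u v : Fin 3 → F) :
    QuadraticMap.polar Q u v =
      u ⬝ᵥ ((Matrix.of fun i j => QuadraticMap.polar Q (Pi.single i 1) (Pi.single j 1) : M3) *ᵥ v) := by
  obtain ⟨a1, s1, a2, s2⟩ := hQ.polar_bilinear
  conv_lhs => rw [pi_eq_sum_univ' u, pi_eq_sum_univ' v]
  simp only [Fin.sum_univ_three, a1, a2, s1, s2, dotProduct, Matrix.mulVec, Matrix.of_apply]
  ring

include hQ in
theorem gram_det_ne_zero :
    (Matrix.of fun i j => QuadraticMap.polar Q (Pi.single i 1) (Pi.single j 1) : M3).det ≠ 0 := by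
  intro h
  obtain ⟨v, hv, hv0⟩ := Matrix.exists_mulVec_eq_zero_iff.2 h
  obtain ⟨x, hx⟩ := (hQ.nondegenerate v hv).1
  rw [gram_eq hQ, hv0, dotProduct_zero] at hx
  exact hx rfl

include hQ in
theorem det_sq {g : GL (Fin 3) F} {c : F}
    (h : ∀ v, Q ((g : M3) *ᵥ v) = c * Q v) : (g : M3).det ^ 2 = c ^ 3 := by
  set G : M3 := Matrix.of fun i j => QuadraticMap.polar Q (Pi.single i 1) (Pi.single j 1) with hG
  have e : (g : M3)ᵀ * G * (g : M3) = c • G := by
    ext i j
    have h1 : ∀ A : M3, A i j = Pi.single i 1 ⬝ᵥ (A *ᵥ Pi.single j 1) := fun A => by simp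
    rw [h1 ((g : M3)ᵀ * G * (g : M3)), h1 (c • G), ← Matrix.mulVec_mulVec, ← Matrix.mulVec_mulVec, Matrix.dotProduct_mulVec,
      Matrix.vecMul_transpose, Matrix.smul_mulVec, dotProduct_smul, smul_eq_mul, hG, ← gram_eq hQ, ← gram_eq hQ]
    simp only [QuadraticMap.polar, ← Matrix.mulVec_add, h]
    ring
  have hd := congrArg Matrix.det e
  rw [Matrix.det_mul, Matrix.det_mul, Matrix.det_transpose, Matrix.det_smul, Fintype.card_fin] at hd
  exact mul_right_cancel₀ (gram_det_ne_zero hQ) (by linear_combination hd)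

include hQ in
theorem multiplier_cube {g : GL (Fin 3) F} (hg : g ∈ specialLinear (Fin 3) F) {c : Fˣ}
    (h : ∀ v, Q ((g : M3) *ᵥ v) = (c : F) * Q v) : (c : F) ^ 3 = 1 := by
  rw [← det_sq hQ h, det_one_of_mem hg, one_pow]

theorem mem_isometry {g : GL (Fin 3) F} :
    g ∈ Cfsg.isometryGroup F Q ↔ ∀ v, Q ((g : M3) *ᵥ v) = Q v :=
  ⟨fun h v => h v v, fun h u _ => h u⟩

theorem neg_one_mem_isometry (hQ : IsNondegenerateQuadraticForm Q) :
    (-1 : GL (Fin 3) F) ∈ Cfsg.isometryGroup F Q := mem_isometry.2 fun v => by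
  rw [Units.val_neg, Units.val_one, Matrix.neg_mulVec, Matrix.one_mulVec, ← neg_one_smul F v, hQ.smul]
  ring

include hQ in
theorem card_special_isometry [Fintype F] (h2 : (2 : F) ≠ 0) :
    Nat.card (Cfsg.isometryGroup F Q ⊓ specialLinear (Fin 3) F : Subgroup _) =
      Fintype.card F * (Fintype.card F ^ 2 - 1) := by
  have hO : Nat.card (Cfsg.isometryGroup F Q) = 2 * (Fintype.card F * (Fintype.card F ^ 2 - 1)) := by
    rw [CfsgLib.Classical.Quad.card_isometryGroup_eq (qForm hQ) (f := Q) rfl,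
      CfsgLib.Geo.OrthFieldExt.card_OQ_odd h2 (qForm_nondegenerate hQ) (k := 1) (by rw [Module.finrank_fin_fun])]
    simp
    ring
  let δ : Cfsg.isometryGroup F Q →* Fˣ := (Matrix.GeneralLinearGroup.det).comp (Cfsg.isometryGroup F Q).subtype
  have hker : δ.ker = (Cfsg.isometryGroup F Q ⊓ specialLinear (Fin 3) F).subgroupOf (Cfsg.isometryGroup F Q) := by
    ext g
    rw [MonoidHom.mem_ker, Subgroup.mem_subgroupOf]
    exact ⟨fun hg => ⟨g.2, MonoidHom.mem_ker.2 hg⟩, fun hg => MonoidHom.mem_ker.1 hg.2⟩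
  have hrange : Nat.card δ.range = 2 := by
    have hle : δ.range ≤ (powMonoidHom 2 : Fˣ →* Fˣ).ker := by
      rintro _ ⟨g, rfl⟩
      refine MonoidHom.mem_ker.2 (Units.ext ?_)
      show ((g : GL (Fin 3) F) : M3).det ^ 2 = 1
      rw [det_sq hQ (c := 1) (fun v => by rw [one_mul]; exact mem_isometry.1 g.2 v), one_pow]
    have hne : (-1 : Fˣ) ≠ 1 := fun e => h2 (by
      have := congrArg Units.val e
      rw [Units.val_neg, Units.val_one] at this
      linear_combination -this)
    have hm : (-1 : Fˣ) ∈ δ.range := ⟨⟨-1, neg_one_mem_isometry hQ⟩, Units.ext (by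
      show ((-1 : GL (Fin 3) F) : M3).det = ((-1 : Fˣ) : F)
      rw [Units.val_neg, Units.val_one, Matrix.det_neg, Matrix.det_one, Fintype.card_fin, Units.val_neg, Units.val_one]
      ring)⟩
    have h1 : 1 < Nat.card δ.range := Finite.one_lt_card_iff_nontrivial.2
      ⟨⟨-1, hm⟩, 1, fun e => hne (congrArg Subtype.val e)⟩
    have h3 : Nat.card δ.range ∣ 2 := by
      refine (Subgroup.card_dvd_of_le hle).trans ?_
      rw [IsCyclic.card_powMonoidHom_ker]
      exact Nat.gcd_dvd_right _ _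
    rcases (Nat.dvd_prime Nat.prime_two).1 h3 with h | h <;> omega
  have h := δ.ker.card_mul_index
  rw [Subgroup.index_ker, hrange, hker, Nat.card_congr (Subgroup.subgroupOfEquivOfLe inf_le_left).toEquiv, hO] at h
  omega

include hQ in
theorem card_simGroup [Fintype F] (h2 : (2 : F) ≠ 0) :
    Nat.card (simGroup Q) = Nat.gcd (Fintype.card F - 1) 3 * (Fintype.card F * (Fintype.card F ^ 2 - 1)) := by
  classical
  obtain ⟨v₀, hv₀⟩ := exists_ne_zero hQ
  have huniq : ∀ {g : GL (Fin 3) F} {a b : Fˣ}, (∀ v, Q ((g : M3) *ᵥ v) = (a : F) * Q v) →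
      (∀ v, Q ((g : M3) *ᵥ v) = (b : F) * Q v) → a = b := fun ha hb =>
    Units.ext (mul_right_cancel₀ hv₀ ((ha v₀).symm.trans (hb v₀)))
  let μ : simGroup Q →* Fˣ :=
    { toFun := fun g => g.2.1.choose
      map_one' := huniq (g := 1) (one_mem (simGroup Q) : (1 : GL (Fin 3) F) ∈ simGroup Q).1.choose_spec
        (fun v => by simp)
      map_mul' := fun g g' => huniq (g * g').2.1.choose_spec (fun v => by
        calc Q (((g * g' : simGroup Q) : GL (Fin 3) F).val *ᵥ v)
            = Q (((g : GL (Fin 3) F) : M3) *ᵥ (((g' : GL (Fin 3) F) : M3) *ᵥ v)) := by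
              rw [Matrix.mulVec_mulVec]; rfl
          _ = _ := by rw [g.2.1.choose_spec, g'.2.1.choose_spec, Units.val_mul, mul_assoc]) }
  have hker : Nat.card μ.ker = Fintype.card F * (Fintype.card F ^ 2 - 1) := by
    rw [← card_special_isometry hQ h2]
    refine Nat.card_eq_of_bijective (fun g : μ.ker =>
      (⟨((g : simGroup Q) : GL (Fin 3) F), mem_isometry.2 fun v => ?_, g.1.2.2⟩ :
        (Cfsg.isometryGroup F Q ⊓ specialLinear (Fin 3) F : Subgroup _))) ⟨?_, ?_⟩
    · have e := g.1.2.1.choose_spec v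
      rw [show g.1.2.1.choose = 1 from MonoidHom.mem_ker.1 g.2, Units.val_one, one_mul] at e
      exact e
    · intro a b e
      exact Subtype.ext (Subtype.ext (congrArg Subtype.val e :))
    · rintro ⟨g, hg, hs⟩
      have hsim : g ∈ simGroup Q := ⟨⟨1, fun v => by rw [mem_isometry.1 hg v, Units.val_one, one_mul]⟩, hs⟩
      exact ⟨⟨⟨g, hsim⟩, huniq hsim.1.choose_spec (fun v => by rw [mem_isometry.1 hg v, Units.val_one, one_mul])⟩, rfl⟩
  have hrange : μ.range = (powMonoidHom 3 : Fˣ →* Fˣ).ker := by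
    refine le_antisymm ?_ fun c hc => ?_
    · rintro _ ⟨g, rfl⟩
      refine MonoidHom.mem_ker.2 (Units.ext ?_)
      exact multiplier_cube hQ g.2.2 g.2.1.choose_spec
    · have hc3 : c ^ 3 = 1 := MonoidHom.mem_ker.1 hc
      set z : GL (Fin 3) F := Units.map (Matrix.scalar (Fin 3) : F →+* M3).toMonoidHom (c ^ 2)
      have hval : (z : M3) = ((c ^ 2 : Fˣ) : F) • (1 : M3) := by
        rw [Matrix.smul_one_eq_diagonal]
        rfl
      have hsim : ∀ v, Q ((z : M3) *ᵥ v) = (c : F) * Q v := fun v => by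
        rw [hval, Matrix.smul_mulVec, Matrix.one_mulVec, hQ.smul, ← Units.val_pow_eq_pow_val, ← pow_mul,
          show c ^ (2 * 2) = c by rw [show 2 * 2 = 3 + 1 by norm_num, pow_succ, hc3, one_mul]]
      have hz : z ∈ simGroup Q := ⟨⟨c, hsim⟩, mem_specialLinear (by
        rw [hval, Matrix.det_smul, Matrix.det_one, mul_one, Fintype.card_fin, ← Units.val_pow_eq_pow_val, ← pow_mul,
          mul_comm, pow_mul, hc3, one_pow, Units.val_one])⟩
      exact ⟨⟨z, hz⟩, huniq hz.1.choose_spec hsim⟩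
  have h := μ.ker.card_mul_index
  rw [Subgroup.index_ker, hker, hrange, IsCyclic.card_powMonoidHom_ker, Nat.card_units, Nat.card_eq_fintype_card] at h
  rw [← h, mul_comm]

/-- An element reversing a hyperplane. -/
theorem exists_neg_reflection (h2 : (2 : F) ≠ 0) {a : Fin 3 → F} (ha : Q a ≠ 0) (hQ : IsNondegenerateQuadraticForm Q) :
    ∃ g ∈ simGroup Q, ∀ x, (g : M3) *ᵥ x = (QuadraticMap.polar Q x a / Q a) • a - x := by
  obtain ⟨a1, s1, a2, s2⟩ := hQ.polar_bilinear
  set φ : Fin 3 → F := fun j => QuadraticMap.polar Q (Pi.single j 1) a / Q a with hφ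
  have hdot : ∀ x, φ ⬝ᵥ x = QuadraticMap.polar Q x a / Q a := fun x => by
    conv_rhs => rw [pi_eq_sum_univ' x]
    simp only [Fin.sum_univ_three, a1, s1, dotProduct, hφ]
    ring
  have haa : QuadraticMap.polar Q a a = 2 * Q a := by
    rw [QuadraticMap.polar, ← two_smul F a, hQ.smul]; ring
  set A : M3 := -(1 - Matrix.vecMulVec a φ) with hA
  have hmul : ∀ x, A *ᵥ x = (QuadraticMap.polar Q x a / Q a) • a - x := fun x => by
    rw [hA, Matrix.neg_mulVec, Matrix.sub_mulVec, Matrix.one_mulVec, Matrix.vecMulVec_mulVec, hdot, neg_sub,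
      op_smul_eq_smul]
  have hdet : A.det = 1 := by
    rw [hA, Matrix.det_neg, Fintype.card_fin, sub_eq_add_neg, ← Matrix.neg_vecMulVec, Matrix.vecMulVec_eq (Fin 1),
      Matrix.det_one_add_replicateCol_mul_replicateRow, dotProduct_neg, hdot, haa, mul_div_assoc, div_self ha]
    ring
  refine ⟨Matrix.GeneralLinearGroup.mkOfDetNeZero A (by rw [hdet]; exact one_ne_zero), ⟨⟨1, fun v => ?_⟩,
    mem_specialLinear hdet⟩, hmul⟩
  show Q (A *ᵥ v) = ((1 : Fˣ) : F) * Q v
  set t := QuadraticMap.polar Q v a / Q a with ht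
  have e : Q (t • a + (-1 : F) • v) =
      Q (t • a) + Q ((-1 : F) • v) + QuadraticMap.polar Q (t • a) ((-1 : F) • v) := by
    rw [QuadraticMap.polar]; ring
  rw [hmul, Units.val_one, one_mul, ← ht, sub_eq_add_neg, ← neg_one_smul F v, e, hQ.smul, hQ.smul, s1, s2,
    show QuadraticMap.polar Q a v = QuadraticMap.polar Q v a from QuadraticMap.polar_comm _ _ _,
    show QuadraticMap.polar Q v a = t * Q a by rw [ht, div_mul_cancel₀ _ ha]]
  ring

/-- Similarity groups of ternary forms are irreducible. -/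
theorem irreducible_sim (h2 : (2 : F) ≠ 0) (hQ : IsNondegenerateQuadraticForm Q) (W : Submodule F (Fin 3 → F))
    (hW : ∀ g ∈ simGroup Q, ∀ w ∈ W, (g : M3) *ᵥ w ∈ W) : W = ⊥ ∨ W = ⊤ := by
  by_cases h0 : W = ⊥
  · exact Or.inl h0
  obtain ⟨a1, s1, a2, s2⟩ := hQ.polar_bilinear
  have hrefl : ∀ a, Q a ≠ 0 → ∀ w ∈ W, QuadraticMap.polar Q w a ≠ 0 → a ∈ W := by
    intro a ha w hw hne
    obtain ⟨g, hg, hgx⟩ := exists_neg_reflection h2 ha hQ
    have h1 := W.add_mem (hW g hg w hw) hw
    rw [hgx, sub_add_cancel] at h1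
    have := W.smul_mem (QuadraticMap.polar Q w a / Q a)⁻¹ h1
    rwa [smul_smul, inv_mul_cancel₀ (div_ne_zero hne ha), one_smul] at this
  let B : LinearMap.BilinForm F (Fin 3 → F) := QuadraticMap.polarBilin (qForm hQ)
  haveI : Invertible (2 : F) := invertibleOfNonzero h2
  obtain ⟨e, he⟩ := LinearMap.BilinForm.exists_orthogonal_basis (B := B)
    (LinearMap.isSymm_def.2 fun x y => QuadraticMap.polar_comm _ x y)
  let e' : Module.Basis (Fin 3) F (Fin 3 → F) := e.reindex (finCongr (Module.finrank_fin_fun F))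
  have hortho : ∀ i j, i ≠ j → QuadraticMap.polar Q (e' i) (e' j) = 0 := fun i j hij => by
    simp only [e', Module.Basis.reindex_apply]
    exact he fun h => hij ((Equiv.injective _) h)
  have hne : ∀ i, Q (e' i) ≠ 0 := fun i hz => by
    obtain ⟨x, hx⟩ := (hQ.nondegenerate (e' i) (e'.ne_zero i)).2
    refine hx ?_
    have key : ∀ x, B (e' i) x = 0 := fun x => by
      have : B (e' i) = 0 := e'.ext fun j => by
        by_cases hij : i = j
        · subst hij
          show QuadraticMap.polar Q (e' i) (e' i) = 0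
          rw [QuadraticMap.polar, ← two_smul F (e' i), hQ.smul, hz]; ring
        · exact hortho i j hij
      rw [this, LinearMap.zero_apply]
    exact key x
  have hself : ∀ i, QuadraticMap.polar Q (e' i) (e' i) ≠ 0 := fun i hz => by
    rw [QuadraticMap.polar, ← two_smul F (e' i), hQ.smul] at hz
    exact mul_ne_zero h2 (hne i) (by linear_combination hz)
  obtain ⟨w, hw, hw0⟩ := W.ne_bot_iff.1 h0
  obtain ⟨i, hi⟩ : ∃ i, QuadraticMap.polar Q w (e' i) ≠ 0 := by
    by_contra! hall
    obtain ⟨x, hx⟩ := (hQ.nondegenerate w hw0).2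
    refine hx ?_
    have : B w = 0 := e'.ext fun j => hall j
    exact (congrArg (fun f => f x) this :)
  have hei : e' i ∈ W := hrefl _ (hne i) w hw hi
  have hall : ∀ j, e' j ∈ W := by
    intro j
    by_cases hji : j = i
    · exact hji ▸ hei
    obtain ⟨k, hki, hkj⟩ : ∃ k, k ≠ i ∧ k ≠ j :=
      ⟨-(i + j), by revert hji; fin_cases i <;> fin_cases j <;> decide,
        by revert hji; fin_cases i <;> fin_cases j <;> decide⟩
    have hsum : ∀ x y, QuadraticMap.polar Q x y = 0 → Q (x + y) = Q x + Q y := fun x y h => by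
      rw [QuadraticMap.polar] at h; linear_combination h
    obtain ⟨a, haQ, hai, haj⟩ : ∃ a, Q a ≠ 0 ∧ QuadraticMap.polar Q (e' i) a ≠ 0 ∧
        QuadraticMap.polar Q a (e' j) ≠ 0 := by
      by_cases hq : Q (e' i) + Q (e' j) = 0
      · refine ⟨e' i + e' j + e' k, ?_, ?_, ?_⟩
        · rw [hsum _ _ (by rw [a1, hortho _ _ hki.symm, hortho _ _ hkj.symm, add_zero]),
            hsum _ _ (hortho _ _ (Ne.symm hji)), hq, zero_add]
          exact hne k
        · rw [a2, a2, hortho _ _ (Ne.symm hji), hortho _ _ hki.symm, add_zero, add_zero]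
          exact hself i
        · rw [a1, a1, hortho _ _ (Ne.symm hji), hortho _ _ hkj, zero_add, add_zero]
          exact hself j
      · refine ⟨e' i + e' j, ?_, ?_, ?_⟩
        · rwa [hsum _ _ (hortho _ _ (Ne.symm hji))]
        · rw [a2, hortho _ _ (Ne.symm hji), add_zero]
          exact hself i
        · rw [a1, hortho _ _ (Ne.symm hji), zero_add]
          exact hself j
    have haW := hrefl a haQ _ hei hai
    exact hrefl _ (hne j) a haW haj
  refine Or.inr (eq_top_iff.2 ?_)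
  rw [← e'.span_eq, Submodule.span_le]
  rintro _ ⟨j, rfl⟩
  exact hall j

/-- A similarity group of a ternary form has no elementary transvection of a subfield structure. -/
theorem not_sub_le_sim (h2 : (2 : F) ≠ 0) (hQ : IsNondegenerateQuadraticForm Q) (F₀ : Subfield F)
    (P : GL (Fin 3) F) : ¬ subGroup F₀ P ≤ simGroup Q := by
  intro hle
  obtain ⟨a1, s1, a2, s2⟩ := hQ.polar_bilinear
  have h01 : (0 : Fin 3) ≠ 1 := by decide
  obtain ⟨c, hc⟩ := (hle (elem_mem F₀ P h01)).1
  set G : (Fin 3 → F) → (Fin 3 → F) → F := fun u v => QuadraticMap.polar Q ((P : M3) *ᵥ u) ((P : M3) *ᵥ v) with hG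
  have hnd : ∀ v : Fin 3 → F, (∀ w ∈ Set.range fun i : Fin 3 => (Pi.single i 1 : Fin 3 → F), G v w = 0) → v = 0 := by
    intro v hv
    by_contra h0
    obtain ⟨x, hx⟩ := (hQ.nondegenerate ((P : M3) *ᵥ v) (CfsgLib.Geo.Asch.mulVec_ne_zero P h0)).2
    refine hx ?_
    have hxe : x = (P : M3) *ᵥ (((P⁻¹ : GL (Fin 3) F) : M3) *ᵥ x) := by
      rw [Matrix.mulVec_mulVec, Units.mul_inv, Matrix.one_mulVec]
    rw [hxe, pi_eq_sum_univ' (((P⁻¹ : GL (Fin 3) F) : M3) *ᵥ x)]
    simp only [Fin.sum_univ_three, Matrix.mulVec_add, Matrix.mulVec_smul, a2, s2]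
    have hs : ∀ l, QuadraticMap.polar Q ((P : M3) *ᵥ v) ((P : M3) *ᵥ Pi.single l 1) = 0 := fun l => hv _ ⟨l, rfl⟩
    rw [hs, hs, hs]
    ring
  obtain ⟨h0, hk, hsym⟩ := transvection_form (G := G) (fun x y z => by simp only [hG, Matrix.mulVec_add, a1])
    (fun x y z => by simp only [hG, Matrix.mulVec_add, a2]) hnd h01 (show (0 : Fin 3) ≠ 2 by decide)
    (show (1 : Fin 3) ≠ 2 by decide) (c := (c : F)) (fun u v => by
      simp only [hG, ← elem_mulVec P h01]
      simp only [QuadraticMap.polar, ← Matrix.mulVec_add, hc]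
      ring)
  have hz : (Pi.single 0 1 : Fin 3 → F) = 0 := hnd _ (by
    rintro _ ⟨l, rfl⟩
    rw [show G (Pi.single 1 1) (Pi.single 0 1) = G (Pi.single 0 1) (Pi.single 1 1) from QuadraticMap.polar_comm _ _ _]
      at hsym
    fin_cases l
    · exact h0
    · exact (mul_eq_zero.1 (show (2 : F) * G (Pi.single 0 1) (Pi.single 1 1) = 0 by linear_combination hsym)).resolve_left h2
    · exact hk)
  exact one_ne_zero (α := F) (by simpa using congrFun hz 0)

end CfsgLib.Geo.SL3.Maximal
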