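/-
Subfield subgroups of SU(3): orders and independence of the rational structure.
-/
import Cfsg.Agent.Lib.Geo.SL3.Maximal.UnitaryPoints
import Cfsg.Agent.Lib.Geo.SL3.Maximal.QuadOrder

set_option autoImplicit false

namespace CfsgLib.Geo.SL3.Maximal

open Matrix Cfsg.Geo
open CfsgLib.Geo.Asch (IsQPow SUg)

variable {F : Type*} [Field F] [Fintype F] {σ : F ≃+* F} {q : ℕ}

local notation "M3" => Matrix (Fin 3) (Fin 3) F
local notation "hf" => Cfsg.hermForm 3 F q

theorem gram_of_mem_GU {K : Type*} [Field K] {τ : K ≃+* K} {t : ℕ} (hq : IsQPow τ t) {g : GL (Fin 3) K}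
    (hg : g ∈ Cfsg.GU 3 K t) :
    (g : Matrix (Fin 3) (Fin 3) K)ᵀ * (g : Matrix (Fin 3) (Fin 3) K).map τ = 1 := by
  ext i j
  have h : Cfsg.hermForm 3 K t ((g : Matrix (Fin 3) (Fin 3) K) *ᵥ Pi.single i 1)
      ((g : Matrix (Fin 3) (Fin 3) K) *ᵥ Pi.single j 1) =
      Cfsg.hermForm 3 K t (Pi.single i 1) (Pi.single j 1) := hg _ _
  simp only [CfsgLib.Geo.Asch.hermForm_eq hq, Matrix.mulVec_single_one, Matrix.col_apply] at h
  rw [Matrix.mul_apply, Matrix.one_apply]
  simpa [Matrix.transpose_apply, Matrix.map_apply, Pi.single_apply, eq_comm] using h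

theorem mem_GU_of_basis (hq : IsQPow σ q) {g P : GL (Fin 3) F}
    (h : ∀ i j, hf ((g : M3) *ᵥ ((P : M3) *ᵥ Pi.single i 1)) ((g : M3) *ᵥ ((P : M3) *ᵥ Pi.single j 1)) =
      hf ((P : M3) *ᵥ Pi.single i 1) ((P : M3) *ᵥ Pi.single j 1)) : g ∈ Cfsg.GU 3 F q := by
  have hs := CfsgLib.Geo.Asch.isSesqForm_of_unitary (CfsgLib.Geo.Asch.isUnitaryForm_hermForm (n := 3) hq)
  refine mem_GU_iff.2 fun u v => ?_
  have e : ∀ x : Fin 3 → F, ∃ a b c : F, x = a • ((P : M3) *ᵥ Pi.single 0 1) + b • ((P : M3) *ᵥ Pi.single 1 1) +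
      c • ((P : M3) *ᵥ Pi.single 2 1) := fun x => by
    refine ⟨(((P⁻¹ : GL (Fin 3) F) : M3) *ᵥ x) 0, (((P⁻¹ : GL (Fin 3) F) : M3) *ᵥ x) 1,
      (((P⁻¹ : GL (Fin 3) F) : M3) *ᵥ x) 2, ?_⟩
    rw [← Matrix.mulVec_smul, ← Matrix.mulVec_smul, ← Matrix.mulVec_smul, ← Matrix.mulVec_add, ← Matrix.mulVec_add]
    have hx : ∀ y : Fin 3 → F, y 0 • (Pi.single 0 1 : Fin 3 → F) + y 1 • Pi.single 1 1 + y 2 • Pi.single 2 1 = y :=
      fun y => by funext i; fin_cases i <;> simp
    rw [hx, Matrix.mulVec_mulVec, Units.mul_inv, Matrix.one_mulVec]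
  obtain ⟨a, b, c, rfl⟩ := e u
  obtain ⟨a', b', c', rfl⟩ := e v
  simp only [Matrix.mulVec_add, Matrix.mulVec_smul, hs.add_left, hs.add_right, hs.smul_left, hs.smul_right, h]

/-- The field of odd index is the square of a root of `q`. -/
theorem sub_sqrt (hF : Fintype.card F = q ^ 2) {F₀ : Subfield F} {r : ℕ} (hro : Odd r)
    (hc : Fintype.card F = Nat.card F₀ ^ r) : ∃ t, 2 ≤ t ∧ Nat.card F₀ = t ^ 2 ∧ q = t ^ r := by
  obtain ⟨k, rfl⟩ := hro
  have hs : 2 ≤ Nat.card F₀ := Finite.one_lt_card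
  have he : q ^ 2 = (Nat.card F₀ ^ k) ^ 2 * Nat.card F₀ := by
    rw [← hF, hc]; ring
  obtain ⟨t, ht⟩ : Nat.card F₀ ^ k ∣ q :=
    (Nat.pow_dvd_pow_iff two_ne_zero).1 ⟨Nat.card F₀, he⟩
  have ht2 : Nat.card F₀ = t ^ 2 := by
    refine Nat.eq_of_mul_eq_mul_left (show 0 < (Nat.card F₀ ^ k) ^ 2 by positivity) (he.symm.trans ?_)
    rw [ht, mul_pow]
  refine ⟨t, ?_, ht2, ?_⟩
  · by_contra hlt
    interval_cases t <;> simp [ht2] at hs
  · rw [ht, ht2]; ring

omit [Fintype F] in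
theorem sigma_sub [Finite F] (hq : IsQPow σ q) {F₀ : Subfield F} {σ₀ : F₀ ≃+* F₀} {t r : ℕ} (hσ₀ : IsQPow σ₀ t)
    (ht : Nat.card F₀ = t ^ 2) (hro : Odd r) (hqt : q = t ^ r) (x : F₀) : σ (x : F) = ((σ₀ x : F₀) : F) := by
  obtain ⟨k, rfl⟩ := hro
  rw [hq.eq_pow, hσ₀.eq_pow, SubmonoidClass.coe_pow, hqt]
  have hx : (x : F) ^ t ^ 2 = x := ht ▸ CfsgLib.Classical.Dickson.mem_subfield_iff_pow.1 x.2
  clear hσ₀ hqt
  induction k with
  | zero => simp
  | succ k ih =>
    rw [show 2 * (k + 1) + 1 = 2 + (2 * k + 1) by ring, pow_add t 2, pow_mul, hx, ih]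

theorem subfieldSubgroup_mul (F₀ : Subfield F) (P : GL (Fin 3) F) (C : GL (Fin 3) F₀) :
    subfieldSubgroup F₀ (P * Matrix.GeneralLinearGroup.map (F₀.subtype : F₀ →+* F) C) = subfieldSubgroup F₀ P := by
  have hC : ∀ (D : GL (Fin 3) F₀), ((Matrix.GeneralLinearGroup.map (F₀.subtype : F₀ →+* F) D : GL (Fin 3) F) : M3) =
      (D : Matrix (Fin 3) (Fin 3) F₀).map F₀.subtype := fun D => rfl
  ext g
  rw [mem_subfieldSubgroup_iff, mem_subfieldSubgroup_iff]
  set M := Matrix.GeneralLinearGroup.map (F₀.subtype : F₀ →+* F) C with hM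
  constructor
  · rintro ⟨A, c, h⟩
    refine ⟨C * A * C⁻¹, c, ?_⟩
    rw [show P⁻¹ * g * P = M * ((P * M)⁻¹ * g * (P * M)) * M⁻¹ by group, Units.val_mul, Units.val_mul, h,
      mul_smul_comm, smul_mul_assoc, hM, ← map_inv, hC, hC, ← Matrix.map_mul, ← Matrix.map_mul]
    rfl
  · rintro ⟨A, c, h⟩
    refine ⟨C⁻¹ * A * C, c, ?_⟩
    rw [show (P * M)⁻¹ * g * (P * M) = M⁻¹ * (P⁻¹ * g * P) * M by group, Units.val_mul, Units.val_mul, h,
      mul_smul_comm, smul_mul_assoc, hM, ← map_inv, hC, hC, ← Matrix.map_mul, ← Matrix.map_mul]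
    rfl

/-- A rational structure of odd index has a unitary frame. -/
theorem exists_frame_sub (hq : IsQPow σ q) (hF : Fintype.card F = q ^ 2) {F₀ : Subfield F} {r : ℕ} (hro : Odd r)
    (hc : Fintype.card F = Nat.card F₀ ^ r) {P : GL (Fin 3) F}
    (hrat : IsFormRationalStructure hf F₀ 1 P) :
    ∃ B ∈ Cfsg.GU 3 F q, subfieldSubgroup F₀ P = subfieldSubgroup F₀ B := by
  classical
  obtain ⟨t, ht2, hts, hqt⟩ := sub_sqrt hF hro hc
  haveI := Fintype.ofFinite F₀
  obtain ⟨σ₀, hσ₀⟩ := CfsgLib.Geo.Asch.exists_isQPow (F := F₀) (q := t) (by rw [← Nat.card_eq_fintype_card, hts])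
  have hfu := CfsgLib.Geo.Asch.isUnitaryForm_hermForm (n := 3) hq
  have hs := CfsgLib.Geo.Asch.isSesqForm_of_unitary hfu
  have hmem : ∀ u v : Fin 3 → F₀,
      hf ((P : M3) *ᵥ fun i => (u i : F)) ((P : M3) *ᵥ fun i => (v i : F)) ∈ F₀ := fun u v => by
    have := hrat (fun i => (u i : F)) (fun i => (v i : F)) (fun i => (u i).2) (fun i => (v i).2)
    rwa [one_mul] at this
  let G : (Fin 3 → F₀) → (Fin 3 → F₀) → F₀ := fun u v => ⟨_, hmem u v⟩
  have hl : ∀ (u v : Fin 3 → F₀), (fun i => (((u + v) i : F₀) : F)) = (fun i => (u i : F)) + fun i => (v i : F) :=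
    fun u v => rfl
  have hl' : ∀ (c : F₀) (u : Fin 3 → F₀), (fun i => (((c • u) i : F₀) : F)) = (c : F) • fun i => (u i : F) :=
    fun c u => rfl
  have hG : IsUnitaryForm σ₀ G :=
    { ne_refl := fun e => by
        obtain ⟨x, hx⟩ := hσ₀.moved
        exact hx (by rw [e]; rfl)
      involutive := hσ₀.involutive
      add_left := fun x y v => Subtype.ext (by
        show hf ((P : M3) *ᵥ fun i => (((x + y) i : F₀) : F)) _ = hf _ _ + hf _ _
        rw [hl, Matrix.mulVec_add, hs.add_left])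
      smul_left := fun c x v => Subtype.ext (by
        show hf ((P : M3) *ᵥ fun i => (((c • x) i : F₀) : F)) _ = (c : F) * hf _ _
        rw [hl', Matrix.mulVec_smul, hs.smul_left])
      herm := fun v w => Subtype.ext (by
        rw [← sigma_sub hq hσ₀ hts hro hqt]
        exact hfu.herm _ _)
      nondegenerate := fun v hv => by
        have hv' : (P : M3) *ᵥ (fun i => (v i : F)) ≠ 0 := CfsgLib.Geo.Asch.mulVec_ne_zero P fun e =>
          hv (funext fun i => Subtype.ext (congrFun e i))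
        have key : ∃ x, G x v ≠ 0 := by
          by_contra! hall
          obtain ⟨y, hy⟩ := (hfu.nondegenerate _ hv').1
          have h1 : ∀ i, hf ((P : M3) *ᵥ Pi.single i 1) ((P : M3) *ᵥ fun i => (v i : F)) = 0 := fun i => by
            have e := congrArg Subtype.val (hall (Pi.single i 1))
            have e2 : (fun j => (((Pi.single i 1 : Fin 3 → F₀) j : F₀) : F)) = Pi.single i 1 := by
              funext j
              rw [Pi.single_apply, Pi.single_apply]
              split_ifs <;> simp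
            change hf ((P : M3) *ᵥ fun j => (((Pi.single i 1 : Fin 3 → F₀) j : F₀) : F)) _ = 0 at e
            rwa [e2] at e
          refine hy ?_
          rw [show y = (P : M3) *ᵥ (((P⁻¹ : GL (Fin 3) F) : M3) *ᵥ y) by
            rw [Matrix.mulVec_mulVec, Units.mul_inv, Matrix.one_mulVec], pi_eq_sum_univ' (((P⁻¹ : GL (Fin 3) F) : M3) *ᵥ y)]
          simp only [Fin.sum_univ_three, Matrix.mulVec_add, Matrix.mulVec_smul, hs.add_left, hs.smul_left, h1]
          ring
        obtain ⟨x, hx⟩ := key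
        refine ⟨⟨x, hx⟩, ⟨x, fun e => hx (Subtype.ext ?_)⟩⟩
        show hf _ _ = ((0 : F₀) : F)
        rw [hfu.herm]
        have := congrArg Subtype.val e
        change hf _ _ = ((0 : F₀) : F) at this
        rw [this, ZeroMemClass.coe_zero, map_zero] }
  obtain ⟨C, hC⟩ := exists_frame hG hσ₀
  refine ⟨P * Matrix.GeneralLinearGroup.map (F₀.subtype : F₀ →+* F) C, ?_, (subfieldSubgroup_mul F₀ P C).symm⟩
  have hid : ∀ i j, hf ((P : M3) *ᵥ (((Matrix.GeneralLinearGroup.map (F₀.subtype : F₀ →+* F) C : GL (Fin 3) F) : M3) *ᵥ Pi.single i 1))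
      ((P : M3) *ᵥ (((Matrix.GeneralLinearGroup.map (F₀.subtype : F₀ →+* F) C : GL (Fin 3) F) : M3) *ᵥ Pi.single j 1)) =
      hf (Pi.single i 1) (Pi.single j 1) := by
    intro i j
    have e := congrArg Subtype.val (hC (Pi.single i 1) (Pi.single j 1))
    have e2 : ∀ k, ((Matrix.GeneralLinearGroup.map (F₀.subtype : F₀ →+* F) C : GL (Fin 3) F) : M3) *ᵥ Pi.single k 1 =
        fun l => (((C : Matrix (Fin 3) (Fin 3) F₀) *ᵥ Pi.single k 1) l : F) := fun k => by
      funext l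
      simp
    rw [e2, e2]
    refine e.trans ?_
    rw [CfsgLib.Geo.Asch.hermForm_eq hσ₀, CfsgLib.Geo.Asch.hermForm_eq hq, Fin.sum_univ_three, Fin.sum_univ_three]
    fin_cases i <;> fin_cases j <;> simp
  refine CfsgLib.Geo.Asch.mem_GU_of_mul hq ?_
  ext i j
  have h := hid i j
  rw [Matrix.mulVec_mulVec, Matrix.mulVec_mulVec, ← Units.val_mul] at h
  simp only [CfsgLib.Geo.Asch.hermForm_eq hq, Matrix.mulVec_single_one,
    Matrix.col_apply] at h
  rw [Matrix.mul_apply, Matrix.one_apply]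
  simpa [Matrix.transpose_apply, Matrix.map_apply, Pi.single_apply, eq_comm] using h

theorem conj_mem_SUg {B : GL (Fin 3) F} (hB : B ∈ Cfsg.GU 3 F q) (g : GL (Fin 3) F) :
    B * g * B⁻¹ ∈ SUg 3 F q ↔ g ∈ SUg 3 F q := by
  have hd : B * g * B⁻¹ ∈ specialLinear (Fin 3) F ↔ g ∈ specialLinear (Fin 3) F := by
    rw [Cfsg.Geo.specialLinear, MonoidHom.mem_ker, MonoidHom.mem_ker, map_mul, map_mul, map_inv,
      mul_inv_cancel_comm]
  constructor
  · rintro ⟨h, hS⟩
    refine ⟨?_, hd.1 hS⟩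
    have := (Cfsg.GU 3 F q).mul_mem ((Cfsg.GU 3 F q).mul_mem ((Cfsg.GU 3 F q).inv_mem hB) h) hB
    rwa [show B⁻¹ * (B * g * B⁻¹) * B = g by group] at this
  · rintro ⟨h, hS⟩
    exact ⟨(Cfsg.GU 3 F q).mul_mem ((Cfsg.GU 3 F q).mul_mem hB h) ((Cfsg.GU 3 F q).inv_mem hB), hd.2 hS⟩

theorem sub_eq_map {B : GL (Fin 3) F} (hB : B ∈ Cfsg.GU 3 F q) (F₀ : Subfield F) :
    subfieldSubgroup F₀ B ⊓ SUg 3 F q = (subfieldSubgroup F₀ 1 ⊓ SUg 3 F q).map (MulAut.conj B).toMonoidHom := by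
  ext g
  rw [Subgroup.mem_map]
  constructor
  · rintro ⟨hg, hU⟩
    obtain ⟨A, c, hc⟩ := mem_subfieldSubgroup_iff.1 hg
    refine ⟨B⁻¹ * g * B, ⟨mem_subfieldSubgroup_iff.2 ⟨A, c, by simpa using hc⟩, (conj_mem_SUg hB _).1 ?_⟩, ?_⟩
    · rwa [show B * (B⁻¹ * g * B) * B⁻¹ = g by group]
    · simp only [MulEquiv.coe_toMonoidHom, MulAut.conj_apply]; group
  · rintro ⟨x, ⟨hx, hU⟩, rfl⟩
    obtain ⟨A, c, hc⟩ := mem_subfieldSubgroup_iff.1 hx
    simp only [MulEquiv.coe_toMonoidHom, MulAut.conj_apply]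
    refine ⟨mem_subfieldSubgroup_iff.2 ⟨A, c, ?_⟩, (conj_mem_SUg hB x).2 hU⟩
    rw [show B⁻¹ * (B * x * B⁻¹) * B = x by group]
    simpa using hc

/-- The standard subfield group of odd index. -/
theorem card_sub_std (hq : IsQPow σ q) {F₀ : Subfield F} {t r : ℕ} (hro : Odd r)
    (hts : Nat.card F₀ = t ^ 2) (hqt : q = t ^ r) :
    Arith.ordSU t ∣ Nat.card (subfieldSubgroup F₀ (1 : GL (Fin 3) F) ⊓ SUg 3 F q : Subgroup _) ∧
      Nat.card (subfieldSubgroup F₀ (1 : GL (Fin 3) F) ⊓ SUg 3 F q : Subgroup _) ∣ 3 * Arith.ordSU t := by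
  classical
  haveI := Fintype.ofFinite F₀
  have hF₀ : Fintype.card F₀ = t ^ 2 := by rw [← Nat.card_eq_fintype_card, hts]
  obtain ⟨σ₀, hσ₀⟩ := CfsgLib.Geo.Asch.exists_isQPow (F := F₀) (q := t) hF₀
  have hσ := sigma_sub hq hσ₀ hts hro hqt
  set H : Subgroup (GL (Fin 3) F) := subfieldSubgroup F₀ (1 : GL (Fin 3) F) ⊓ SUg 3 F q
  set ι := Matrix.GeneralLinearGroup.map (n := Fin 3) (F₀.subtype : F₀ →+* F)
  have hι : ∀ A : GL (Fin 3) F₀, (ι A : M3) = (A : Matrix (Fin 3) (Fin 3) F₀).map F₀.subtype := fun A => rfl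
  have hinj : Function.Injective ι := fun A B e => Units.ext
    (Matrix.map_injective F₀.subtype.injective (congrArg Units.val e :))
  have hgram : ∀ A : Matrix (Fin 3) (Fin 3) F₀,
      (A.map F₀.subtype)ᵀ * (A.map F₀.subtype).map σ = (Aᵀ * A.map σ₀).map F₀.subtype := fun A => by
    rw [Matrix.map_mul]
    congr 1
    ext i j
    exact hσ (A i j)
  have hiff : ∀ A : GL (Fin 3) F₀, ι A ∈ SUg 3 F q ↔ A ∈ SUg 3 F₀ t := by
    intro A
    have hdet : (ι A : M3).det = F₀.subtype (A : Matrix (Fin 3) (Fin 3) F₀).det := by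
      rw [hι, RingHom.map_det]; rfl
    constructor
    · rintro ⟨hU, hS⟩
      refine ⟨CfsgLib.Geo.Asch.mem_GU_of_mul hσ₀ (Matrix.map_injective F₀.subtype.injective ?_), mem_specialLinear ?_⟩
      · dsimp only
        rw [← hgram, ← hι, gram_of_mem_GU hq hU, Matrix.map_one _ (map_zero _) (map_one _)]
      · exact F₀.subtype.injective (by rw [← hdet, det_one_of_mem hS, map_one])
    · rintro ⟨hU, hS⟩
      refine ⟨CfsgLib.Geo.Asch.mem_GU_of_mul hq ?_, mem_specialLinear ?_⟩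
      · rw [hι, hgram, gram_of_mem_GU hσ₀ hU, Matrix.map_one _ (map_zero _) (map_one _)]
      · rw [hdet, det_one_of_mem hS, map_one]
  have hle : H ≤ subGroup F₀ 1 := fun g hg => ⟨hg.1, hg.2.2⟩
  refine ⟨?_, ?_⟩
  · rw [← card_SUg hF₀]
    refine Subgroup.card_dvd_of_injective ({ toFun := fun A => ⟨ι A, mem_subfieldSubgroup_iff.2 ⟨A, 1, by simp [hι]⟩,
                                               (hiff A).2 A.2⟩
                                             map_one' := Subtype.ext (map_one ι)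
                                             map_mul' := fun A B => Subtype.ext (map_mul ι _ _) } :
      SUg 3 F₀ t →* H) fun A B e => Subtype.ext (hinj (congrArg Subtype.val e :))
  let φ := (scalClass F₀).comp (Subgroup.inclusion hle)
  have hrange : Nat.card φ.range ∣ 3 := by
    haveI : IsCyclic (Fˣ ⧸ (Units.map (F₀.subtype : F₀ →+* F).toMonoidHom).range) :=
      isCyclic_of_surjective (QuotientGroup.mk' _) (QuotientGroup.mk'_surjective _)
    rw [← IsCyclic.exponent_eq_card]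
    refine Monoid.exponent_dvd_of_forall_pow_eq_one fun x => Subtype.ext ?_
    obtain ⟨g', hg⟩ := x.2
    rw [SubgroupClass.coe_pow, ← hg, OneMemClass.coe_one]
    set g := Subgroup.inclusion hle g' with hgdef
    show (scalClass F₀ g) ^ 3 = 1
    obtain ⟨A, c, hA⟩ : ∃ (A : GL (Fin 3) F₀) (c : Fˣ), ((g : GL (Fin 3) F) : M3) =
        (c : F) • (A : Matrix (Fin 3) (Fin 3) F₀).map F₀.subtype ∧ scalClass F₀ g = (c : Fˣ ⧸ _) :=
      ⟨_, _, (exists_form g).choose_spec.choose_spec, rfl⟩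
    rw [hA.2, ← QuotientGroup.mk_pow, QuotientGroup.eq_one_iff]
    refine ⟨(Matrix.GeneralLinearGroup.det A)⁻¹, Units.ext ?_⟩
    have hd := det_one_of_mem g.2.2
    rw [hA.1, Matrix.det_smul, Fintype.card_fin, show (A : Matrix (Fin 3) (Fin 3) F₀).map F₀.subtype =
      F₀.subtype.mapMatrix (A : Matrix (Fin 3) (Fin 3) F₀) from rfl, ← RingHom.map_det] at hd
    show F₀.subtype ((((Matrix.GeneralLinearGroup.det A)⁻¹ : F₀ˣ)) : F₀) = (c : F) ^ 3
    rw [Units.val_inv_eq_inv_val, map_inv₀, Matrix.GeneralLinearGroup.val_det_apply]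
    exact (eq_inv_of_mul_eq_one_left hd).symm
  have hker : Nat.card φ.ker ∣ Arith.ordSU t := by
    rw [← card_SUg hF₀, Nat.card_congr ((SUg 3 F₀ t).equivMapOfInjective ι hinj).toEquiv]
    refine Subgroup.card_dvd_of_injective ({ toFun := fun g => ⟨((g : H) : GL (Fin 3) F), ?_⟩
                                             map_one' := rfl
                                             map_mul' := fun _ _ => rfl } : φ.ker →* (SUg 3 F₀ t).map ι)
      fun a b e => Subtype.ext (Subtype.ext (congrArg Subtype.val e :))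
    set g' := Subgroup.inclusion hle (g : H) with hg'
    have hval : ((g' : GL (Fin 3) F) : M3) = (((g : H) : GL (Fin 3) F) : M3) := rfl
    obtain ⟨A, hA⟩ : ∃ A : GL (Fin 3) F₀, ((g' : GL (Fin 3) F) : M3) =
        ((exists_form g').choose_spec.choose : F) • (A : Matrix (Fin 3) (Fin 3) F₀).map F₀.subtype :=
      ⟨_, (exists_form g').choose_spec.choose_spec⟩
    obtain ⟨s, hs⟩ := (QuotientGroup.eq_one_iff (exists_form g').choose_spec.choose).1
      (show scalClass F₀ g' = 1 from g.2)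
    rw [← hs, hval] at hA
    have hdet : ((s : F₀) • (A : Matrix (Fin 3) (Fin 3) F₀)).det ≠ 0 := by
      rw [Matrix.det_smul, ← Matrix.GeneralLinearGroup.val_det_apply]
      exact mul_ne_zero (pow_ne_zero _ s.ne_zero) (Units.ne_zero _)
    let A' : GL (Fin 3) F₀ := Matrix.GeneralLinearGroup.mkOfDetNeZero _ hdet
    have hA' : ι A' = ((g : H) : GL (Fin 3) F) := Units.ext (by
      rw [hι, hA]
      ext i j
      simp [A', Matrix.smul_apply])
    exact ⟨A', (hiff A').1 (hA' ▸ (g : H).2.2), hA'⟩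
  have h := φ.ker.card_mul_index
  rw [Subgroup.index_ker] at h
  rw [← h, mul_comm 3]
  exact Nat.mul_dvd_mul hker hrange

/-- The order of a subfield group of odd index. -/
theorem card_sub_odd (hq : IsQPow σ q) (hF : Fintype.card F = q ^ 2) {F₀ : Subfield F} {r : ℕ} (hro : Odd r)
    (hc : Fintype.card F = Nat.card F₀ ^ r) {P : GL (Fin 3) F} (hrat : IsFormRationalStructure hf F₀ 1 P) :
    Nat.card (subfieldSubgroup F₀ P ⊓ SUg 3 F q : Subgroup _) =
      Nat.card (subfieldSubgroup F₀ (1 : GL (Fin 3) F) ⊓ SUg 3 F q : Subgroup _) := by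
  obtain ⟨B, hB, e⟩ := exists_frame_sub hq hF hro hc hrat
  rw [e, sub_eq_map hB, Subgroup.card_map_of_injective (MulEquiv.injective _)]

/-- A subfield group of odd index is irreducible. -/
theorem irreducible_sub_odd (hq : IsQPow σ q) (hF : Fintype.card F = q ^ 2) {F₀ : Subfield F} {r : ℕ} (hro : Odd r)
    (hc : Fintype.card F = Nat.card F₀ ^ r) {P : GL (Fin 3) F} (hrat : IsFormRationalStructure hf F₀ 1 P)
    (W : Submodule F (Fin 3 → F))
    (hW : ∀ g ∈ subfieldSubgroup F₀ P ⊓ SUg 3 F q, ∀ w ∈ W, (g : M3) *ᵥ w ∈ W) : W = ⊥ ∨ W = ⊤ := by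
  classical
  obtain ⟨B, hB, e⟩ := exists_frame_sub hq hF hro hc hrat
  obtain ⟨t, ht2, hts, hqt⟩ := sub_sqrt hF hro hc
  haveI := Fintype.ofFinite F₀
  have hF₀ : Fintype.card F₀ = t ^ 2 := by rw [← Nat.card_eq_fintype_card, hts]
  obtain ⟨σ₀, hσ₀⟩ := CfsgLib.Geo.Asch.exists_isQPow (F := F₀) (q := t) hF₀
  have hσ := sigma_sub hq hσ₀ hts hro hqt
  set ν : F₀ˣ →* Fˣ := Units.map (F₀.subtype : F₀ →+* F).toMonoidHom with hν
  have hνinj : Function.Injective ν := fun a b h => Units.ext (F₀.subtype.injective (congrArg Units.val h))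
  have hμ : ∃ a ∈ (normOne F₀ t).map ν, a * a ≠ (1 : Fˣ) := by
    by_contra! hall
    have h1 : Nat.card (normOne F₀ t) ∣ 2 := by
      rw [← IsCyclic.exponent_eq_card]
      refine Monoid.exponent_dvd_of_forall_pow_eq_one fun a => Subtype.ext (hνinj ?_)
      rw [SubgroupClass.coe_pow, pow_two, map_mul, OneMemClass.coe_one, map_one]
      exact hall _ ⟨_, a.2, rfl⟩
    rw [card_normOne hF₀] at h1
    have := Nat.le_of_dvd (by norm_num) h1
    omega
  refine irreducible (B := B) hμ W fun g hg => hW g ?_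
  obtain ⟨⟨τ, c, hcμ, hg'⟩, hS⟩ := hg
  choose c₀ hc₀ hc₀' using fun j => Subgroup.mem_map.1 (hcμ j)
  refine ⟨?_, (monGroup_mem_GU hq hB hg').2 fun j => ?_, hS⟩
  · show g ∈ subfieldSubgroup F₀ P
    rw [e, mem_subfieldSubgroup_iff]
    have hd : (monMat τ fun j => (c₀ j : F₀)).det ≠ 0 := by
      rw [det_monMat]
      refine mul_ne_zero ?_ (mul_ne_zero (mul_ne_zero (c₀ 0).ne_zero (c₀ 1).ne_zero) (c₀ 2).ne_zero)
      rcases Int.units_eq_one_or (Equiv.Perm.sign τ) with h | h <;> simp [h]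
    refine ⟨Matrix.GeneralLinearGroup.mkOfDetNeZero _ hd, 1, ?_⟩
    rw [Units.val_mul, Units.val_mul, mul_assoc, hg', ← mul_assoc, Units.inv_mul, one_mul, Units.val_one, one_smul]
    ext i j
    show (if i = τ j then (c j : F) else 0) = F₀.subtype (if i = τ j then (c₀ j : F₀) else 0)
    rw [← hc₀' j]
    split_ifs <;> simp [ν]
  · rw [mem_normOne hq, ← hc₀' j]
    show ((c₀ j : F₀) : F) * σ ((c₀ j : F₀) : F) = 1
    rw [hσ, ← MulMemClass.coe_mul, (mem_normOne hσ₀).1 (hc₀ j), OneMemClass.coe_one]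

/-- The part of the scalars in a subfield group of index two. -/
def scalPart (F : Type*) [Field F] (q : ℕ) : Subgroup Fˣ := (powMonoidHom (Nat.gcd 3 (q + 1)) : Fˣ →* Fˣ).ker

theorem card_scalPart (hF : Fintype.card F = q ^ 2) : Nat.card (scalPart F q) = Nat.gcd 3 (q + 1) := by
  classical
  rw [scalPart, IsCyclic.card_powMonoidHom_ker, Nat.card_units, Nat.card_eq_fintype_card, hF,
    show q ^ 2 - 1 = (q + 1) * (q - 1) by rw [← Nat.sq_sub_sq, one_pow]]
  exact Nat.gcd_eq_right ((Nat.gcd_dvd_right _ _).trans (Dvd.intro _ rfl))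

omit [Fintype F] in
theorem mem_scalPart {c : Fˣ} : c ∈ scalPart F q ↔ c ^ 3 = 1 ∧ c ^ (q + 1) = 1 := by
  rw [scalPart, MonoidHom.mem_ker, powMonoidHom_apply]
  exact pow_gcd_eq_one

/-- A subfield group of index two. -/
theorem sub_two_data (hq : IsQPow σ q) (hF : Fintype.card F = q ^ 2) (hodd : Odd q) {F₀ : Subfield F}
    (hc : Fintype.card F = Nat.card F₀ ^ 2) {P : GL (Fin 3) F} (hrat : IsFormRationalStructure hf F₀ 1 P) :
    Nat.card (subfieldSubgroup F₀ P ⊓ SUg 3 F q : Subgroup _) = Nat.gcd 3 (q + 1) * (q * (q ^ 2 - 1)) ∧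
      ∀ W : Submodule F (Fin 3 → F), (∀ g ∈ subfieldSubgroup F₀ P ⊓ SUg 3 F q, ∀ w ∈ W, (g : M3) *ᵥ w ∈ W) →
        W = ⊥ ∨ W = ⊤ := by
  classical
  haveI := Fintype.ofFinite F₀
  have hcard : Nat.card F₀ = q := Nat.pow_left_injective two_ne_zero (hc.symm.trans hF)
  have hfix : ∀ x : F₀, σ (x : F) = x := fun x => by
    rw [hq.eq_pow, ← hcard]
    exact CfsgLib.Classical.Dickson.mem_subfield_iff_pow.1 x.2
  have hfix' : ∀ x : F, σ x = x → x ∈ F₀ := fun x hx => by
    rw [CfsgLib.Classical.Dickson.mem_subfield_iff_pow, hcard, ← hq.eq_pow, hx]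
  have h2 : (2 : F₀) ≠ 0 := by
    intro h
    haveI : CharP F₀ 2 := CharTwo.of_one_ne_zero_of_two_eq_zero one_ne_zero h
    obtain ⟨n, -, hn⟩ := FiniteField.card F₀ 2
    rw [← hcard, Nat.card_eq_fintype_card, hn] at hodd
    exact Nat.not_even_iff_odd.2 hodd (Nat.even_pow.2 ⟨even_two, n.pos.ne'⟩)
  have hfu := CfsgLib.Geo.Asch.isUnitaryForm_hermForm (n := 3) hq
  have hs := CfsgLib.Geo.Asch.isSesqForm_of_unitary hfu
  set co : (Fin 3 → F₀) → (Fin 3 → F) := fun u i => (u i : F) with hco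
  have hmem : ∀ u v : Fin 3 → F₀, hf ((P : M3) *ᵥ co u) ((P : M3) *ᵥ co v) ∈ F₀ := fun u v => by
    have := hrat (co u) (co v) (fun i => (u i).2) (fun i => (v i).2)
    rwa [one_mul] at this
  set b : (Fin 3 → F₀) → (Fin 3 → F₀) → F := fun u v => hf ((P : M3) *ᵥ co u) ((P : M3) *ᵥ co v) with hb
  have hsym : ∀ u v, b u v = b v u := fun u v => by
    have := hfix ⟨_, hmem v u⟩
    exact (hfu.herm _ _).trans this
  have hadd : ∀ u v w, b (u + v) w = b u w + b v w := fun u v w => by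
    show hf ((P : M3) *ᵥ (co u + co v)) _ = _
    rw [Matrix.mulVec_add, hs.add_left]
  have hsmul : ∀ (k : F₀) u v, b (k • u) v = (k : F) * b u v := fun k u v => by
    show hf ((P : M3) *ᵥ ((k : F) • co u)) _ = _
    rw [Matrix.mulVec_smul, hs.smul_left]
  let Q : (Fin 3 → F₀) → F₀ := fun u => ⟨b u u, hmem u u⟩
  have hpolar : ∀ u v, ((QuadraticMap.polar Q u v : F₀) : F) = 2 * b u v := fun u v => by
    show ((Q (u + v) - Q u - Q v : F₀) : F) = _
    rw [AddSubgroupClass.coe_sub, AddSubgroupClass.coe_sub]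
    show b (u + v) (u + v) - b u u - b v v = _
    rw [hadd, hsym u (u + v), hsym v (u + v), hadd, hadd, hsym v u]
    ring
  have h2F : (2 : F) ≠ 0 := fun e => h2 (Subtype.ext e)
  have hQ : IsNondegenerateQuadraticForm Q :=
    { smul := fun k v => Subtype.ext (by
        show b (k • v) (k • v) = ((k ^ 2 * Q v : F₀) : F)
        rw [hsmul, hsym, hsmul, MulMemClass.coe_mul, SubmonoidClass.coe_pow]
        ring)
      polar_bilinear :=
        { add_left := fun x y v => Subtype.ext (by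
            rw [AddMemClass.coe_add, hpolar, hpolar, hpolar, hadd]; ring)
          smul_left := fun k x v => Subtype.ext (by
            rw [MulMemClass.coe_mul, hpolar, hpolar, hsmul]; ring)
          add_right := fun v x y => Subtype.ext (by
            rw [AddMemClass.coe_add, hpolar, hpolar, hpolar, hsym, hadd, hsym x v, hsym y v]; ring)
          smul_right := fun k v x => Subtype.ext (by
            rw [MulMemClass.coe_mul, hpolar, hpolar, hsym, hsmul, hsym x v]; ring) }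
      nondegenerate := fun v hv => by
        have hv' : (P : M3) *ᵥ co v ≠ 0 := CfsgLib.Geo.Asch.mulVec_ne_zero P fun e =>
          hv (funext fun i => Subtype.ext (congrFun e i))
        have key : ∃ i, b (Pi.single i 1) v ≠ 0 := by
          by_contra! hall
          obtain ⟨y, hy⟩ := (hfu.nondegenerate _ hv').1
          have h1 : ∀ i, hf ((P : M3) *ᵥ Pi.single i 1) ((P : M3) *ᵥ co v) = 0 := fun i => by
            have e2 : co (Pi.single i 1) = Pi.single i 1 := by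
              funext j
              simp only [hco, Pi.single_apply]
              split_ifs <;> simp
            have := hall i
            rwa [hb, ← e2] at *
          refine hy ?_
          rw [show y = (P : M3) *ᵥ (((P⁻¹ : GL (Fin 3) F) : M3) *ᵥ y) by
            rw [Matrix.mulVec_mulVec, Units.mul_inv, Matrix.one_mulVec], pi_eq_sum_univ' (((P⁻¹ : GL (Fin 3) F) : M3) *ᵥ y)]
          simp only [Fin.sum_univ_three, Matrix.mulVec_add, Matrix.mulVec_smul, hs.add_left, hs.smul_left, h1]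
          ring
        obtain ⟨i, hi⟩ := key
        have hne : ∀ u w, b u w ≠ 0 → QuadraticMap.polar Q u w ≠ 0 := fun u w h e => by
          have := hpolar u w
          rw [e, ZeroMemClass.coe_zero] at this
          exact mul_ne_zero h2F h this.symm
        exact ⟨⟨_, hne _ _ hi⟩, ⟨_, hne _ _ (hsym v _ ▸ hi)⟩⟩ }
  have hiso : ∀ A : GL (Fin 3) F₀, (∀ u, Q ((A : Matrix (Fin 3) (Fin 3) F₀) *ᵥ u) = Q u) →
      ∀ u v, b ((A : Matrix (Fin 3) (Fin 3) F₀) *ᵥ u) ((A : Matrix (Fin 3) (Fin 3) F₀) *ᵥ v) = b u v := fun A hA u v =>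
    mul_left_cancel₀ h2F (by
      rw [← hpolar, ← hpolar]
      simp only [QuadraticMap.polar, ← Matrix.mulVec_add, hA])
  have hmap : ∀ (A : Matrix (Fin 3) (Fin 3) F₀) (u : Fin 3 → F₀), (A.map F₀.subtype) *ᵥ co u = co (A *ᵥ u) := by
    intro A u
    funext i
    simp [hco, Matrix.mulVec, dotProduct]
  set ι := Matrix.GeneralLinearGroup.map (n := Fin 3) (F₀.subtype : F₀ →+* F)
  have hι : ∀ A : GL (Fin 3) F₀, (ι A : M3) = (A : Matrix (Fin 3) (Fin 3) F₀).map F₀.subtype := fun A => rfl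
  set sc : Fˣ →* GL (Fin 3) F := Units.map (Matrix.scalar (Fin 3) : F →+* M3).toMonoidHom
  have hsc : ∀ k : Fˣ, (sc k : M3) = (k : F) • (1 : M3) := fun k => by rw [Matrix.smul_one_eq_diagonal]; rfl
  let Φ : scalPart F q × (Cfsg.isometryGroup F₀ Q ⊓ specialLinear (Fin 3) F₀ : Subgroup _) → GL (Fin 3) F :=
    fun x => P * (sc x.1 * ι x.2) * P⁻¹
  have hΦ : ∀ x, ((P⁻¹ * Φ x * P : GL (Fin 3) F) : M3) =
      ((x.1 : Fˣ) : F) • ((x.2 : GL (Fin 3) F₀) : Matrix (Fin 3) (Fin 3) F₀).map F₀.subtype := fun x => by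
    rw [show P⁻¹ * Φ x * P = sc x.1 * ι x.2 by simp only [Φ]; group, Units.val_mul, hsc, hι, smul_mul_assoc, one_mul]
  have hσk : ∀ k : scalPart F q, ((k : Fˣ) : F) * σ ((k : Fˣ) : F) = 1 := fun k => by
    rw [hq.eq_pow, ← pow_succ', ← Units.val_pow_eq_pow_val, (mem_scalPart.1 k.2).2, Units.val_one]
  have hΦmem : ∀ x, Φ x ∈ subfieldSubgroup F₀ P ⊓ SUg 3 F q := by
    intro x
    refine ⟨mem_subfieldSubgroup_iff.2 ⟨_, _, hΦ x⟩, mem_GU_of_basis hq (P := P) fun i j => ?_, mem_specialLinear ?_⟩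
    · have e2 : ∀ i, co (Pi.single i 1) = Pi.single i 1 := fun i => by
        funext j
        simp only [hco, Pi.single_apply]
        split_ifs <;> simp
      have e3 : ∀ i, (Φ x : M3) *ᵥ ((P : M3) *ᵥ Pi.single i 1) =
          ((x.1 : Fˣ) : F) • ((P : M3) *ᵥ co (((x.2 : GL (Fin 3) F₀) : Matrix (Fin 3) (Fin 3) F₀) *ᵥ Pi.single i 1)) := by
        intro i
        rw [← hmap, e2, ← Matrix.mulVec_smul, ← Matrix.smul_mulVec, ← hΦ, Matrix.mulVec_mulVec, Matrix.mulVec_mulVec,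
          ← Units.val_mul, ← Units.val_mul, show P * (P⁻¹ * Φ x * P) = Φ x * P by group]
      rw [e3, e3, hs.smul_left, hs.smul_right, ← mul_assoc, hσk, one_mul, ← e2 i, ← e2 j]
      exact hiso _ (mem_isometry.1 x.2.2.1) _ _
    · have hd := congrArg Matrix.det (hΦ x)
      rw [Units.val_mul, Units.val_mul, Matrix.det_units_conj', Matrix.det_smul, Fintype.card_fin,
        show ((x.2 : GL (Fin 3) F₀) : Matrix (Fin 3) (Fin 3) F₀).map F₀.subtype =
          F₀.subtype.mapMatrix ((x.2 : GL (Fin 3) F₀) : Matrix (Fin 3) (Fin 3) F₀) from rfl, ← RingHom.map_det,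
        det_one_of_mem x.2.2.2, map_one, mul_one, ← Units.val_pow_eq_pow_val, (mem_scalPart.1 x.1.2).1] at hd
      simpa using hd
  have e : Nat.card (scalPart F q × (Cfsg.isometryGroup F₀ Q ⊓ specialLinear (Fin 3) F₀ : Subgroup _)) =
      Nat.card (subfieldSubgroup F₀ P ⊓ SUg 3 F q : Subgroup _) := by
    refine Nat.card_eq_of_bijective (fun x => ⟨Φ x, hΦmem x⟩) ⟨fun x y hxy => ?_, ?_⟩
    · have e1 : ((x.1 : Fˣ) : F) • ((x.2 : GL (Fin 3) F₀) : Matrix (Fin 3) (Fin 3) F₀).map F₀.subtype =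
          ((y.1 : Fˣ) : F) • ((y.2 : GL (Fin 3) F₀) : Matrix (Fin 3) (Fin 3) F₀).map F₀.subtype := by
        rw [← hΦ, ← hΦ, show Φ x = Φ y from congrArg Subtype.val hxy]
      obtain ⟨k, hk⟩ := scal_unique e1
      have hk' : ((k : F₀) : F) = ((((x.1 : Fˣ))⁻¹ * (y.1 : Fˣ) : Fˣ) : F) := congrArg Units.val hk
      have hm := mem_scalPart.1 ((scalPart F q).mul_mem ((scalPart F q).inv_mem x.1.2) y.1.2)
      have h3 : ((k : F₀) : F) ^ 3 = 1 := by rw [hk', ← Units.val_pow_eq_pow_val, hm.1, Units.val_one]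
      have h2' : ((k : F₀) : F) * ((k : F₀) : F) = 1 := by
        nth_rewrite 2 [← hfix (k : F₀)]
        rw [hk', hq.eq_pow, ← pow_succ', ← Units.val_pow_eq_pow_val, hm.2, Units.val_one]
      have hk1 : ((k : F₀) : F) = 1 := by linear_combination h3 - ((k : F₀) : F) * h2'
      have hc1 : (x.1 : Fˣ) = y.1 := inv_mul_eq_one.1 (Units.ext (by rw [← hk', hk1, Units.val_one]))
      refine Prod.ext (Subtype.ext hc1) (Subtype.ext (Units.ext (Matrix.map_injective F₀.subtype.injective ?_)))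
      rw [hc1] at e1
      exact smul_right_injective M3 (Units.ne_zero _) e1
    · rintro ⟨g, hg, hU, hS⟩
      obtain ⟨A, c, hA⟩ := mem_subfieldSubgroup_iff.1 hg
      have hgP : ∀ u, (g : M3) *ᵥ ((P : M3) *ᵥ co u) =
          (c : F) • ((P : M3) *ᵥ co ((A : Matrix (Fin 3) (Fin 3) F₀) *ᵥ u)) := fun u => by
        rw [← hmap, ← Matrix.mulVec_smul, ← Matrix.smul_mulVec, ← hA, Matrix.mulVec_mulVec, Matrix.mulVec_mulVec,
          ← Units.val_mul, ← Units.val_mul, show P * (P⁻¹ * g * P) = g * P by group]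
      set ν := (c : F) * σ (c : F) with hν
      have hν0 : ν ≠ 0 := mul_ne_zero c.ne_zero (by simp)
      have hνm : ν ∈ F₀ := hfix' _ (by rw [hν, map_mul, hq.involutive, mul_comm])
      have hmult : ∀ u, b ((A : Matrix (Fin 3) (Fin 3) F₀) *ᵥ u) ((A : Matrix (Fin 3) (Fin 3) F₀) *ᵥ u) * ν = b u u :=
        fun u => by
        have h := mem_GU_iff.1 hU ((P : M3) *ᵥ co u) ((P : M3) *ᵥ co u)
        rw [hgP, hs.smul_left, hs.smul_right] at h
        show _ = hf _ _
        rw [← h, hν, hb]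
        ring
      have hν1 : (⟨ν, hνm⟩ : F₀) ≠ 0 := fun e => hν0 (congrArg Subtype.val e)
      have hsq := det_sq hQ (g := A) (c := (⟨ν, hνm⟩ : F₀)⁻¹) (fun u => by
        refine (eq_inv_mul_iff_mul_eq₀ hν1).2 (Subtype.ext ?_)
        show ν * b _ _ = b u u
        rw [mul_comm]; exact hmult u)
      rw [inv_pow] at hsq
      have hdet := det_one_of_mem hS
      have hd := congrArg Matrix.det hA
      rw [Units.val_mul, Units.val_mul, Matrix.det_units_conj', hdet, Matrix.det_smul, Fintype.card_fin,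
        show (A : Matrix (Fin 3) (Fin 3) F₀).map F₀.subtype = F₀.subtype.mapMatrix (A : Matrix (Fin 3) (Fin 3) F₀)
          from rfl, ← RingHom.map_det, Subfield.coe_subtype] at hd
      set D := (A : Matrix (Fin 3) (Fin 3) F₀).det with hD
      have hD0 : D ≠ 0 := by rw [hD, ← Matrix.GeneralLinearGroup.val_det_apply]; exact Units.ne_zero _
      set ν₀ : F₀ := ⟨ν, hνm⟩ with hν₀
      set t : F₀ := ν₀ * D with ht
      have ht0 : t ≠ 0 := mul_ne_zero hν1 hD0
      have hkey : ν₀ ^ 3 * D ^ 2 = 1 := by rw [hsq, mul_inv_cancel₀ (pow_ne_zero _ hν1)]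
      have hkeyF : ν ^ 3 * (D : F) ^ 2 = 1 := by simpa [hν₀] using congrArg Subtype.val hkey
      have htt : ν₀ * t ^ 2 = 1 := by rw [ht, ← hkey]; ring
      let c' : Fˣ := c * Units.mk0 (t : F) (fun e => ht0 (Subtype.ext e))
      have hc' : c' ∈ scalPart F q := mem_scalPart.2 ⟨Units.ext (by
        rw [Units.val_pow_eq_pow_val, Units.val_mul, Units.val_mk0, Units.val_one, ht, MulMemClass.coe_mul,
          show ((ν₀ : F₀) : F) = ν from rfl]
        linear_combination ((c : F) ^ 3 * (D : F)) * hkeyF - hd), Units.ext (by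
        rw [Units.val_pow_eq_pow_val, Units.val_one, pow_succ', ← hq.eq_pow, Units.val_mul, Units.val_mk0, map_mul,
          hfix]
        have h1 : ν * (t : F) ^ 2 = 1 := by simpa [hν₀] using congrArg Subtype.val htt
        rw [hν] at h1
        linear_combination h1)⟩
      have hdA' : (t⁻¹ • (A : Matrix (Fin 3) (Fin 3) F₀)).det = 1 := by
        rw [Matrix.det_smul, Fintype.card_fin, inv_pow, inv_mul_eq_one₀ (pow_ne_zero _ ht0), ht, ← hD]
        linear_combination D * hkey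
      let A' : GL (Fin 3) F₀ := Matrix.GeneralLinearGroup.mkOfDetNeZero _ (by rw [hdA']; exact one_ne_zero)
      have hA' : A' ∈ Cfsg.isometryGroup F₀ Q ⊓ specialLinear (Fin 3) F₀ := by
        refine ⟨mem_isometry.2 fun u => ?_, mem_specialLinear hdA'⟩
        show Q ((t⁻¹ • (A : Matrix (Fin 3) (Fin 3) F₀)) *ᵥ u) = Q u
        rw [Matrix.smul_mulVec, hQ.smul, inv_pow, inv_mul_eq_iff_eq_mul₀ (pow_ne_zero _ ht0)]
        have h1 : ν₀ * Q ((A : Matrix (Fin 3) (Fin 3) F₀) *ᵥ u) = Q u := Subtype.ext (by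
          show ν * b _ _ = b u u
          rw [mul_comm]; exact hmult u)
        linear_combination t ^ 2 * h1 - Q ((A : Matrix (Fin 3) (Fin 3) F₀) *ᵥ u) * htt
      refine ⟨⟨⟨c', hc'⟩, ⟨A', hA'⟩⟩, Subtype.ext ?_⟩
      suffices h : P⁻¹ * Φ ⟨⟨c', hc'⟩, ⟨A', hA'⟩⟩ * P = P⁻¹ * g * P from mul_left_cancel (mul_right_cancel h)
      refine Units.ext ?_
      rw [hΦ, hA]
      show (c' : F) • (t⁻¹ • (A : Matrix (Fin 3) (Fin 3) F₀)).map F₀.subtype = _
      ext i j
      simp [c', Units.val_mul]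
      rw [mul_assoc, mul_inv_cancel_left₀ (fun e => ht0 (Subtype.ext e))]
  refine ⟨by rw [← e, Nat.card_prod, card_scalPart hF, card_special_isometry hQ h2, ← Nat.card_eq_fintype_card, hcard],
    fun W hW => ?_⟩
  -- irreducibility
  set W' : Submodule F (Fin 3 → F) := W.comap (Matrix.toLin' (P : M3)) with hW'
  have hinv : ∀ A ∈ Cfsg.isometryGroup F₀ Q ⊓ specialLinear (Fin 3) F₀, ∀ x ∈ W',
      (ι A : M3) *ᵥ x ∈ W' := by
    intro A hA x hx
    have h1 := hW _ (hΦmem (⟨1, one_mem _⟩, ⟨A, hA⟩)) _ hx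
    rw [show Φ (⟨1, one_mem _⟩, ⟨A, hA⟩) = P * ι A * P⁻¹ by simp [Φ], Matrix.toLin'_apply, Units.val_mul,
      Units.val_mul, Matrix.mulVec_mulVec, mul_assoc, Units.inv_mul, mul_one, ← Matrix.mulVec_mulVec] at h1
    exact h1
  obtain ⟨a1, s1, a2, s2⟩ := hQ.polar_bilinear
  haveI : Invertible (2 : F₀) := invertibleOfNonzero h2
  obtain ⟨e₀, he₀⟩ := LinearMap.BilinForm.exists_orthogonal_basis (B := QuadraticMap.polarBilin (qForm hQ))
    (LinearMap.isSymm_def.2 fun x y => QuadraticMap.polar_comm _ x y)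
  let e' : Module.Basis (Fin 3) F₀ (Fin 3 → F₀) := e₀.reindex (finCongr (Module.finrank_fin_fun F₀))
  have hortho : ∀ i j, i ≠ j → QuadraticMap.polar Q (e' i) (e' j) = 0 := fun i j hij => by
    simp only [e', Module.Basis.reindex_apply]
    exact he₀ fun h => hij ((Equiv.injective _) h)
  have hself : ∀ i, QuadraticMap.polar Q (e' i) (e' i) = 2 * Q (e' i) := fun i => by
    rw [QuadraticMap.polar, ← two_smul F₀ (e' i), hQ.smul]; ring
  have hne : ∀ i, Q (e' i) ≠ 0 := fun i hz => by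
    obtain ⟨x, hx⟩ := (hQ.nondegenerate (e' i) (e'.ne_zero i)).2
    refine hx ?_
    have : (QuadraticMap.polarBilin (qForm hQ)) (e' i) = 0 := e'.ext fun j => by
      by_cases hij : i = j
      · subst hij
        show QuadraticMap.polar Q (e' i) (e' i) = 0
        rw [hself, hz, mul_zero]
      · exact hortho i j hij
    exact (congrArg (fun f => f x) this :)
  by_cases h0 : W = ⊥
  · exact Or.inl h0
  -- a non-zero rational vector in the subspace
  obtain ⟨k, hk⟩ : ∃ k, co (e' k) ∈ W' := by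
    obtain ⟨w, hw, hw0⟩ := W.ne_bot_iff.1 h0
    set x := ((P⁻¹ : GL (Fin 3) F) : M3) *ᵥ w with hx
    have hxW : x ∈ W' := by
      rw [hW', Submodule.mem_comap, Matrix.toLin'_apply, hx, Matrix.mulVec_mulVec, Units.mul_inv, Matrix.one_mulVec]
      exact hw
    have hx0 : x ≠ 0 := CfsgLib.Geo.Asch.mulVec_ne_zero P⁻¹ hw0
    set E : Matrix (Fin 3) (Fin 3) F₀ := Matrix.of fun i j => e' j i with hE
    have hEu : IsUnit E := Matrix.linearIndependent_cols_iff_isUnit.1 e'.linearIndependent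
    set y := (E⁻¹.map F₀.subtype) *ᵥ x with hy
    have hxy : x = y 0 • co (e' 0) + y 1 • co (e' 1) + y 2 • co (e' 2) := by
      have h1 : (E.map F₀.subtype) *ᵥ y = x := by
        rw [hy, Matrix.mulVec_mulVec, ← Matrix.map_mul, Matrix.mul_nonsing_inv E ((Matrix.isUnit_iff_isUnit_det E).1 hEu),
          Matrix.map_one _ (map_zero _) (map_one _), Matrix.one_mulVec]
      rw [← h1]
      funext i
      simp [hE, hco, Matrix.mulVec, dotProduct, Fin.sum_univ_three, mul_comm]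
    obtain ⟨k, hk⟩ : ∃ k, y k ≠ 0 := Function.ne_iff.1 (fun e => hx0 (by rw [hxy, e]; simp))
    obtain ⟨g, hg, hgx⟩ := exists_neg_reflection h2 (hne k) hQ
    obtain ⟨⟨l, hl⟩, hgS⟩ := hg
    have hfixk : (g : Matrix (Fin 3) (Fin 3) F₀) *ᵥ e' k = e' k := by
      rw [hgx, hself, mul_div_assoc, div_self (hne k), mul_one, two_smul, add_sub_cancel_right]
    have hl1 : (l : F₀) = 1 := by
      have := hl (e' k)
      rw [hfixk] at this
      exact mul_right_cancel₀ (hne k) (by rw [one_mul]; exact this.symm)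
    have hgO : g ∈ Cfsg.isometryGroup F₀ Q ⊓ specialLinear (Fin 3) F₀ :=
      ⟨mem_isometry.2 fun v => by rw [hl, hl1, one_mul], hgS⟩
    have hneg : ∀ i, i ≠ k → (g : Matrix (Fin 3) (Fin 3) F₀) *ᵥ e' i = -e' i := fun i hi => by
      rw [hgx, hortho i k hi, zero_div, zero_smul, zero_sub]
    have hsum : (ι g : M3) *ᵥ x + x = (2 * y k) • co (e' k) := by
      have hneg' : ∀ i, i ≠ k → co ((g : Matrix (Fin 3) (Fin 3) F₀) *ᵥ e' i) = -co (e' i) := fun i hi => by
        rw [hneg i hi]; funext j; simp [hco]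
      have hfix'' : co ((g : Matrix (Fin 3) (Fin 3) F₀) *ᵥ e' k) = co (e' k) := by rw [hfixk]
      rw [hι, hxy, Matrix.mulVec_add, Matrix.mulVec_add, Matrix.mulVec_smul, Matrix.mulVec_smul, Matrix.mulVec_smul,
        hmap, hmap, hmap]
      fin_cases k
      · rw [hneg' 1 (by decide), hneg' 2 (by decide), show co (_ *ᵥ e' 0) = co (e' 0) from hfix'']
        show _ = (2 * y 0) • co (e' 0)
        module
      · rw [hneg' 0 (by decide), hneg' 2 (by decide), show co (_ *ᵥ e' 1) = co (e' 1) from hfix'']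
        show _ = (2 * y 1) • co (e' 1)
        module
      · rw [hneg' 0 (by decide), hneg' 1 (by decide), show co (_ *ᵥ e' 2) = co (e' 2) from hfix'']
        show _ = (2 * y 2) • co (e' 2)
        module
    have h2' := W'.add_mem (hinv g hgO x hxW) hxW
    rw [hsum] at h2'
    exact ⟨k, (W'.smul_mem_iff (mul_ne_zero h2F hk)).1 h2'⟩
  -- the rational part
  let U : Submodule F₀ (Fin 3 → F₀) :=
    { carrier := {u | co u ∈ W'}
      add_mem' := fun {u v} hu hv => by
        show co (u + v) ∈ W'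
        exact W'.add_mem hu hv
      zero_mem' := by
        show co 0 ∈ W'
        exact W'.zero_mem
      smul_mem' := fun c u hu => by
        show co (c • u) ∈ W'
        exact W'.smul_mem (c : F) hu }
  have hUinv : ∀ g ∈ simGroup Q, ∀ u ∈ U, (g : Matrix (Fin 3) (Fin 3) F₀) *ᵥ u ∈ U := by
    rintro g ⟨⟨l, hl⟩, hgS⟩ u hu
    have hl3 : (l : F₀) ^ 3 = 1 := multiplier_cube hQ hgS hl
    have hdet : ((l : F₀) • (g : Matrix (Fin 3) (Fin 3) F₀)).det = 1 := by
      rw [Matrix.det_smul, Fintype.card_fin, hl3, det_one_of_mem hgS, one_mul]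
    let g' : GL (Fin 3) F₀ := Matrix.GeneralLinearGroup.mkOfDetNeZero _ (by rw [hdet]; exact one_ne_zero)
    have hg' : g' ∈ Cfsg.isometryGroup F₀ Q ⊓ specialLinear (Fin 3) F₀ := by
      refine ⟨mem_isometry.2 fun v => ?_, mem_specialLinear hdet⟩
      show Q (((l : F₀) • (g : Matrix (Fin 3) (Fin 3) F₀)) *ᵥ v) = Q v
      rw [Matrix.smul_mulVec, hQ.smul, hl]
      linear_combination Q v * hl3
    have h1 : co ((g' : Matrix (Fin 3) (Fin 3) F₀) *ᵥ u) ∈ W' := by
      rw [← hmap, ← hι]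
      exact hinv g' hg' _ hu
    have h3 : co (((l : F₀)⁻¹) • ((g' : Matrix (Fin 3) (Fin 3) F₀) *ᵥ u)) ∈ W' := by
      exact W'.smul_mem (((l : F₀)⁻¹ : F₀) : F) h1
    show co _ ∈ W'
    rwa [show (g' : Matrix (Fin 3) (Fin 3) F₀) = (l : F₀) • (g : Matrix (Fin 3) (Fin 3) F₀) from rfl,
      Matrix.smul_mulVec, smul_smul, inv_mul_cancel₀ l.ne_zero, one_smul] at h3
  have hUtop : U = ⊤ := (irreducible_sim h2 hQ U hUinv).resolve_left fun h => by
    have : e' k ∈ U := hk
    rw [h, Submodule.mem_bot] at this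
    exact e'.ne_zero k this
  refine Or.inr (eq_top_iff.2 fun w _ => ?_)
  have hall : ((P⁻¹ : GL (Fin 3) F) : M3) *ᵥ w ∈ W' := by
    rw [pi_eq_sum_univ' (((P⁻¹ : GL (Fin 3) F) : M3) *ᵥ w)]
    refine sum_mem fun i _ => W'.smul_mem _ ?_
    have : (Pi.single i 1 : Fin 3 → F₀) ∈ U := hUtop ▸ Submodule.mem_top
    have e2 : co (Pi.single i 1) = Pi.single i 1 := by
      funext j
      simp only [hco, Pi.single_apply]
      split_ifs <;> simp
    rw [← e2]
    exact this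
  rwa [hW', Submodule.mem_comap, Matrix.toLin'_apply, Matrix.mulVec_mulVec, Units.mul_inv, Matrix.one_mulVec] at hall

theorem card_sub_two (hq : IsQPow σ q) (hF : Fintype.card F = q ^ 2) (hodd : Odd q) {F₀ : Subfield F}
    (hc : Fintype.card F = Nat.card F₀ ^ 2) {P : GL (Fin 3) F} (hrat : IsFormRationalStructure hf F₀ 1 P) :
    Nat.card (subfieldSubgroup F₀ P ⊓ SUg 3 F q : Subgroup _) = Nat.gcd 3 (q + 1) * (q * (q ^ 2 - 1)) :=
  (sub_two_data hq hF hodd hc hrat).1

/-- A subfield group of index two is irreducible. -/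
theorem irreducible_sub_two (hq : IsQPow σ q) (hF : Fintype.card F = q ^ 2) (hodd : Odd q) {F₀ : Subfield F}
    (hc : Fintype.card F = Nat.card F₀ ^ 2) {P : GL (Fin 3) F} (hrat : IsFormRationalStructure hf F₀ 1 P)
    (W : Submodule F (Fin 3 → F))
    (hW : ∀ g ∈ subfieldSubgroup F₀ P ⊓ SUg 3 F q, ∀ w ∈ W, (g : M3) *ᵥ w ∈ W) : W = ⊥ ∨ W = ⊤ :=
  (sub_two_data hq hF hodd hc hrat).2 W hW

end CfsgLib.Geo.SL3.Maximal
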