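/-
The geometric subgroups of SU(3,q) are maximal, given the socles of the residual class.
-/
import Cfsg.Agent.S5778
import Cfsg.Agent.Lib.Geo.SL3.Maximal.UnitaryField
import Cfsg.Agent.Lib.Geo.SL3.Maximal.UnitarySubfield
import Cfsg.Agent.Lib.Geo.SL3.Maximal.UnitaryFive
import Cfsg.Agent.Lib.Geo.SL3.Maximal.HeisData
import Cfsg.Agent.Lib.Geo.ExtraspecialConj
import Cfsg.Agent.Lib.Geo.AschThree.NotLe

set_option autoImplicit false

namespace CfsgLib.Geo.SL3.Maximal

open Matrix Cfsg.Geo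
open CfsgLib.Geo.Asch (IsQPow SUg)

universe u

variable {F : Type u} [Field F] [Fintype F] {σ : F ≃+* F} {q : ℕ}

local notation "M3" => Matrix (Fin 3) (Fin 3) F
local notation "hf" => Cfsg.hermForm 3 F q

/-- The socles of the residual class of SU(3,q). -/
def ResidualSocles (F : Type u) [Field F] [Fintype F] (q : ℕ) : Prop :=
  ∀ H : Subgroup (GL (Fin 3) F), IsMaximalIn (SUg 3 F q) H → InUnitaryResidualClass H →
    ∃ P : Subgroup (GL (Fin 3) F), IsResidualCore H P ∧ q.Prime ∧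
      ((Nonempty ((P ⧸ (scalars (Fin 3) F).subgroupOf P) ≃* Matrix.ProjectiveSpecialLinearGroup (Fin 3) (ZMod 2)) ∧
          q ≠ 5 ∧ (q % 7 = 3 ∨ q % 7 = 5 ∨ q % 7 = 6)) ∨
        (Nonempty ((P ⧸ (scalars (Fin 3) F).subgroupOf P) ≃* alternatingGroup (Fin 6)) ∧
          (q % 15 = 11 ∨ q % 15 = 14 ∨ q = 5)) ∨
        (Nonempty ((P ⧸ (scalars (Fin 3) F).subgroupOf P) ≃* alternatingGroup (Fin 7)) ∧ q = 5))

/-- A subgroup is maximal when no maximal subgroup above it is larger. -/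
theorem maximalIn_of {G H : Subgroup (GL (Fin 3) F)} (hle : H ≤ G) (hnot : ¬ G ≤ H)
    (hcmp : ∀ M, IsMaximalIn G M → H ≤ M → Nat.card M ≤ Nat.card H) : IsMaximalIn G H := by
  refine ⟨lt_of_le_not_ge hle hnot, fun N hHN hN => ?_⟩
  by_cases hNS : N = G
  · exact Or.inr hNS
  obtain ⟨M, hM⟩ := Set.Finite.exists_maximal (s := {M : Subgroup (GL (Fin 3) F) | N ≤ M ∧ M < G})
    (Set.toFinite _) ⟨N, le_rfl, lt_of_le_of_ne hN hNS⟩
  have hMmax : IsMaximalIn G M := ⟨hM.1.2, fun L hL hLS => by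
    by_cases hLe : L = G
    · exact Or.inr hLe
    · exact Or.inl (le_antisymm (hM.2 ⟨hM.1.1.trans hL, lt_of_le_of_ne hLS hLe⟩ hL) hL)⟩
  have hHM : H = M := Subgroup.eq_of_le_of_card_ge (hHN.trans hM.1.1) (hcmp M hMmax (hHN.trans hM.1.1))
  exact Or.inl (le_antisymm (hHM ▸ hM.1.1) hHN)

/-- The shapes of the maximal subgroups of SU(3,q). -/
inductive ShapeU (q : ℕ) (M : Subgroup (GL (Fin 3) F)) : Prop
  | iso (u : Fin 3 → F) (hu : u ≠ 0) (huu : Cfsg.hermForm 3 F q u u = 0)
      (hM : M = subspaceStabilizer (F ∙ u) ⊓ SUg 3 F q)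
  | point (B : GL (Fin 3) F) (hB : B ∈ Cfsg.GU 3 F q)
      (hM : M = subspaceStabilizer (F ∙ ((B : M3) *ᵥ Pi.single 2 1)) ⊓ SUg 3 F q)
  | lines (h5 : q ≠ 5) (B : GL (Fin 3) F) (hB : B ∈ Cfsg.GU 3 F q)
      (hM : M = monGroup B (normOne F q) ⊓ specialLinear (Fin 3) F)
  | field (h3 : q ≠ 3) (h5 : q ≠ 5) (K : Subalgebra F M3) (hK : IsFieldSubalgebra 3 K)
      (hKa : IsAdjointClosedFor (Cfsg.hermForm 3 F q) K) (hM : M = subalgebraNormalizer K ⊓ SUg 3 F q)
  | sub (F₀ : Subfield F) (r : ℕ) (P : GL (Fin 3) F) (hr : r.Prime) (hro : Odd r)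
      (hc : Fintype.card F = Nat.card F₀ ^ r) (hrat : IsFormRationalStructure (Cfsg.hermForm 3 F q) F₀ 1 P)
      (hM : M = subfieldSubgroup F₀ P ⊓ SUg 3 F q)
  | orth (hodd : Odd q) (h7 : 7 ≤ q) (F₀ : Subfield F) (P : GL (Fin 3) F)
      (hc : Fintype.card F = Nat.card F₀ ^ 2) (hrat : IsFormRationalStructure (Cfsg.hermForm 3 F q) F₀ 1 P)
      (hM : M = subfieldSubgroup F₀ P ⊓ SUg 3 F q)
  | hess (R : Subgroup (GL (Fin 3) F)) (hp : q.Prime) (h3 : q % 3 = 2) (h11 : 11 ≤ q)
      (hs : IsSymplecticTypeGroup 3 R) (hi : ActsAbsolutelyIrreducibly (matrixSet R))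
      (hsim : R ≤ similarityGroup (Cfsg.hermForm 3 F q)) (h27 : Nat.card R = 27)
      (hM : M = subgroupNormalizer R ⊓ SUg 3 F q)
  | psl (hc : Arith.PslCond q) (hM : Nat.card M ∣ 1008)
  | six (P : Subgroup (GL (Fin 3) F)) (hp : q.Prime) (hc : q % 15 = 11 ∨ q % 15 = 14) (h50 : (5 : F) ≠ 0)
      (hcore : IsResidualCore M P) (hle : M ≤ specialLinear (Fin 3) F)
      (e : Nonempty ((P ⧸ (scalars (Fin 3) F).subgroupOf P) ≃* alternatingGroup (Fin 6)))
      (hM : Nat.card M ∣ 2160)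
  | five (P : Subgroup (GL (Fin 3) F)) (n : ℕ) (hn : n = 6 ∨ n = 7) (h5 : q = 5)
      (hcore : IsResidualCore M P) (hle : M ≤ specialLinear (Fin 3) F)
      (e : Nonempty ((P ⧸ (scalars (Fin 3) F).subgroupOf P) ≃* alternatingGroup (Fin n)))

theorem shapeU (hS5779 : ResidualSocles F q) (hq : IsQPow σ q) (hF : Fintype.card F = q ^ 2) (h3 : 3 ≤ q)
    {M : Subgroup (GL (Fin 3) F)} (hM : IsMaximalIn (SUg 3 F q) M) : ShapeU q M := by
  rcases Cfsg.Agent.S5778.result q hF h3 M hM with ⟨W, h0, hts, h⟩ | ⟨W, h0, hnd, h2, h⟩ | ⟨h5, D, hD, h⟩ |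
    ⟨h3', h5, K, hK, hKa, h⟩ | ⟨F₀, r, P, hr, hro, hc, hrat, h⟩ | ⟨hodd, h7, F₀, P, hc, hrat, h⟩ |
    ⟨p, R, hp, hpq, hp3, hp11, hs, hi, hsim, h27, -, h⟩ | hres
  · obtain ⟨u, hu, huu, rfl⟩ := exists_isotropic_line hq h0 hts
    exact .iso u hu huu h
  · have h1 : Module.finrank F W = 1 := by
      have : 0 < Module.finrank F W := Nat.pos_of_ne_zero fun e => h0 (Submodule.finrank_eq_zero.1 e)
      omega
    obtain ⟨B, hB, rfl⟩ := exists_frame_point hq hF h0 h1 hnd
    exact .point B hB h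
  · obtain ⟨B, hB, hBD⟩ := exists_frame_lines hq hF hD
    exact .lines h5 B hB (h.trans (lines_stab_eq hq hB hBD))
  · exact .field h3' h5 K hK hKa h
  · exact .sub F₀ r P hr hro hc hrat h
  · exact .orth hodd h7 F₀ P hc hrat h
  · subst hpq
    exact .hess R hp hp3 hp11 hs hi hsim h27 h
  · obtain ⟨P, hcore, hp, hcases⟩ := hS5779 M hM hres
    have hle : M ≤ specialLinear (Fin 3) F := hM.1.le.trans inf_le_right
    rcases hcases with ⟨e, h5, h7⟩ | ⟨e, hc⟩ | ⟨e, hc⟩
    · exact .psl ⟨hp, h5, h7⟩ (card_dvd_psl hcore hle e)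
    · by_cases h5 : q = 5
      · exact .five P 6 (Or.inl rfl) h5 hcore hle e
      have h50 : (5 : F) ≠ 0 := by
        intro h0
        obtain ⟨c, hchar⟩ := CharP.exists F
        haveI := hchar
        obtain ⟨k, hc', hk⟩ := FiniteField.card F c
        have h' : ((5 : ℕ) : F) = 0 := by exact_mod_cast h0
        rw [CharP.cast_eq_zero_iff F c] at h'
        obtain rfl := (Nat.prime_dvd_prime_iff_eq hc' (by norm_num)).1 h'
        have hd : 5 ∣ q ^ 2 := by rw [← hF, hk]; exact dvd_pow_self 5 k.pos.ne'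
        exact h5 ((Nat.prime_dvd_prime_iff_eq (by norm_num) hp).1 ((Nat.Prime.dvd_of_dvd_pow (by norm_num)) hd)).symm
      exact .six P hp (hc.imp_right fun h => h.resolve_right h5) h50 hcore hle e (card_dvd_six hcore hle h50 e)
    · exact .five P 7 (Or.inr rfl) hc hcore hle e

theorem not_fixes_line {H : Subgroup (GL (Fin 3) F)} {w : Fin 3 → F}
    (hirr : ∀ U : Submodule F (Fin 3 → F), (∀ g ∈ H, ∀ x ∈ U, (g : M3) *ᵥ x ∈ U) → U = ⊥ ∨ U = ⊤)
    (hw : w ≠ 0) (hle : H ≤ subspaceStabilizer (F ∙ w)) : False := by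
  rcases hirr (F ∙ w) fun g hg x hx => (hle hg x).1 hx with h | h
  · exact hw (by simpa using h)
  · have := congrArg (fun W : Submodule F (Fin 3 → F) => Module.finrank F W) h
    simp only [finrank_span_singleton hw, finrank_top, Module.finrank_fin_fun] at this
    omega

theorem base_prime {q₀ r : ℕ} (hp : q.Prime) (hr : r.Prime) (h : q = q₀ ^ r) : False :=
  hr.one_lt.ne' (Nat.Prime.eq_one_of_pow (h ▸ hp))

theorem three_le_of {r : ℕ} (hr : r.Prime) (hro : Odd r) : 3 ≤ r := by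
  have := hr.two_le
  obtain ⟨k, rfl⟩ := hro
  omega

/-- Data of a group of symplectic type in SU(3,q). -/
theorem hess_data (hq : IsQPow σ q) (hF : Fintype.card F = q ^ 2) (hp : q.Prime) (h3 : q % 3 = 2)
    {R : Subgroup (GL (Fin 3) F)} (hs : IsSymplecticTypeGroup 3 R) (hi : ActsAbsolutelyIrreducibly (matrixSet R))
    (hsim : R ≤ similarityGroup hf) (h27 : Nat.card R = 27) :
    (3 : F) ≠ 0 ∧ ∃ h : Extra27.Heis R, σ h.lam ≠ h.lam ∧
      subgroupNormalizer R ⊓ SUg 3 F q = subgroupNormalizer R ⊓ specialLinear (Fin 3) F := by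
  have hd : 3 ∣ Fintype.card F - 1 := by
    rw [hF, show q ^ 2 - 1 = (q + 1) * (q - 1) by rw [← Nat.sq_sub_sq, one_pow]]
    exact Dvd.dvd.mul_right (by omega) _
  obtain ⟨h30, ⟨h⟩⟩ := exists_heis_of hs hi h27 hd
  have hcube : ∀ c : F, σ c = c → c ^ 3 = 1 → c = 1 := by
    intro c hc hc3
    obtain ⟨k, hk⟩ : ∃ k, q = 3 * k + 2 := ⟨q / 3, by omega⟩
    rw [hq.eq_pow, hk, pow_add, pow_mul, hc3, one_pow, one_mul] at hc
    calc c = c ^ 2 := hc.symm
      _ = c ^ 2 * c / c := by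
        by_cases h0 : c = 0
        · simp [h0]
        · rw [mul_div_assoc, div_self h0, mul_one]
      _ = 1 := by
        rw [← pow_succ, hc3]
        have h0 : c ≠ 0 := fun e => by simp [e] at hc3
        have h1 : c = 1 := mul_left_cancel₀ h0 (by rw [mul_one, ← pow_two]; exact hc)
        rw [h1, div_one]
  have hfu := CfsgLib.Geo.Asch.isUnitaryForm_hermForm (n := 3) hq
  have hRU : R ≤ Cfsg.GU 3 F q := by
    intro g hg
    obtain ⟨c, hc⟩ := hsim hg
    have hg1 : g ∈ specialLinear (Fin 3) F := le_specialLinear h hg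
    have h3c := herm_multiplier_cube hq hg1 hc
    have h00 : hf (Pi.single 0 1) (Pi.single 0 1) = 1 := herm_single hq 0
    have hσc : σ (c : F) = c := by
      have e := hc (Pi.single 0 1) (Pi.single 0 1)
      rw [h00, mul_one] at e
      rw [← e, ← hfu.herm]
    refine mem_GU_iff.2 fun u v => ?_
    rw [hc, hcube _ hσc h3c, one_mul]
  refine ⟨h30, h, fun e => ?_, le_antisymm (inf_le_inf_left _ inf_le_right) fun y hy => ⟨hy.1, ?_, hy.2⟩⟩
  · exact h.prim.ne_one (by norm_num) (hcube _ e h.prim.pow_eq_one)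
  · refine CfsgLib.Geo.ExtraConj.mem_GU_of_det hF (by norm_num) ?_ hq hi hRU hy.1 (det_one_of_mem hy.2)
    exact (Nat.prime_three.coprime_iff_not_dvd).2 (by omega)

variable (hS : ResidualSocles F q) (hq : IsQPow σ q) (hF : Fintype.card F = q ^ 2) (h3q : 3 ≤ q)

include hS hq hF h3q

/-- Isotropic points. -/
theorem iso_maximal {u : Fin 3 → F} (hu : u ≠ 0) (huu : hf u u = 0) :
    IsMaximalIn (SUg 3 F q) (subspaceStabilizer (F ∙ u) ⊓ SUg 3 F q) := by
  classical
  have hne : (F ∙ u) ≠ ⊤ := CfsgLib.Geo.Asch.ne_top_of_totallySingular hq (by norm_num) fun x hx y hy => by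
    have hs := CfsgLib.Geo.Asch.isSesqForm_of_unitary (CfsgLib.Geo.Asch.isUnitaryForm_hermForm (n := 3) hq)
    obtain ⟨a, rfl⟩ := Submodule.mem_span_singleton.1 hx
    obtain ⟨b, rfl⟩ := Submodule.mem_span_singleton.1 hy
    rw [hs.smul_left, hs.smul_right, huu, mul_zero, mul_zero]
  refine maximalIn_of inf_le_right (fun h => CfsgLib.Geo.Asch.not_SU_le_subspaceStabilizer hq hF (by norm_num)
    (by simpa using hu) hne (h.trans inf_le_left)) fun M hM hle => ?_
  have hd : q ^ 3 ∣ Nat.card M :=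
    (Dvd.intro _ (card_iso_stab hq hF hu huu).symm).trans (Subgroup.card_dvd_of_le hle)
  cases shapeU hS hq hF h3q hM with
  | iso w hw hww hM' =>
    obtain ⟨g, hg, huniq⟩ := exists_transvection_at hq hu huu
    have hwu : (F ∙ u) = F ∙ w := by
      rcases huniq w hw (hM'.le (hle hg)).1 with h | h
      · obtain ⟨a, ha⟩ := Submodule.mem_span_singleton.1 (isotropic_perp hq hu huu hww h)
        have ha0 : a ≠ 0 := fun e => hw (by rw [← ha, e, zero_smul])
        rw [← ha, Submodule.span_singleton_smul_eq ha0.isUnit]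
      · obtain ⟨a, ha⟩ := Submodule.mem_span_singleton.1 h
        have ha0 : a ≠ 0 := fun e => hu (by rw [← ha, e, zero_smul])
        rw [← ha, Submodule.span_singleton_smul_eq ha0.isUnit]
    rw [hM', hwu]
  | point B hB hM' => exact absurd (hd.trans (hM' ▸ (card_point_stab hq hF hB).dvd)) (Arith.not_pt_stab h3q)
  | lines h5 B hB hM' => exact absurd (hd.trans (hM' ▸ (card_lines hq hF B).dvd)) (Arith.not_pt_lines h3q)
  | field h3 h5 K hK hKa hM' =>
    exact absurd (hd.trans (hM' ▸ card_field_dvd_unitary hq hF h3q hK hKa)) (Arith.not_pt_field h3q)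
  | sub F₀ r P hr hro hc hrat hM' =>
    obtain ⟨t, ht2, hts, hqt⟩ := sub_sqrt hF hro hc
    refine absurd (hd.trans ?_) (Arith.not_pt_sub (three_le_of hr hro) ht2 hqt)
    rw [hM', card_sub_odd hq hF hro hc hrat]
    exact (card_sub_std hq hro hts hqt).2
  | orth hodd h7 F₀ P hc hrat hM' =>
    refine absurd (hd.trans ?_) (Arith.not_pt_orth h3q)
    rw [hM', card_sub_two hq hF hodd hc hrat]
    exact Nat.mul_dvd_mul_right (Nat.gcd_dvd_left _ _) _
  | hess R hp h3 h11 hs hi hsim h27 hM' =>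
    obtain ⟨-, h, -, heq⟩ := hess_data hq hF hp h3 hs hi hsim h27
    exact absurd (hd.trans (by rw [hM', heq]; exact card_dvd_648 h h27)) (Arith.not_pt_hess h11)
  | psl hc hM' => exact absurd (hd.trans hM') (Arith.not_pt_psl hc)
  | six P hp hc h50 hcore hle' e hM' => exact absurd (hd.trans hM') (Arith.not_pt_six hc)
  | five P n hn h5 hcore hle' e => exact absurd (h5 ▸ hd) (no_cube_five hcore hle' hn e)

/-- Anisotropic points. -/
theorem point_maximal {B : GL (Fin 3) F} (hB : B ∈ Cfsg.GU 3 F q) :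
    IsMaximalIn (SUg 3 F q) (subspaceStabilizer (F ∙ ((B : M3) *ᵥ Pi.single 2 1)) ⊓ SUg 3 F q) := by
  classical
  have hv : (B : M3) *ᵥ (Pi.single 2 1 : Fin 3 → F) ≠ 0 := CfsgLib.Geo.Asch.mulVec_ne_zero B (by simp)
  have hvv : hf ((B : M3) *ᵥ Pi.single 2 1) ((B : M3) *ᵥ Pi.single 2 1) = 1 := by
    rw [mem_GU_iff.1 hB, herm_single hq]
  have hcard := card_point_stab hq hF hB
  refine maximalIn_of inf_le_right (fun h => CfsgLib.Geo.Asch.not_SU_le_subspaceStabilizer hq hF (by norm_num)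
    (by simpa using hv) (fun e => ?_) (h.trans inf_le_left)) fun M hM hle => ?_
  · have := congrArg (fun W : Submodule F (Fin 3 → F) => Module.finrank F W) e
    simp only [finrank_span_singleton hv, finrank_top, Module.finrank_fin_fun] at this
    omega
  have hd : q * (q + 1) * (q ^ 2 - 1) ∣ Nat.card M := hcard ▸ Subgroup.card_dvd_of_le hle
  cases shapeU hS hq hF h3q hM with
  | iso w hw hww hM' =>
    exfalso
    have e := point_unique hq hF hB hw ((hle.trans hM'.le).trans inf_le_left)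
    obtain ⟨a, ha⟩ := Submodule.mem_span_singleton.1
      (e.symm ▸ Submodule.mem_span_singleton_self ((B : M3) *ᵥ Pi.single 2 1) :
        (B : M3) *ᵥ Pi.single 2 1 ∈ (F ∙ w))
    have hs := CfsgLib.Geo.Asch.isSesqForm_of_unitary (CfsgLib.Geo.Asch.isUnitaryForm_hermForm (n := 3) hq)
    rw [← ha, hs.smul_left, hs.smul_right, hww, mul_zero, mul_zero] at hvv
    exact zero_ne_one hvv
  | point B' hB' hM' => rw [hM', card_point_stab hq hF hB', hcard]
  | lines h5 B' hB' hM' =>
    rw [hM', card_lines hq hF B', hcard]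
    by_cases h3 : q = 3
    · subst h3; norm_num
    · exact absurd (hd.trans (hM' ▸ (card_lines hq hF B').dvd)) (Arith.not_stab_lines (by omega))
  | field h3 h5 K hK hKa hM' =>
    exact absurd (hd.trans (hM' ▸ card_field_dvd_unitary hq hF h3q hK hKa)) (Arith.not_stab_field (by omega))
  | sub F₀ r P hr hro hc hrat hM' =>
    obtain ⟨t, ht2, hts, hqt⟩ := sub_sqrt hF hro hc
    refine absurd (hd.trans ?_) (Arith.not_stab_sub (three_le_of hr hro) ht2 hqt)
    rw [hM', card_sub_odd hq hF hro hc hrat]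
    exact (card_sub_std hq hro hts hqt).2
  | orth hodd h7 F₀ P hc hrat hM' =>
    refine absurd (hd.trans ?_) (Arith.not_stab_orth h3q)
    rw [hM', card_sub_two hq hF hodd hc hrat]
    exact Nat.mul_dvd_mul_right (Nat.gcd_dvd_left _ _) _
  | hess R hp h3 h11 hs hi hsim h27 hM' =>
    obtain ⟨-, h, -, heq⟩ := hess_data hq hF hp h3 hs hi hsim h27
    exact absurd (hd.trans (by rw [hM', heq]; exact card_dvd_648 h h27)) (Arith.not_stab_hess h11)
  | psl hc hM' => exact absurd (hd.trans hM') (Arith.not_stab_psl hc)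
  | six P hp hc h50 hcore hle' e hM' => exact absurd (hd.trans hM') (Arith.not_stab_six hc)
  | five P n hn h5 hcore hle' e =>
    subst h5
    exact (not_point_five hq hF hB hcore hle' hn e hle).elim

/-- Three orthogonal lines. -/
theorem lines_maximal (h5 : q ≠ 5) {D : Fin 3 → Submodule F (Fin 3 → F)}
    (hD : IsNondegenerateMDecomposition hf 1 D) :
    IsMaximalIn (SUg 3 F q) (decompositionStabilizer D ⊓ SUg 3 F q) := by
  classical
  refine maximalIn_of inf_le_right (fun h => CfsgLib.Geo.AschThree.not_SU_le_lines hq hF h3q hD (h.trans inf_le_left))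
    fun M hM hle => ?_
  obtain ⟨B, hB, hBD⟩ := exists_frame_lines hq hF hD
  rw [lines_stab_eq hq hB hBD] at hle ⊢
  have hcard := card_lines hq hF B
  have hd : 6 * (q + 1) ^ 2 ∣ Nat.card M := hcard ▸ Subgroup.card_dvd_of_le hle
  have hirr : ∀ U : Submodule F (Fin 3 → F), (∀ g ∈ monGroup B (normOne F q) ⊓ specialLinear (Fin 3) F, ∀ w ∈ U,
      (g : M3) *ᵥ w ∈ U) → U = ⊥ ∨ U = ⊤ := by
    refine fun U hU => irreducible ?_ U hU
    by_contra! hall
    have h1 : Nat.card (normOne F q) ∣ 2 := by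
      rw [← IsCyclic.exponent_eq_card]
      exact Monoid.exponent_dvd_of_forall_pow_eq_one fun a => Subtype.ext (by
        rw [SubgroupClass.coe_pow, pow_two]; exact hall a a.2)
    rw [card_normOne hF] at h1
    have := Nat.le_of_dvd (by norm_num) h1
    omega
  cases shapeU hS hq hF h3q hM with
  | iso w hw hww hM' => exact (not_fixes_line hirr hw ((hle.trans hM'.le).trans inf_le_left)).elim
  | point B' hB' hM' =>
    exact (not_fixes_line hirr (CfsgLib.Geo.Asch.mulVec_ne_zero B' (by simp))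
      ((hle.trans hM'.le).trans inf_le_left)).elim
  | lines h5' B' hB' hM' => rw [hM', card_lines hq hF B', hcard]
  | field h3 h5' K hK hKa hM' =>
    exact absurd (hd.trans (hM' ▸ card_field_dvd_unitary hq hF h3q hK hKa)) Arith.not_lines_field
  | sub F₀ r P hr hro hc hrat hM' =>
    obtain ⟨t, ht2, hts, hqt⟩ := sub_sqrt hF hro hc
    refine absurd (hd.trans ?_) (Arith.not_lines_sub (three_le_of hr hro) ht2 hqt)
    rw [hM', card_sub_odd hq hF hro hc hrat]
    exact (card_sub_std hq hro hts hqt).2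
  | orth hodd h7 F₀ P hc hrat hM' =>
    refine absurd (hd.trans ?_) (Arith.not_lines_orth h3q)
    rw [hM', card_sub_two hq hF hodd hc hrat]
    exact Nat.mul_dvd_mul_right (Nat.gcd_dvd_left _ _) _
  | hess R hp h3 h11 hs hi hsim h27 hM' =>
    obtain ⟨-, h, -, heq⟩ := hess_data hq hF hp h3 hs hi hsim h27
    exact absurd (hd.trans (by rw [hM', heq]; exact card_dvd_648 h h27)) (Arith.not_lines_hess h11)
  | psl hc hM' => exact absurd (hd.trans hM') (Arith.not_lines_psl h3q)
  | six P hp hc h50 hcore hle' e hM' => exact absurd (hd.trans hM') (Arith.not_lines_six hc)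
  | five P n hn h5' hcore hle' e => exact absurd h5' h5

/-- Cubic fields. -/
theorem field_maximal_unitary (h3 : q ≠ 3) (h5 : q ≠ 5) {K : Subalgebra F M3} (hK : IsFieldSubalgebra 3 K)
    (hKa : IsAdjointClosedFor hf K) : IsMaximalIn (SUg 3 F q) (subalgebraNormalizer K ⊓ SUg 3 F q) := by
  classical
  have hq4 : 4 ≤ q := by omega
  haveI : NeZero (Arith.singerU q) := ⟨by have := Arith.seven_le_singerU h3q; omega⟩
  have hexp := isExp_singerU hF h3q
  refine maximalIn_of inf_le_right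
    (fun h => CfsgLib.Geo.Asch.not_SU_le_subalgebraNormalizer hq hF le_rfl hK (by norm_num) (h.trans inf_le_left))
    fun M hM hle => ?_
  have hcyc : cyc hK (Arith.singerU q) ≤ subalgebraNormalizer K ⊓ SUg 3 F q :=
    le_inf (cyc_le_normalizer hK _) (le_inf (cyc_le_GU hq hF hK hKa) (cyc_le_specialLinear hK hexp))
  have hd : Arith.singerU q ∣ Nat.card M :=
    (card_cyc hK hexp.dvd_sub).symm.dvd.trans (Subgroup.card_dvd_of_le (hcyc.trans hle))
  have hirr : ∀ U : Submodule F (Fin 3 → F), (∀ g ∈ cyc hK (Arith.singerU q), ∀ w ∈ U, (g : M3) *ᵥ w ∈ U) →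
      U = ⊥ ∨ U = ⊤ := fun U hU => irreducible_cyc hK hexp U hU
  cases shapeU hS hq hF h3q hM with
  | iso w hw hww hM' => exact (not_fixes_line hirr hw ((hcyc.trans (hle.trans hM'.le)).trans inf_le_left)).elim
  | point B' hB' hM' =>
    exact (not_fixes_line hirr (CfsgLib.Geo.Asch.mulVec_ne_zero B' (by simp))
      ((hcyc.trans (hle.trans hM'.le)).trans inf_le_left)).elim
  | lines h5' B' hB' hM' => exact absurd (hd.trans (hM' ▸ (card_lines hq hF B').dvd)) (Arith.not_field_lines hq4)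
  | field h3' h5' K' hK' hKa' hM' =>
    rw [hM', field_unique hK hexp hK' ((hcyc.trans (hle.trans hM'.le)).trans inf_le_left)]
  | sub F₀ r P hr hro hc hrat hM' =>
    obtain ⟨t, ht2, hts, hqt⟩ := sub_sqrt hF hro hc
    refine absurd (hd.trans ?_) (Arith.not_field_sub (three_le_of hr hro) hro ht2 hqt)
    rw [hM', card_sub_odd hq hF hro hc hrat]
    exact (card_sub_std hq hro hts hqt).2
  | orth hodd h7 F₀ P hc hrat hM' =>
    refine absurd (hd.trans ?_) (Arith.not_field_orth hq4)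
    rw [hM', card_sub_two hq hF hodd hc hrat]
    exact Nat.mul_dvd_mul_right (Nat.gcd_dvd_left _ _) _
  | hess R hp h3' h11 hs hi hsim h27 hM' =>
    obtain ⟨-, h, -, heq⟩ := hess_data hq hF hp h3' hs hi hsim h27
    exact absurd (hd.trans (by rw [hM', heq]; exact card_dvd_648 h h27)) (Arith.not_field_hess hq4)
  | psl hc hM' => exact absurd (hd.trans hM') (Arith.not_field_psl h3q h3 h5)
  | six P hp hc h50 hcore hle' e hM' => exact absurd (hd.trans hM') (Arith.not_field_six hc)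
  | five P n hn h5' hcore hle' e => exact absurd h5' h5

/-- Subfields of odd index. -/
theorem sub_maximal_unitary (F₀ : Subfield F) (r : ℕ) (P : GL (Fin 3) F) (hr : r.Prime) (hro : Odd r)
    (hc : Fintype.card F = Nat.card F₀ ^ r) (hrat : IsFormRationalStructure hf F₀ 1 P) :
    IsMaximalIn (SUg 3 F q) (subfieldSubgroup F₀ P ⊓ SUg 3 F q) := by
  classical
  obtain ⟨t, ht2, hts, hqt⟩ := sub_sqrt hF hro hc
  refine maximalIn_of inf_le_right (fun h => CfsgLib.Geo.AschThree.not_SU_le_subfield hq hF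
    (CfsgLib.Geo.Asch.ne_top_of_index hr hc) P (h.trans inf_le_left)) fun M hM hle => ?_
  have hd : Arith.ordSU t ∣ Nat.card M :=
    ((card_sub_std hq hro hts hqt).1.trans (card_sub_odd hq hF hro hc hrat).symm.dvd).trans
      (Subgroup.card_dvd_of_le hle)
  have hcube : t ^ 3 ∣ Nat.card M := (Dvd.dvd.mul_right (Dvd.dvd.mul_right dvd_rfl _) _).trans hd
  have hirr := irreducible_sub_odd hq hF hro hc hrat
  cases shapeU hS hq hF h3q hM with
  | iso w hw hww hM' => exact (not_fixes_line hirr hw ((hle.trans hM'.le).trans inf_le_left)).elim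
  | point B' hB' hM' =>
    exact (not_fixes_line hirr (CfsgLib.Geo.Asch.mulVec_ne_zero B' (by simp))
      ((hle.trans hM'.le).trans inf_le_left)).elim
  | lines h5' B' hB' hM' =>
    exact absurd (hcube.trans (hM' ▸ (card_lines hq hF B').dvd)) (Arith.not_sub_lines ht2 hr.ne_zero hqt)
  | field h3' h5' K' hK' hKa' hM' =>
    exact absurd (hcube.trans (hM' ▸ card_field_dvd_unitary hq hF h3q hK' hKa'))
      (Arith.not_sub_field ht2 hr.ne_zero hqt)
  | sub F₁ r' P' hr' hro' hc' hrat' hM' =>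
    obtain ⟨t', ht'2, hts', hqt'⟩ := sub_sqrt hF hro' hc'
    by_cases hrr : r = r'
    · subst hrr
      have e : F₀ = F₁ := subfield_eq (Nat.pow_left_injective hr.ne_zero (hc.symm.trans hc'))
      subst e
      rw [hM', card_sub_odd hq hF hro hc hrat, card_sub_odd hq hF hro hc hrat']
    exfalso
    have hd' : Arith.ordSU t ∣ 3 * Arith.ordSU t' := by
      refine hd.trans ?_
      rw [hM', card_sub_odd hq hF hro' hc' hrat']
      exact (card_sub_std hq hro' hts' hqt').2
    obtain ⟨p, hp⟩ := CharP.exists F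
    haveI := hp
    obtain ⟨k, hpp, hk⟩ := FiniteField.card F p
    have hqd : q ∣ p ^ (k : ℕ) := by rw [← hk, hF]; exact dvd_pow_self q two_ne_zero
    obtain ⟨n, -, hn⟩ := (Nat.dvd_prime_pow hpp).1 hqd
    obtain ⟨a, -, rfl⟩ := (Nat.dvd_prime_pow hpp).1 (hn ▸ hqt ▸ dvd_pow_self t hr.ne_zero : t ∣ p ^ n)
    obtain ⟨b, -, rfl⟩ := (Nat.dvd_prime_pow hpp).1 (hn ▸ hqt' ▸ dvd_pow_self t' hr'.ne_zero : t' ∣ p ^ n)
    have hab : a * r = b * r' := Nat.pow_right_injective hpp.two_le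
      (show p ^ (a * r) = p ^ (b * r') by rw [pow_mul, pow_mul, ← hqt, ← hqt'])
    have hco : Nat.Coprime r' r := (Nat.coprime_primes hr' hr).2 (Ne.symm hrr)
    obtain ⟨m, rfl⟩ : r' ∣ a := hco.dvd_of_dvd_mul_right ⟨b, by rw [hab, mul_comm]⟩
    obtain rfl : b = m * r := Nat.eq_of_mul_eq_mul_right hr'.pos (by rw [← hab]; ring)
    have hm : m ≠ 0 := fun e => by rw [e, mul_zero, pow_zero] at ht2; omega
    rw [mul_comm r' m] at hd'
    rcases lt_or_gt_of_ne hrr with hlt | hlt
    · exact absurd (Arith.exp_le_unitary hpp hm hr.ne_zero hd') (not_le.2 hlt)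
    · rw [pow_mul, pow_mul] at hd'
      exact Arith.not_ordSU_sub (hpp.two_le.trans (Nat.le_self_pow hm p)) hr hr' hro hro' hlt hd'
  | orth hodd h7 F₁ P' hc' hrat' hM' =>
    refine absurd (hd.trans ?_) (Arith.not_sub_orth hr hro ?_ ?_ hqt)
    · rw [hM', card_sub_two hq hF hodd hc' hrat']
      exact Nat.mul_dvd_mul_right (Nat.gcd_dvd_left _ _) _
    · exact (Nat.odd_pow_iff hr.ne_zero).1 (hqt ▸ hodd)
    · have := (Nat.odd_pow_iff hr.ne_zero).1 (hqt ▸ hodd)
      obtain ⟨j, rfl⟩ := this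
      omega
  | hess R hp h3' h11 hs hi hsim h27 hM' => exact (base_prime hp hr hqt).elim
  | psl hc' hM' => exact (base_prime hc'.1 hr hqt).elim
  | six P' hp hc' h50 hcore hle' e hM' => exact (base_prime hp hr hqt).elim
  | five P' n hn h5 hcore hle' e => exact (base_prime (h5 ▸ (by norm_num : Nat.Prime 5)) hr hqt).elim

/-- Subfields of index two. -/
theorem orth_maximal_unitary (hodd : Odd q) (h7 : 7 ≤ q) (F₀ : Subfield F) (P : GL (Fin 3) F)
    (hc : Fintype.card F = Nat.card F₀ ^ 2) (hrat : IsFormRationalStructure hf F₀ 1 P) :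
    IsMaximalIn (SUg 3 F q) (subfieldSubgroup F₀ P ⊓ SUg 3 F q) := by
  classical
  have hcard := card_sub_two hq hF hodd hc hrat
  refine maximalIn_of inf_le_right (fun h => CfsgLib.Geo.AschThree.not_SU_le_subfield hq hF
    (CfsgLib.Geo.Asch.ne_top_of_index Nat.prime_two hc) P (h.trans inf_le_left)) fun M hM hle => ?_
  have hd : q * (q ^ 2 - 1) ∣ Nat.card M := ((dvd_mul_left _ _).trans hcard.symm.dvd).trans (Subgroup.card_dvd_of_le hle)
  have hdq : q ∣ Nat.card M := (dvd_mul_right _ _).trans hd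
  have hirr := irreducible_sub_two hq hF hodd hc hrat
  cases shapeU hS hq hF h3q hM with
  | iso w hw hww hM' => exact (not_fixes_line hirr hw ((hle.trans hM'.le).trans inf_le_left)).elim
  | point B' hB' hM' =>
    exact (not_fixes_line hirr (CfsgLib.Geo.Asch.mulVec_ne_zero B' (by simp))
      ((hle.trans hM'.le).trans inf_le_left)).elim
  | lines h5' B' hB' hM' => exact absurd (hdq.trans (hM' ▸ (card_lines hq hF B').dvd)) (Arith.not_orthU_lines h7)
  | field h3' h5' K' hK' hKa' hM' =>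
    exact absurd (hdq.trans (hM' ▸ card_field_dvd_unitary hq hF h3q hK' hKa')) (Arith.not_orthU_field h7)
  | sub F₁ r' P' hr' hro' hc' hrat' hM' =>
    obtain ⟨t', ht'2, hts', hqt'⟩ := sub_sqrt hF hro' hc'
    refine absurd (hd.trans ?_) (Arith.not_orthU_sub (three_le_of hr' hro') hro' ?_ hqt')
    · rw [hM', card_sub_odd hq hF hro' hc' hrat']
      exact (card_sub_std hq hro' hts' hqt').2
    · obtain ⟨j, rfl⟩ := (Nat.odd_pow_iff hr'.ne_zero).1 (hqt' ▸ hodd)
      omega
  | orth hodd' h7' F₁ P' hc' hrat' hM' => rw [hM', card_sub_two hq hF hodd hc' hrat', hcard]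
  | hess R hp h3' h11 hs hi hsim h27 hM' =>
    obtain ⟨-, h, -, heq⟩ := hess_data hq hF hp h3' hs hi hsim h27
    exact absurd (hd.trans (by rw [hM', heq]; exact card_dvd_648 h h27)) (Arith.not_orthU_hess h11)
  | psl hc' hM' => exact absurd (hdq.trans hM') (Arith.not_orthU_psl hc' h7)
  | six P' hp hc' h50 hcore hle' e hM' => exact absurd (hdq.trans hM') (Arith.not_orthU_six hp hc')
  | five P' n hn h5 hcore hle' e => omega

/-- Symplectic type. -/
theorem hess_maximal_unitary {R : Subgroup (GL (Fin 3) F)} (hp : q.Prime) (h3 : q % 3 = 2) (h11 : 11 ≤ q)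
    (hs : IsSymplecticTypeGroup 3 R) (hi : ActsAbsolutelyIrreducibly (matrixSet R))
    (hsim : R ≤ similarityGroup hf) (h27 : Nat.card R = 27) :
    IsMaximalIn (SUg 3 F q) (subgroupNormalizer R ⊓ SUg 3 F q) := by
  classical
  obtain ⟨h30, h, hl, heq⟩ := hess_data hq hF hp h3 hs hi hsim h27
  haveI : CharP F q := by
    obtain ⟨c, hchar⟩ := CharP.exists F
    haveI := hchar
    obtain ⟨k, hc', hk⟩ := FiniteField.card F c
    obtain rfl : c = q := (Nat.prime_dvd_prime_iff_eq hc' hp).1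
      (hc'.dvd_of_dvd_pow (n := 2) (by rw [← hF, hk]; exact dvd_pow_self c k.pos.ne'))
    exact hchar
  refine maximalIn_of inf_le_right (fun hh => CfsgLib.Geo.AschThree.not_SU_le_symp hq hF hp (by omega) h3 h27 hi
    (hh.trans inf_le_left)) fun M hM hle => ?_
  have hle' : subgroupNormalizer R ⊓ specialLinear (Fin 3) F ≤ M := heq ▸ hle
  have hRH : R ≤ subgroupNormalizer R ⊓ specialLinear (Fin 3) F := fun x hx =>
    ⟨Subgroup.le_normalizer hx, le_specialLinear h hx⟩
  have hirr : ∀ U : Submodule F (Fin 3 → F), (∀ g ∈ R, ∀ w ∈ U, (g : M3) *ᵥ w ∈ U) → U = ⊥ ∨ U = ⊤ :=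
    fun U hU => irreducible_heis h h30 U hU
  have hR : R ≤ M := hRH.trans hle'
  cases shapeU hS hq hF h3q hM with
  | iso w hw hww hM' => exact (not_fixes_line hirr hw ((hR.trans hM'.le).trans inf_le_left)).elim
  | point B' hB' hM' =>
    exact (not_fixes_line hirr (CfsgLib.Geo.Asch.mulVec_ne_zero B' (by simp))
      ((hR.trans hM'.le).trans inf_le_left)).elim
  | lines h5' B' hB' hM' =>
    refine absurd ?_ (not_le_monGroup h h30 h27 (B := B') (μ := ⊤))
    intro x hx
    obtain ⟨τ, c, -, hc⟩ := (hM'.le (hle' hx)).1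
    exact ⟨τ, c, fun _ => trivial, hc⟩
  | field h3' h5' K' hK' hKa' hM' =>
    exfalso
    have h2 : 2 ∣ Nat.card M := by
      have hj : jEl h ∈ M := hle' (jEl_mem h h30)
      have ho : orderOf (⟨jEl h, hj⟩ : M) = 2 := by
        haveI : Fact (Nat.Prime 2) := ⟨Nat.prime_two⟩
        refine orderOf_eq_prime (Subtype.ext (by rw [Subgroup.coe_pow, pow_two]; exact jEl_sq h)) fun e => ?_
        exact jEl_not_scalar h ((show jEl h = 1 from congrArg Subtype.val e) ▸ one_mem _)
      exact ho ▸ orderOf_dvd_natCard _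
    have := h2.trans (hM' ▸ card_field_dvd_unitary hq hF h3q hK' hKa')
    exact Arith.singerU_odd _ ((Nat.Coprime.dvd_of_dvd_mul_left (by norm_num) this))
  | sub F₁ r' P' hr' hro' hc' hrat' hM' =>
    obtain ⟨t', -, -, hqt'⟩ := sub_sqrt hF hro' hc'
    exact (base_prime hp hr' hqt').elim
  | orth hodd h7 F₁ P' hc' hrat' hM' =>
    refine absurd ((hR.trans hM'.le).trans inf_le_left) (not_le_subfield h (fun hm => hl ?_) P')
    rw [hq.eq_pow, ← Nat.pow_left_injective two_ne_zero (hc'.symm.trans hF)]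
    exact CfsgLib.Classical.Dickson.mem_subfield_iff_pow.1 hm
  | hess R' hp' h3' h11' hs' hi' hsim' h27' hM' =>
    obtain ⟨-, h', -, heq'⟩ := hess_data hq hF hp' h3' hs' hi' hsim' h27'
    rw [hM', eq_of_normalizer_le h h30 h27 h' h27' ((hle'.trans hM'.le).trans inf_le_left)]
  | psl hc' hM' => exact absurd ((h27 ▸ Subgroup.card_dvd_of_le hR).trans hM') (by norm_num)
  | six P' hp' hc' h50 hcore hle'' e hM' => exact (not_le_six h h30 h27 hcore hle'' h50 e hle').elim
  | five P' n hn h5 hcore hle'' e => omega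

end CfsgLib.Geo.SL3.Maximal
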