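/-
The orders of the geometric subgroups of SL(3,q) do not divide one another: the remaining pairs.
-/
import Cfsg.Agent.Lib.Geo.SL3.Maximal.ArithLinear

set_option autoImplicit false

namespace CfsgLib.Geo.SL3.Maximal.Arith

theorem coprime_self_sq_sub_one {q : ℕ} (hq : 1 ≤ q) (k : ℕ) : Nat.Coprime (q ^ k) (q ^ 2 - 1) :=
  coprime_pow_sub_one hq two_ne_zero k

theorem coprime_ordSL {q : ℕ} (hq : 1 ≤ q) (k : ℕ) : Nat.Coprime (q ^ k) ((q ^ 2 - 1) * (q ^ 3 - 1)) :=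
  Nat.Coprime.mul_right (coprime_self_sq_sub_one hq k) (coprime_pow_sub_one hq three_ne_zero k)

theorem sq_sub_one_eq (t : ℕ) : (t + 2) ^ 2 - 1 = (t + 1) * (t + 3) := by
  rw [show (t + 2) ^ 2 = (t + 1) * (t + 3) + 1 by ring, Nat.add_sub_cancel]

theorem cube_sub_one_eq (t : ℕ) : (t + 2) ^ 3 - 1 = (t + 1) * ((t + 2) ^ 2 + (t + 2) + 1) := by
  rw [show (t + 2) ^ 3 = (t + 1) * ((t + 2) ^ 2 + (t + 2) + 1) + 1 by ring, Nat.add_sub_cancel]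

theorem not_mon_sub {q q₀ r : ℕ} (hr : r.Prime) (h0 : 2 ≤ q₀) (hq : q = q₀ ^ r) (h5 : 5 ≤ q) :
    ¬ 6 * (q - 1) ^ 2 ∣ 3 * ordSL q₀ := by
  intro h
  subst hq
  have hr2 := hr.two_le
  have h1 : 2 * (q₀ ^ r - 1) ^ 2 ∣ q₀ ^ 3 * ((q₀ ^ 2 - 1) * (q₀ ^ 3 - 1)) := by
    refine Nat.dvd_of_mul_dvd_mul_left three_pos ?_
    rw [← mul_assoc, show 3 * 2 = 6 by norm_num]
    simpa only [ordSL, mul_assoc] using h
  have h2 : (q₀ ^ r - 1) ^ 2 ∣ (q₀ ^ 2 - 1) * (q₀ ^ 3 - 1) :=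
    (Nat.Coprime.pow_left 2 (coprime_pow_sub_one (by omega) (by omega) 3).symm).dvd_of_dvd_mul_left
      ((Dvd.intro_left 2 rfl).trans h1)
  rcases eq_or_ne r 2 with rfl | hne
  · obtain ⟨t, rfl⟩ : ∃ t, q₀ = t + 2 := ⟨q₀ - 2, by omega⟩
    rw [sq_sub_one_eq, cube_sub_one_eq] at h2
    have h3 : t + 3 ∣ (t + 2) ^ 2 + (t + 2) + 1 :=
      Nat.dvd_of_mul_dvd_mul_left (show 0 < (t + 1) * (t + 3) * (t + 1) by positivity) (by
        convert h2 using 1 <;> ring)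
    have h4 : t + 3 ∣ 1 := (Nat.dvd_add_right (⟨t + 2, rfl⟩ : t + 3 ∣ (t + 3) * (t + 2))).1 (by
      convert h3 using 1; ring)
    have := Nat.le_of_dvd one_pos h4
    omega
  · have hr3 : 3 ≤ r := by omega
    have hqr : q₀ ^ 3 ≤ q₀ ^ r := Nat.pow_le_pow_right (by omega) hr3
    have h23 : q₀ ^ 2 < q₀ ^ 3 := Nat.pow_lt_pow_right (by omega) (by norm_num)
    have h12 : 1 < q₀ ^ 2 := Nat.one_lt_pow two_ne_zero (by omega)
    have hpos : 0 < (q₀ ^ 2 - 1) * (q₀ ^ 3 - 1) := Nat.mul_pos (by omega) (by omega)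
    have h3 := Nat.le_of_dvd hpos h2
    have h4 : (q₀ ^ 2 - 1) * (q₀ ^ 3 - 1) < (q₀ ^ 3 - 1) * (q₀ ^ 3 - 1) :=
      Nat.mul_lt_mul_of_pos_right (by omega) (by omega)
    have h5 : (q₀ ^ 3 - 1) * (q₀ ^ 3 - 1) ≤ (q₀ ^ r - 1) ^ 2 := by
      rw [pow_two]; exact Nat.mul_le_mul (by omega) (by omega)
    omega

theorem not_mon_unitary {q q₁ : ℕ} (h0 : 3 ≤ q₁) (hq : q = q₁ ^ 2) : ¬ 6 * (q - 1) ^ 2 ∣ 3 * ordSU q₁ := by
  intro h
  subst hq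
  have h1 : 2 * (q₁ ^ 2 - 1) ^ 2 ∣ q₁ ^ 3 * ((q₁ ^ 2 - 1) * (q₁ ^ 3 + 1)) := by
    refine Nat.dvd_of_mul_dvd_mul_left three_pos ?_
    rw [← mul_assoc, show 3 * 2 = 6 by norm_num]
    simpa only [ordSU, mul_assoc] using h
  have h2 : (q₁ ^ 2 - 1) ^ 2 ∣ (q₁ ^ 2 - 1) * (q₁ ^ 3 + 1) :=
    (Nat.Coprime.pow_left 2 (coprime_pow_sub_one (by omega) (by omega) 3).symm).dvd_of_dvd_mul_left
      ((Dvd.intro_left 2 rfl).trans h1)
  obtain ⟨t, rfl⟩ : ∃ t, q₁ = t + 3 := ⟨q₁ - 3, by omega⟩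
  rw [show (t + 3) ^ 2 - 1 = (t + 2) * (t + 4) by
    rw [show (t + 3) ^ 2 = (t + 2) * (t + 4) + 1 by ring, Nat.add_sub_cancel]] at h2
  have h3 : t + 2 ∣ t ^ 2 + 5 * t + 7 :=
    Nat.dvd_of_mul_dvd_mul_left (show 0 < (t + 2) * (t + 4) * (t + 4) by positivity) (by
      convert h2 using 1 <;> ring)
  have h4 : t + 2 ∣ 1 := (Nat.dvd_add_right (⟨t + 3, rfl⟩ : t + 2 ∣ (t + 2) * (t + 3))).1 (by
    convert h3 using 1; ring)
  have := Nat.le_of_dvd one_pos h4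
  omega

theorem not_orth_mon {q : ℕ} (hq : 5 ≤ q) (hodd : Odd q) : ¬ q * (q ^ 2 - 1) ∣ 6 * (q - 1) ^ 2 := by
  intro h
  have hc : Nat.Coprime q ((q - 1) ^ 2) :=
    Nat.Coprime.pow_right 2 (by simpa using coprime_pow_sub_one (p := q) (by omega) one_ne_zero 1)
  have h6 := hc.dvd_of_dvd_mul_right ((Dvd.intro _ rfl).trans h)
  have := Nat.le_of_dvd (by norm_num) h6
  obtain ⟨k, rfl⟩ := hodd
  have : k = 2 := by omega
  subst this
  norm_num at h6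

theorem not_orth_singer {q : ℕ} (hodd : Odd q) : ¬ q * (q ^ 2 - 1) ∣ 3 * singer q := by
  intro h
  obtain ⟨k, rfl⟩ := hodd
  refine singer_odd (2 * k + 1) ((Nat.prime_two.dvd_mul.1 ((Dvd.dvd.mul_left ?_ _).trans h)).resolve_left (by norm_num))
  rw [show (2 * k + 1) ^ 2 = 2 * (2 * k * (k + 1)) + 1 by ring, Nat.add_sub_cancel]
  exact Dvd.intro _ rfl

theorem not_orth_sub {q q₁ r : ℕ} (hr : r.Prime) (h0 : 2 ≤ q₁) (hq : q = q₁ ^ r) (hodd : Odd q) :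
    ¬ q * (q ^ 2 - 1) ∣ 3 * ordSL q₁ := by
  intro h
  subst hq
  have hq3 : 3 ≤ q₁ := by
    by_contra hlt
    obtain rfl : q₁ = 2 := by omega
    exact (Nat.not_even_iff_odd.2 hodd) (even_iff_two_dvd.2 (dvd_pow_self 2 hr.ne_zero))
  have hr2 := hr.two_le
  have h1 : (q₁ ^ r) ^ 2 - 1 ∣ 3 * ((q₁ ^ 2 - 1) * (q₁ ^ 3 - 1)) := by
    have hc : Nat.Coprime ((q₁ ^ r) ^ 2 - 1) (q₁ ^ 3) := by
      rw [← pow_mul]
      exact (coprime_pow_sub_one (by omega) (by omega) 3).symm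
    refine hc.dvd_of_dvd_mul_left ?_
    have h' := (Dvd.intro_left _ rfl : (q₁ ^ r) ^ 2 - 1 ∣ _).trans h
    rw [show 3 * ordSL q₁ = q₁ ^ 3 * (3 * ((q₁ ^ 2 - 1) * (q₁ ^ 3 - 1))) by simp only [ordSL]; ring] at h'
    exact h'
  rcases (show r = 2 ∨ r = 3 ∨ 5 ≤ r by
    rcases Nat.lt_or_ge r 5 with h' | h'
    · interval_cases r <;> first | omega | exact absurd hr (by decide)
    · omega) with rfl | rfl | hr5
  · obtain ⟨t, rfl⟩ : ∃ t, q₁ = t + 2 := ⟨q₁ - 2, by omega⟩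
    rw [show ((t + 2) ^ 2) ^ 2 = (t + 1) * (t + 3) * ((t + 2) ^ 2 + 1) + 1 by ring, Nat.add_sub_cancel,
      sq_sub_one_eq] at h1
    have h2 : (t + 2) ^ 2 + 1 ∣ 3 * ((t + 2) ^ 3 - 1) :=
      Nat.dvd_of_mul_dvd_mul_left (show 0 < (t + 1) * (t + 3) by positivity) (by convert h1 using 1; ring)
    have h3 : (t + 2) ^ 2 + 1 ∣ 3 * (t + 3) := by
      refine (Nat.dvd_add_right h2).1 ⟨3 * (t + 2), ?_⟩
      have : 1 ≤ (t + 2) ^ 3 := Nat.one_le_pow _ _ (by omega)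
      zify [this]; ring
    have := Nat.le_of_dvd (by omega) h3
    have : t ≤ 1 := by nlinarith
    interval_cases t <;> first | omega | norm_num at h3
  · obtain ⟨t, rfl⟩ : ∃ t, q₁ = t + 3 := ⟨q₁ - 3, by omega⟩
    rw [show ((t + 3) ^ 3) ^ 2 = ((t + 3) ^ 3 - 1) * ((t + 3) ^ 3 + 1) + 1 by
      have : 1 ≤ (t + 3) ^ 3 := Nat.one_le_pow _ _ (by omega)
      zify [this]; ring, Nat.add_sub_cancel] at h1
    have hpos : 0 < (t + 3) ^ 3 - 1 := by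
      have : 1 < (t + 3) ^ 3 := Nat.one_lt_pow three_ne_zero (by omega)
      omega
    have h2 : (t + 3) ^ 3 + 1 ∣ 3 * ((t + 3) ^ 2 - 1) :=
      Nat.dvd_of_mul_dvd_mul_left hpos (by convert h1 using 1; ring)
    have h3 := Nat.le_of_dvd (by
      have : 1 < (t + 3) ^ 2 := Nat.one_lt_pow two_ne_zero (by omega)
      omega) h2
    have h4 : 3 * (t + 3) ^ 2 ≤ (t + 3) ^ 3 := by
      rw [pow_succ (t + 3) 2, mul_comm 3]; exact Nat.mul_le_mul_left _ (by omega)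
    omega
  · have hc : Nat.Coprime (q₁ ^ r) ((q₁ ^ 2 - 1) * (q₁ ^ 3 - 1)) := coprime_ordSL (by omega) r
    have h2 : q₁ ^ r ∣ 3 * q₁ ^ 3 := by
      refine hc.dvd_of_dvd_mul_right ?_
      have h' := (Dvd.intro _ rfl : q₁ ^ r ∣ _).trans h
      simpa only [ordSL, mul_assoc] using h'
    have hle := Nat.le_of_dvd (by positivity) h2
    have h5 : q₁ ^ 5 ≤ q₁ ^ r := Nat.pow_le_pow_right (by omega) hr5
    have h9 : 9 * q₁ ^ 3 ≤ q₁ ^ 5 := by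
      rw [show q₁ ^ 5 = q₁ ^ 2 * q₁ ^ 3 by ring]
      exact Nat.mul_le_mul_right _ (Nat.pow_le_pow_left hq3 2)
    have : 0 < q₁ ^ 3 := pow_pos (by omega) 3
    omega

theorem not_orth_unitary {q q₁ : ℕ} (h0 : 3 ≤ q₁) (hq : q = q₁ ^ 2) : ¬ q * (q ^ 2 - 1) ∣ 3 * ordSU q₁ := by
  intro h
  subst hq
  have h1 : (q₁ ^ 2) ^ 2 - 1 ∣ 3 * ((q₁ ^ 2 - 1) * (q₁ ^ 3 + 1)) := by
    have hc : Nat.Coprime ((q₁ ^ 2) ^ 2 - 1) (q₁ ^ 3) := by
      rw [← pow_mul]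
      exact (coprime_pow_sub_one (by omega) (by norm_num) 3).symm
    refine hc.dvd_of_dvd_mul_left ?_
    have h' := (Dvd.intro_left _ rfl : (q₁ ^ 2) ^ 2 - 1 ∣ _).trans h
    rw [show 3 * ordSU q₁ = q₁ ^ 3 * (3 * ((q₁ ^ 2 - 1) * (q₁ ^ 3 + 1))) by simp only [ordSU]; ring] at h'
    exact h'
  obtain ⟨t, rfl⟩ : ∃ t, q₁ = t + 2 := ⟨q₁ - 2, by omega⟩
  rw [show ((t + 2) ^ 2) ^ 2 = (t + 1) * (t + 3) * ((t + 2) ^ 2 + 1) + 1 by ring, Nat.add_sub_cancel,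
    sq_sub_one_eq] at h1
  have h2 : (t + 2) ^ 2 + 1 ∣ 3 * ((t + 2) ^ 3 + 1) :=
    Nat.dvd_of_mul_dvd_mul_left (show 0 < (t + 1) * (t + 3) by positivity) (by convert h1 using 1; ring)
  have h3 : (t + 2) ^ 2 + 1 ∣ 3 * (t + 1) := (Nat.dvd_add_right h2).1 ⟨3 * (t + 2), by ring⟩
  have := Nat.le_of_dvd (by omega) h3
  nlinarith

theorem not_orth_hess {p : ℕ} (hp : p.Prime) (h3 : p % 3 = 1) : ¬ p * (p ^ 2 - 1) ∣ 648 := by
  intro h
  have h1 : p ∣ 2 ^ 3 * 3 ^ 4 := (Dvd.intro _ rfl : p ∣ _).trans (by simpa using h)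
  rcases hp.dvd_mul.1 h1 with h' | h'
  · rw [(Nat.prime_dvd_prime_iff_eq hp Nat.prime_two).1 (hp.dvd_of_dvd_pow h')] at h3; omega
  · rw [(Nat.prime_dvd_prime_iff_eq hp Nat.prime_three).1 (hp.dvd_of_dvd_pow h')] at h3; omega

theorem not_orth_psl {p : ℕ} (hp : p.Prime) (h2 : p ≠ 2) (h7 : p % 7 = 1 ∨ p % 7 = 2 ∨ p % 7 = 4) :
    ¬ p * (p ^ 2 - 1) ∣ 1008 := by
  intro h
  have hlt : p < 12 := by
    by_contra hge
    have h1 := Nat.pow_le_pow_left (not_lt.1 hge) 2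
    have := Nat.le_of_dvd (by norm_num) h
    have : 12 * 143 ≤ p * (p ^ 2 - 1) := Nat.mul_le_mul (by omega) (by omega)
    omega
  have := hp.two_le
  interval_cases p <;> first | omega | exact absurd hp (by decide) | (revert h; decide)

theorem not_orth_six {q p : ℕ} (h : SixCond q p) (hodd : Odd q) : ¬ q * (q ^ 2 - 1) ∣ 2160 := by
  intro hd
  have hlt : q < 14 := by
    by_contra hge
    have h1 := Nat.pow_le_pow_left (not_lt.1 hge) 2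
    have := Nat.le_of_dvd (by norm_num) hd
    have : 14 * 195 ≤ q * (q ^ 2 - 1) := Nat.mul_le_mul (by omega) (by omega)
    omega
  obtain ⟨hp, ⟨rfl, hm⟩ | ⟨rfl, hp3, hm⟩⟩ := h
  · have := hp.two_le
    interval_cases q <;> first | omega | exact absurd hp (by decide) | (revert hd; decide)
  · have : p < 4 := by
      by_contra hge
      have := Nat.pow_le_pow_left (not_lt.1 hge) 2
      omega
    have := hp.two_le
    interval_cases p <;> first | omega | exact absurd hodd (by decide)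

theorem not_sub_six {q p q₀ r : ℕ} (h : SixCond q p) (hr : r.Prime) (h0 : 2 ≤ q₀) (hq : q = q₀ ^ r) :
    ¬ ordSL q₀ ∣ 2160 := by
  intro hd
  have hpos : 0 < (q₀ ^ 2 - 1) * (q₀ ^ 3 - 1) := by
    have : 1 < q₀ ^ 2 := Nat.one_lt_pow two_ne_zero (by omega)
    have : 1 < q₀ ^ 3 := Nat.one_lt_pow three_ne_zero (by omega)
    exact Nat.mul_pos (by omega) (by omega)
  have hle := Nat.le_of_dvd (by norm_num) hd
  have h5 : q₀ < 5 := by
    by_contra hge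
    have h1 := Nat.pow_le_pow_left (not_lt.1 hge) 2
    have h2 := Nat.pow_le_pow_left (not_lt.1 hge) 3
    have : 125 * 24 * 124 ≤ ordSL q₀ := Nat.mul_le_mul (Nat.mul_le_mul (by omega) (by omega)) (by omega)
    omega
  interval_cases q₀ <;> revert hd <;> decide

theorem not_unitary_sub {p a b r : ℕ} (hp : p.Prime) (hr : r.Prime) (ha : 1 ≤ a) (hab : 2 * a = r * b) :
    ¬ ordSU (p ^ a) ∣ 3 * ordSL (p ^ b) := by
  intro h
  have hb : b ≠ 0 := fun e => by subst e; simp at hab; omega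
  have hle : a ≤ b := exp_le hp (coprime_ordSL_part hp hb) (by
    have := (Dvd.intro _ (mul_assoc _ _ _).symm : (p ^ a) ^ 3 ∣ ordSU (p ^ a)).trans h
    simpa only [ordSL, mul_assoc] using this)
  have hr2 := hr.two_le
  obtain rfl : r = 2 := by
    by_contra hne
    have : 3 * b ≤ r * b := Nat.mul_le_mul_right b (by omega)
    omega
  obtain rfl : b = a := by omega
  obtain ⟨t, ht⟩ : ∃ t, p ^ b = t + 2 := ⟨p ^ b - 2, by
    have := Nat.le_self_pow hb p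
    have := hp.two_le
    omega⟩
  rw [ht] at h
  have h1 : (t + 2) ^ 3 + 1 ∣ 3 * ((t + 2) ^ 3 - 1) := by
    refine Nat.dvd_of_mul_dvd_mul_left (show 0 < (t + 2) ^ 3 * ((t + 2) ^ 2 - 1) from ?_) ?_
    · rw [sq_sub_one_eq]; positivity
    · convert h using 1 <;> simp only [ordSL, ordSU] <;> ring
  have h2 : (t + 2) ^ 3 + 1 ∣ 6 := (Nat.dvd_add_right h1).1 ⟨3, by
    have : 1 ≤ (t + 2) ^ 3 := Nat.one_le_pow _ _ (by omega)
    zify [this]; ring⟩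
  have := Nat.le_of_dvd (by norm_num) h2
  have : 2 ^ 3 ≤ (t + 2) ^ 3 := Nat.pow_le_pow_left (by omega) 3
  omega

theorem not_unitary_orth {q₀ : ℕ} (h0 : 3 ≤ q₀) : ¬ ordSU q₀ ∣ 3 * (q₀ ^ 2 * ((q₀ ^ 2) ^ 2 - 1)) := by
  intro h
  have hc : Nat.Coprime q₀ ((q₀ ^ 2) ^ 2 - 1) := by
    rw [← pow_mul]; simpa using coprime_pow_sub_one (p := q₀) (by omega) (show 4 ≠ 0 by norm_num) 1
  have h1 : q₀ ∣ 3 := hc.dvd_of_dvd_mul_right (Nat.dvd_of_mul_dvd_mul_left (pow_pos (by omega : 0 < q₀) 2) (by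
    have h' := (Dvd.intro _ (mul_assoc _ _ _).symm : q₀ ^ 3 ∣ ordSU q₀).trans h
    rw [show q₀ ^ 2 * q₀ = q₀ ^ 3 by ring,
      show q₀ ^ 2 * (3 * ((q₀ ^ 2) ^ 2 - 1)) = 3 * (q₀ ^ 2 * ((q₀ ^ 2) ^ 2 - 1)) by ring]
    exact h'))
  obtain rfl : q₀ = 3 := by
    have := Nat.le_of_dvd three_pos h1
    omega
  norm_num at h

theorem not_unitary_six {p : ℕ} (h5 : 5 ≤ p) : ¬ ordSU p ∣ 2160 := by
  intro hd
  have hle := Nat.le_of_dvd (by norm_num) hd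
  have h2 := Nat.pow_le_pow_left h5 2
  have h3 := Nat.pow_le_pow_left h5 3
  have : 125 * 24 * 126 ≤ ordSU p := Nat.mul_le_mul (Nat.mul_le_mul (by omega) (by omega)) (by omega)
  omega

end CfsgLib.Geo.SL3.Maximal.Arith
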