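/-
The geometric subgroups of SL(3,q) are maximal.
-/
import Cfsg.Agent.S5775
import Cfsg.Agent.S5776
import Cfsg.Agent.Lib.Geo.SL3.Maximal.Singer
import Cfsg.Agent.Lib.Geo.SL3.Maximal.HeisData
import Cfsg.Agent.Lib.Geo.SL3.Maximal.QuadOrder
import Cfsg.Agent.Lib.Geo.SL3.Maximal.HermOrder
import Cfsg.Agent.Lib.Geo.SL3.Maximal.ArithLinearTwo
import Cfsg.Agent.Lib.Geo.Asch.LinearMax
import Cfsg.Agent.Lib.Geo.Asch.UnitMax
import Cfsg.Agent.Lib.Geo.SubspaceMaximal

set_option autoImplicit false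

namespace CfsgLib.Geo.SL3.Maximal

open Matrix Cfsg.Geo
open CfsgLib.Geo.Asch (IsQPow)

universe u

variable {F : Type u} [Field F] [Fintype F]

local notation "M3" => Matrix (Fin 3) (Fin 3) F
local notation "SL3" => specialLinear (Fin 3) F

/-- A subgroup is maximal when no maximal subgroup above it is larger. -/
theorem maximal_of {H : Subgroup (GL (Fin 3) F)} (hle : H ≤ SL3) (hnot : ¬ SL3 ≤ H)
    (hcmp : ∀ M, IsMaximalIn SL3 M → H ≤ M → Nat.card M ≤ Nat.card H) : IsMaximalIn SL3 H := by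
  refine ⟨lt_of_le_not_ge hle hnot, fun N hHN hN => ?_⟩
  by_cases hNS : N = SL3
  · exact Or.inr hNS
  obtain ⟨M, hM⟩ := Set.Finite.exists_maximal (s := {M : Subgroup (GL (Fin 3) F) | N ≤ M ∧ M < SL3})
    (Set.toFinite _) ⟨N, le_rfl, lt_of_le_of_ne hN hNS⟩
  have hMmax : IsMaximalIn SL3 M := ⟨hM.1.2, fun L hL hLS => by
    by_cases hLe : L = SL3
    · exact Or.inr hLe
    · exact Or.inl (le_antisymm (hM.2 ⟨hM.1.1.trans hL, lt_of_le_of_ne hLS hLe⟩ hL) hL)⟩
  have hHM : H = M := Subgroup.eq_of_le_of_card_ge (hHN.trans hM.1.1) (hcmp M hMmax (hHN.trans hM.1.1))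
  exact Or.inl (le_antisymm (hHM ▸ hM.1.1) hHN)

theorem le_of_dvd' {H M : Subgroup (GL (Fin 3) F)} (h : Nat.card M ∣ Nat.card H) : Nat.card M ≤ Nat.card H :=
  Nat.le_of_dvd Nat.card_pos h

/-- The shapes of the maximal subgroups with the bounds on their orders. -/
inductive Shape (M : Subgroup (GL (Fin 3) F)) : Prop
  | line (W : Submodule F (Fin 3 → F)) (h0 : W ≠ ⊥) (h1 : W ≠ ⊤) (hle : M ≤ subspaceStabilizer W)
  | mono (h5 : 5 ≤ Fintype.card F) (B : GL (Fin 3) F) (hM : M = monGroup B ⊤ ⊓ SL3)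
  | field (h4 : Fintype.card F ≠ 4) (K : Subalgebra F M3) (hK : IsFieldSubalgebra 3 K)
      (hM : M = subalgebraNormalizer K ⊓ SL3)
  | sub (F₀ : Subfield F) (r : ℕ) (P : GL (Fin 3) F) (hr : r.Prime) (hc : Fintype.card F = Nat.card F₀ ^ r)
      (hM : M = subGroup F₀ P)
  | hess (p : ℕ) (R : Subgroup (GL (Fin 3) F)) (hp : p.Prime) (hc : Fintype.card F = p) (h3 : p % 3 = 1)
      (hR : IsLinearSymplecticTypeData 3 R) (hM : M = subgroupNormalizer R ⊓ SL3)
  | orth (hodd : Odd (Fintype.card F)) (Q : (Fin 3 → F) → F) (hQ : IsNondegenerateQuadraticForm Q)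
      (hM : M = simGroup Q)
  | unit (σ : F ≃+* F) (f : (Fin 3 → F) → (Fin 3 → F) → F) (hf : IsUnitaryForm σ f) (q₀ : ℕ)
      (hc : Fintype.card F = q₀ ^ 2) (hq : IsQPow σ q₀) (hM : M = formGroup f)
  | psl (p : ℕ) (hp : p.Prime) (hc : Fintype.card F = p) (h2 : p ≠ 2) (h7 : p % 7 = 1 ∨ p % 7 = 2 ∨ p % 7 = 4)
      (hM : Nat.card M ∣ 1008)
  | six (P : Subgroup (GL (Fin 3) F)) (p : ℕ) (hcore : IsResidualCore M P) (h5 : (5 : F) ≠ 0)
      (hsix : Arith.SixCond (Fintype.card F) p) (hle : M ≤ SL3)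
      (e : Nonempty ((P ⧸ (scalars (Fin 3) F).subgroupOf P) ≃* alternatingGroup (Fin 6)))
      (hM : Nat.card M ∣ 2160)

omit [Fintype F] in
theorem exists_lines {D : Fin 3 → Submodule F (Fin 3 → F)} (hD : IsMDecomposition 1 D) :
    ∃ B : GL (Fin 3) F, ∀ i, D i = F ∙ ((B : M3) *ᵥ Pi.single i 1) := by
  have hb : ∀ i, ∃ b : Fin 3 → F, b ∈ D i ∧ b ≠ 0 := fun i => by
    have : D i ≠ ⊥ := fun h => by
      have := hD.finrank_eq i
      rw [h, finrank_bot] at this
      omega
    exact Submodule.exists_mem_ne_zero_of_ne_bot this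
  choose b hb hb0 using hb
  set A : M3 := Matrix.of fun i j => b j i
  have hu : IsUnit A := Matrix.linearIndependent_cols_iff_isUnit.1
    (iSupIndep.linearIndependent D hD.indep hb hb0)
  refine ⟨hu.unit, fun i => ?_⟩
  have e : A *ᵥ Pi.single i 1 = b i := by rw [Matrix.mulVec_single_one]; rfl
  rw [IsUnit.unit_spec, e]
  refine (Submodule.eq_of_le_of_finrank_eq ((Submodule.span_singleton_le_iff_mem _ _).2 (hb i)) ?_).symm
  rw [finrank_span_singleton (hb0 i), hD.finrank_eq i]

theorem shape {M : Subgroup (GL (Fin 3) F)} (hM : IsMaximalIn SL3 M) : Shape M := by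
  rcases Cfsg.Agent.S5775.result M hM with ⟨W, h0, h1, h⟩ | ⟨h5, D, hD, h⟩ | ⟨h4, K, hK, h⟩ |
    ⟨F₀, r, P, hr, hc, h⟩ | ⟨p, R, hp, hc, h3, hR, h⟩ | ⟨hodd, Q, hQ, h⟩ | ⟨σ, f, hf, h⟩ | hres
  · exact .line W h0 h1 (h.le.trans inf_le_left)
  · obtain ⟨B, hB⟩ := exists_lines hD
    exact .mono h5 B (by rw [h, stabilizer_eq hB])
  · exact .field h4 K hK h
  · exact .sub F₀ r P hr hc h
  · exact .hess p R hp hc h3 hR h
  · exact .orth hodd Q hQ h
  · obtain ⟨q₀, hc, hq⟩ := exists_isQPow_of hf.ne_refl hf.involutive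
    exact .unit σ f hf q₀ hc hq h
  · obtain ⟨P, p, hcore, hp, hchar, hcases⟩ := Cfsg.Agent.S5776.result M hM hres
    haveI := hchar
    rcases hcases with ⟨e, hc, h2, h7⟩ | ⟨e, hq⟩
    · exact .psl p hp hc h2 h7 (card_dvd_psl hcore hM.1.le e)
    · have h5 : (5 : F) ≠ 0 := by
        intro h0
        have h' : ((5 : ℕ) : F) = 0 := by exact_mod_cast h0
        rw [CharP.cast_eq_zero_iff F p] at h'
        obtain rfl := (Nat.prime_dvd_prime_iff_eq hp (by norm_num)).1 h'
        rcases hq with ⟨-, h⟩ | ⟨-, -, h⟩ <;> omega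
      exact .six P p hcore h5 ⟨hp, hq⟩ hM.1.le e (card_dvd_six hcore hM.1.le h5 e)

theorem not_line {H : Subgroup (GL (Fin 3) F)} {W : Submodule F (Fin 3 → F)}
    (hirr : ∀ U : Submodule F (Fin 3 → F), (∀ g ∈ H, ∀ w ∈ U, (g : M3) *ᵥ w ∈ U) → U = ⊥ ∨ U = ⊤)
    (h0 : W ≠ ⊥) (h1 : W ≠ ⊤) (hle : H ≤ subspaceStabilizer W) : False :=
  (hirr W fun g hg w hw => (hle hg w).1 hw).elim h0 h1

theorem card_mono (B : GL (Fin 3) F) :
    Nat.card (monGroup B ⊤ ⊓ SL3 : Subgroup _) = 6 * (Fintype.card F - 1) ^ 2 := by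
  rw [card_monGroup B (Subgroup.mem_top _), Subgroup.card_top, Nat.card_units, Nat.card_eq_fintype_card]

theorem cond_two {q : ℕ} (hodd : Odd q) (hF : Fintype.card F = q) : (2 : F) ≠ 0 := by
  intro h
  haveI : CharP F 2 := CharTwo.of_one_ne_zero_of_two_eq_zero one_ne_zero h
  obtain ⟨n, -, hn⟩ := FiniteField.card F 2
  rw [← hF, hn] at hodd
  exact Nat.not_even_iff_odd.2 hodd (Nat.even_pow.2 ⟨even_two, n.pos.ne'⟩)

theorem prime_ne_pow {p a r : ℕ} (hp : p.Prime) (hr : r.Prime) (h : p = a ^ r) : False :=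
  hr.one_lt.ne' (Nat.Prime.eq_one_of_pow (h ▸ hp))

theorem exists_prime_power (k : Subfield F) :
    ∃ p a : ℕ, p.Prime ∧ 1 ≤ a ∧ Nat.card k = p ^ a ∧ ∃ n, Fintype.card F = p ^ n ∧ n ≠ 0 := by
  obtain ⟨p, hp⟩ := CharP.exists F
  haveI := hp
  haveI : Fact p.Prime := ⟨CharP.char_is_prime F p⟩
  haveI : CharP k p := (RingHom.charP_iff k.subtype Subtype.val_injective p).2 hp
  haveI := Fintype.ofFinite k
  obtain ⟨n, -, hn⟩ := FiniteField.card F p
  obtain ⟨a, -, ha⟩ := FiniteField.card k p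
  exact ⟨p, a, Fact.out, a.pos, by rw [Nat.card_eq_fintype_card, ha], n, hn, n.pos.ne'⟩

omit [Fintype F] in
theorem two_le_card_sub [Finite F] (k : Subfield F) : 2 ≤ Nat.card k := Finite.one_lt_card

theorem sub_index_eq {F₀ F₁ : Subfield F} {r : ℕ} (hc : Fintype.card F = Nat.card F₀ ^ r)
    (hc' : Fintype.card F = Nat.card F₁ ^ r) (hr : r.Prime) : Nat.card F₀ = Nat.card F₁ :=
  Nat.pow_left_injective hr.ne_zero (hc.symm.trans hc')

theorem three_dvd_of {p : ℕ} (hc : Fintype.card F = p) (h3 : p % 3 = 1) : 3 ∣ Fintype.card F - 1 := by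
  omega

theorem card_field_dvd {K : Subalgebra F M3} (hK : IsFieldSubalgebra 3 K) :
    Nat.card (subalgebraNormalizer K ⊓ SL3 : Subgroup _) ∣ 3 * Arith.singer (Fintype.card F) := by
  have hq : 2 ≤ Fintype.card F := Fintype.one_lt_card
  haveI : NeZero (Arith.singer (Fintype.card F)) := ⟨by unfold Arith.singer; positivity⟩
  refine card_normalizer_dvd hK _ ⟨dvd_rfl, ?_, Arith.nine_not_dvd_singer _⟩ fun g hg hgK => Units.ext ?_
  · unfold Arith.singer; nlinarith
  · rw [Units.val_pow_eq_pow_val, Units.val_one, det_eq_pow hK hgK, det_one_of_mem hg, one_smul]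

/-- Lines. -/
theorem mono_maximal (h5 : 5 ≤ Fintype.card F) {D : Fin 3 → Submodule F (Fin 3 → F)} (hD : IsMDecomposition 1 D) :
    IsMaximalIn SL3 (decompositionStabilizer D ⊓ SL3) := by
  classical
  refine maximal_of inf_le_right (fun h => CfsgLib.Geo.Asch.not_le_decompositionStabilizer hD (h.trans inf_le_left))
    fun M hM hle => ?_
  obtain ⟨B, hB⟩ := exists_lines hD
  rw [stabilizer_eq hB] at hle ⊢
  have hcard := card_mono B
  have hdvd : 6 * (Fintype.card F - 1) ^ 2 ∣ Nat.card M := hcard ▸ Subgroup.card_dvd_of_le hle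
  have hirr : ∀ U : Submodule F (Fin 3 → F), (∀ g ∈ monGroup B (⊤ : Subgroup Fˣ) ⊓ SL3, ∀ w ∈ U,
      (g : M3) *ᵥ w ∈ U) → U = ⊥ ∨ U = ⊤ := by
    refine fun U hU => irreducible (μ := ⊤) ?_ U hU
    by_contra! hall
    have h1 : Nat.card Fˣ ∣ 2 := by
      rw [← IsCyclic.exponent_eq_card]
      exact Monoid.exponent_dvd_of_forall_pow_eq_one fun a => by rw [pow_two]; exact hall a trivial
    rw [Nat.card_units, Nat.card_eq_fintype_card] at h1
    have := Nat.le_of_dvd (by norm_num) h1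
    omega
  cases shape hM with
  | line W h0 h1 hW => exact (not_line hirr h0 h1 (hle.trans hW)).elim
  | mono _ B' hM' => rw [hM', card_mono B', hcard]
  | field _ K hK hM' =>
    have hn := Arith.not_mon_singer (q := Fintype.card F)
    exact absurd (hdvd.trans (by rw [hM']; exact card_field_dvd hK)) hn
  | sub F₀ r P hr hc hM' =>
    exact absurd (hdvd.trans (hM' ▸ card_subGroup_dvd F₀ P)) (Arith.not_mon_sub hr (two_le_card_sub F₀) hc h5)
  | hess p R hp hc h3 hR hM' =>
    obtain ⟨-, ⟨h⟩⟩ := exists_heis_of hR.symplecticType hR.absIrred (card_of_data hR) (three_dvd_of hc h3)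
    have hR27 := card_of_data hR
    have h2 : (2 : F) ≠ 0 := cond_two (q := p) (hp.odd_of_ne_two (by omega)) hc
    have hne : (-1 : Fˣ) ≠ 1 := fun e => h2 (by
      have := congrArg Units.val e
      rw [Units.val_neg, Units.val_one] at this
      linear_combination -this)
    let u := monElem B 1 ![(-1 : Fˣ), -1, 1]
    let w := monElem B 1 ![(1 : Fˣ), -1, -1]
    have hu : u ∈ monGroup B ⊤ ⊓ SL3 :=
      ⟨monElem_mem fun _ => trivial, mem_specialLinear (by rw [det_monElem]; simp)⟩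
    have hw : w ∈ monGroup B ⊤ ⊓ SL3 :=
      ⟨monElem_mem fun _ => trivial, mem_specialLinear (by rw [det_monElem]; simp)⟩
    have hmul : ∀ c d : Fin 3 → Fˣ, monElem B 1 c * monElem B 1 d = monElem B 1 (c * d) := fun c d => by
      refine eq_monElem ?_
      rw [Units.val_mul, mul_assoc, monElem_mul_basis, ← mul_assoc, monElem_mul_basis, mul_assoc, monMat_mul]
      simp
    have h1 : monElem B 1 (1 : Fin 3 → Fˣ) = 1 := (eq_monElem (by simp [monMat_one])).symm
    have hinj : ∀ c d : Fin 3 → Fˣ, monElem B 1 c = monElem B 1 d → c = d := fun c d e => by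
      have e' := congrArg (fun g : GL (Fin 3) F => (g : M3) * (B : M3)) e
      simp only [monElem_mul_basis] at e'
      funext j
      exact Units.ext (congrFun (monMat_injective (fun j => Units.ne_zero _) (B.mul_right_inj.1 e')).2 j)
    have hne1 : u ≠ 1 := fun e => hne (congrFun (hinj _ _ (e.trans h1.symm)) 0)
    have hne2 : w ≠ 1 := fun e => hne (congrFun (hinj _ _ (e.trans h1.symm)) 1)
    have hne3 : u ≠ w := fun e => hne (congrFun (hinj _ _ e) 0)
    refine (hne3 (eq_of_involutions h hR27 (hM' ▸ hle hu) (hM' ▸ hle hw) ?_ ?_ ?_ hne1 hne2)).elim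
    · rw [pow_two, hmul, ← h1]; congr 1; funext j; fin_cases j <;> simp
    · rw [pow_two, hmul, ← h1]; congr 1; funext j; fin_cases j <;> simp
    · show _ * _ = _ * _
      rw [hmul, hmul, mul_comm]
  | orth hodd Q hQ hM' =>
    refine absurd (hdvd.trans ?_) (Arith.not_mon_orth h5 hodd)
    rw [hM', card_simGroup hQ (cond_two hodd rfl)]
    exact Nat.mul_dvd_mul_right (Nat.gcd_dvd_right _ _) _
  | unit σ f hf q₀ hc hq hM' =>
    refine absurd (hdvd.trans ?_) (Arith.not_mon_unitary (q₁ := q₀) ?_ hc)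
    · rw [hM', card_formGroup_eq hf hq]; exact (card_formGroup_std hq hc).2
    · by_contra hlt
      interval_cases q₀ <;> simp [hc] at h5
  | psl p hp hc h2 h7 hM' =>
    subst hc
    exact absurd (hdvd.trans hM') (Arith.not_mon_psl (by omega))
  | six P p hcore h5' hsix hle' e hM' => exact absurd (hdvd.trans hM') (Arith.not_mon_six hsix h5)

/-- Cubic fields. -/
theorem field_maximal (h4 : Fintype.card F ≠ 4) {K : Subalgebra F M3} (hK : IsFieldSubalgebra 3 K) :
    IsMaximalIn SL3 (subalgebraNormalizer K ⊓ SL3) := by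
  classical
  have hq : 2 ≤ Fintype.card F := Fintype.one_lt_card
  haveI : NeZero (Arith.singer (Fintype.card F)) := ⟨by unfold Arith.singer; positivity⟩
  have hexp : IsExp (F := F) (Arith.singer (Fintype.card F)) :=
    ⟨dvd_rfl, by unfold Arith.singer; nlinarith, Arith.nine_not_dvd_singer _⟩
  refine maximal_of inf_le_right
    (fun h => CfsgLib.Geo.Asch.not_le_subalgebraNormalizer (by simp) hK (by norm_num) (h.trans inf_le_left))
    fun M hM hle => ?_
  have hcyc : cyc hK (Arith.singer (Fintype.card F)) ≤ subalgebraNormalizer K ⊓ SL3 :=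
    le_inf (cyc_le_normalizer hK _) (cyc_le_specialLinear hK hexp)
  have hdvd : Arith.singer (Fintype.card F) ∣ Nat.card M := by
    refine dvd_trans ?_ (Subgroup.card_dvd_of_le (hcyc.trans hle))
    rw [card_cyc hK hexp.dvd_sub]
  cases shape hM with
  | line W h0 h1 hW =>
    exact (not_line (fun U hU => irreducible_cyc hK hexp U fun g hg => hU g hg) h0 h1 ((hcyc.trans hle).trans hW)).elim
  | mono h5 B hM' => exact absurd (hdvd.trans (hM' ▸ (card_mono B).dvd)) (Arith.not_singer_mon hq)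
  | field _ K' hK' hM' =>
    rw [hM', field_unique hK hexp hK' ((hcyc.trans hle).trans (hM' ▸ inf_le_left))]
  | sub F₀ r P hr hc hM' =>
    exact absurd (hdvd.trans (hM' ▸ card_subGroup_dvd F₀ P)) (Arith.not_singer_sub hr (two_le_card_sub F₀) hc h4)
  | hess p R hp hc h3 hR hM' =>
    obtain ⟨-, ⟨h⟩⟩ := exists_heis_of hR.symplecticType hR.absIrred (card_of_data hR) (three_dvd_of hc h3)
    exact absurd (hdvd.trans (hM' ▸ card_dvd_648 h (card_of_data hR))) (Arith.not_singer_hess hq)
  | orth hodd Q hQ hM' =>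
    refine absurd (hdvd.trans ?_) (Arith.not_singer_orth hq)
    rw [hM', card_simGroup hQ (cond_two hodd rfl)]
    exact Nat.mul_dvd_mul_right (Nat.gcd_dvd_right _ _) _
  | unit σ f hf q₀ hc hq' hM' =>
    refine absurd (hdvd.trans ?_) (Arith.not_singer_unitary (q₁ := q₀) ?_ hc)
    · rw [hM', card_formGroup_eq hf hq']; exact (card_formGroup_std hq' hc).2
    · by_contra hlt
      interval_cases q₀ <;> simp [hc] at hq h4
  | psl p hp hc h2 h7 hM' =>
    subst hc
    exact absurd (hdvd.trans hM') (Arith.not_singer_psl hp h2)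
  | six P p hcore h5' hsix hle' e hM' => exact absurd (hdvd.trans hM') (Arith.not_singer_six hsix h4)

/-- Subfields. -/
theorem sub_maximal (F₀ : Subfield F) (r : ℕ) (P : GL (Fin 3) F) (hr : r.Prime)
    (hc : Fintype.card F = Nat.card F₀ ^ r) : IsMaximalIn SL3 (subGroup F₀ P) := by
  classical
  refine maximal_of inf_le_right (fun h => CfsgLib.Geo.Asch.not_le_subfieldSubgroup (by simp)
    (CfsgLib.Geo.Asch.ne_top_of_index hr hc) P (h.trans inf_le_left)) fun M hM hle => ?_
  obtain ⟨p, a, hp, ha, ha', n, hn, hn0⟩ := exists_prime_power F₀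
  have hdvd : Arith.ordSL (Nat.card F₀) ∣ Nat.card M := (ordSL_dvd F₀ P).trans (Subgroup.card_dvd_of_le hle)
  have hcube : (p ^ a) ^ 3 ∣ Nat.card M := by
    refine dvd_trans ?_ hdvd
    rw [ha']
    exact Dvd.dvd.mul_right (Dvd.dvd.mul_right dvd_rfl _) _
  cases shape hM with
  | line W h0 h1 hW => exact (not_line (irreducible_sub F₀ P) h0 h1 (hle.trans hW)).elim
  | mono h5 B hM' => exact absurd (hcube.trans (hM' ▸ (card_mono B).dvd)) (Arith.not_sub_mon hp ha (Or.inr ⟨n, hn, hn0⟩))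
  | field _ K hK hM' =>
    exact absurd (hcube.trans (hM' ▸ card_field_dvd hK)) (Arith.not_sub_singer hp ha ⟨n, hn, hn0⟩)
  | sub F₁ r' P' hr' hc' hM' =>
    by_cases hrr : r = r'
    · subst hrr
      rw [hM', subfield_eq (sub_index_eq hc hc' hr), card_subGroup_eq F₁ P P']
    exfalso
    obtain ⟨p', a', hp', ha'1, ha'', n', hn', hn'0⟩ := exists_prime_power F₁
    obtain rfl : p = p' := ((Nat.prime_dvd_prime_iff_eq hp' hp).1
      (hp'.dvd_of_dvd_pow (n := n) (hn ▸ hn' ▸ dvd_pow_self p' hn'0))).symm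
    have hexp : a * r = a' * r' := by
      refine Nat.pow_right_injective hp.two_le ?_
      show p ^ (a * r) = p ^ (a' * r')
      rw [pow_mul, pow_mul, ← ha', ← ha'', ← hc, hc']
    have hco : Nat.Coprime r' r := (Nat.coprime_primes hr' hr).2 (Ne.symm hrr)
    obtain ⟨m, rfl⟩ : r' ∣ a := hco.dvd_of_dvd_mul_right ⟨a', by rw [hexp, mul_comm]⟩
    have hm : 1 ≤ m := Nat.pos_of_mul_pos_left ha
    obtain rfl : a' = m * r := Nat.eq_of_mul_eq_mul_right hr'.pos (by rw [← hexp]; ring)
    have hd := hdvd.trans (hM' ▸ card_subGroup_dvd F₁ P')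
    rw [ha', ha'', mul_comm r' m] at hd
    rcases lt_or_gt_of_ne hrr with hlt | hlt
    · have hd3 : (p ^ (m * r')) ^ 3 ∣ 3 * ((p ^ (m * r)) ^ 3 *
          (((p ^ (m * r)) ^ 2 - 1) * ((p ^ (m * r)) ^ 3 - 1))) := by
        refine dvd_trans ?_ (hd.trans (dvd_of_eq ?_))
        · exact Dvd.dvd.mul_right (Dvd.dvd.mul_right dvd_rfl _) _
        · show 3 * (_ * _ * _) = _
          ring
      have := Arith.exp_le hp (Arith.coprime_ordSL_part hp (Nat.mul_ne_zero (by omega) hr.ne_zero)) hd3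
      exact absurd (Nat.le_of_mul_le_mul_left this hm) (not_le.2 hlt)
    · exact Arith.not_sub_sub hp hm hr hr' hlt hd
  | hess p' R hp' hc' h3 hR hM' => exact (prime_ne_pow hp' hr (hc'.symm.trans hc)).elim
  | orth hodd Q hQ hM' => exact absurd (hM' ▸ hle) (not_sub_le_sim (cond_two hodd rfl) hQ F₀ P)
  | unit σ f hf q₀ hc' hq hM' => exact absurd (hM' ▸ hle) (not_sub_le_form hf F₀ P)
  | psl p' hp' hc' h2 h7 hM' => exact (prime_ne_pow hp' hr (hc'.symm.trans hc)).elim
  | six P' p' hcore h5' hsix hle' e hM' =>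
    exact absurd (hdvd.trans hM') (Arith.not_sub_six hsix hr (two_le_card_sub F₀) hc)

/-- Symplectic type. -/
theorem hess_maximal {p : ℕ} {R : Subgroup (GL (Fin 3) F)} (hp : p.Prime) (hc : Fintype.card F = p)
    (h3 : p % 3 = 1) (hR : IsLinearSymplecticTypeData 3 R) :
    IsMaximalIn SL3 (subgroupNormalizer R ⊓ SL3) := by
  classical
  have hR27 := card_of_data hR
  obtain ⟨h30, ⟨h⟩⟩ := exists_heis_of hR.symplecticType hR.absIrred hR27 (three_dvd_of hc h3)
  refine maximal_of inf_le_right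
    (fun hh => CfsgLib.Geo.Asch.not_le_symplecticNormalizer (by simp) hR (hh.trans inf_le_left)) fun M hM hle => ?_
  have hRH : R ≤ subgroupNormalizer R ⊓ SL3 := fun x hx => ⟨Subgroup.le_normalizer hx, le_specialLinear h hx⟩
  cases shape hM with
  | line W h0 h1 hW =>
    exact (not_line (fun U hU => irreducible_heis h h30 U hU) h0 h1 ((hRH.trans hle).trans hW)).elim
  | mono h5 B hM' => exact absurd ((hle.trans hM'.le).trans inf_le_left) (not_le_monGroup h h30 hR27)
  | field _ K hK hM' =>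
    exfalso
    have h2 : 2 ∣ Nat.card M := by
      have hj : jEl h ∈ M := hle (jEl_mem h h30)
      have ho : orderOf (⟨jEl h, hj⟩ : M) = 2 := by
        haveI : Fact (Nat.Prime 2) := ⟨Nat.prime_two⟩
        refine orderOf_eq_prime (Subtype.ext (by rw [Subgroup.coe_pow, pow_two]; exact jEl_sq h)) fun e => ?_
        exact jEl_not_scalar h ((show jEl h = 1 from congrArg Subtype.val e) ▸ one_mem _)
      exact ho ▸ orderOf_dvd_natCard _
    have := h2.trans (hM' ▸ card_field_dvd hK)
    exact Arith.singer_odd _ ((Nat.Coprime.dvd_of_dvd_mul_left (by norm_num) this))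
  | sub F₀ r P hr hc' hM' => exact (prime_ne_pow hp hr (hc.symm.trans hc')).elim
  | hess p' R' hp' hc' h3' hR' hM' =>
    have hR27' := card_of_data hR'
    obtain ⟨-, ⟨h'⟩⟩ := exists_heis_of hR'.symplecticType hR'.absIrred hR27' (three_dvd_of hc' h3')
    rw [hM', eq_of_normalizer_le h h30 hR27 h' hR27' ((hle.trans hM'.le).trans inf_le_left)]
  | orth hodd Q hQ hM' =>
    exact absurd (((hRH.trans hle).trans hM'.le).trans inf_le_left) (not_le_quadSimilarity h hQ)
  | unit σ f hf q₀ hc' hq hM' => exact (prime_ne_pow hp Nat.prime_two (hc.symm.trans hc')).elim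
  | psl p' hp' hc' h2 h7 hM' =>
    exact absurd ((hR27 ▸ Subgroup.card_dvd_of_le (hRH.trans hle)).trans hM') (by norm_num)
  | six P' p' hcore h5' hsix hle' e hM' => exact (not_le_six h h30 hR27 hcore hle' h5' e hle).elim

/-- Quadratic forms. -/
theorem orth_maximal (hodd : Odd (Fintype.card F)) {Q : (Fin 3 → F) → F} (hQ : IsNondegenerateQuadraticForm Q) :
    IsMaximalIn SL3 (simGroup Q) := by
  classical
  have h2 := cond_two hodd rfl
  refine maximal_of inf_le_right
    (fun h => CfsgLib.Geo.Asch.not_specialLinear_le_quadSimilarityGroup (by simp) hQ (h.trans inf_le_left))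
    fun M hM hle => ?_
  have hdvd : Fintype.card F * (Fintype.card F ^ 2 - 1) ∣ Nat.card M :=
    (Dvd.intro_left _ (card_simGroup hQ h2).symm).trans (Subgroup.card_dvd_of_le hle)
  cases shape hM with
  | line W h0 h1 hW => exact (not_line (irreducible_sim h2 hQ) h0 h1 (hle.trans hW)).elim
  | mono h5 B hM' => exact absurd (hdvd.trans (hM' ▸ (card_mono B).dvd)) (Arith.not_orth_mon h5 hodd)
  | field _ K hK hM' =>
    exact absurd (hdvd.trans (hM' ▸ card_field_dvd hK)) (Arith.not_orth_singer hodd)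
  | sub F₀ r P hr hc hM' =>
    exact absurd (hdvd.trans (hM' ▸ card_subGroup_dvd F₀ P)) (Arith.not_orth_sub hr (two_le_card_sub F₀) hc hodd)
  | hess p R hp hc h3 hR hM' =>
    obtain ⟨-, ⟨h⟩⟩ := exists_heis_of hR.symplecticType hR.absIrred (card_of_data hR) (three_dvd_of hc h3)
    subst hc
    exact absurd (hdvd.trans (hM' ▸ card_dvd_648 h (card_of_data hR))) (Arith.not_orth_hess hp h3)
  | orth _ Q' hQ' hM' => rw [hM', card_simGroup hQ' h2, card_simGroup hQ h2]
  | unit σ f hf q₀ hc hq hM' =>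
    refine absurd (hdvd.trans ?_) (Arith.not_orth_unitary (q₁ := q₀) ?_ hc)
    · rw [hM', card_formGroup_eq hf hq]; exact (card_formGroup_std hq hc).2
    · by_contra hlt
      have : 1 < Fintype.card F := Fintype.one_lt_card
      rw [hc] at this hodd
      interval_cases q₀ <;> simp [Nat.odd_iff] at this hodd
  | psl p hp hc h2' h7 hM' =>
    subst hc
    exact absurd (hdvd.trans hM') (Arith.not_orth_psl hp h2' h7)
  | six P p hcore h5' hsix hle' e hM' => exact absurd (hdvd.trans hM') (Arith.not_orth_six hsix hodd)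

/-- Hermitian forms. -/
theorem unit_maximal {σ : F ≃+* F} {f : (Fin 3 → F) → (Fin 3 → F) → F} (hf : IsUnitaryForm σ f) :
    IsMaximalIn SL3 (formGroup f) := by
  classical
  obtain ⟨q₀, hc, hq⟩ := exists_isQPow_of hf.ne_refl hf.involutive
  refine maximal_of inf_le_right (fun h => CfsgLib.Geo.Asch.not_specialLinear_le_similarityGroup (by simp)
    (CfsgLib.Geo.Asch.isSesqForm_of_unitary hf) hf.nondegenerate (h.trans inf_le_left)) fun M hM hle => ?_
  have hdvd : Arith.ordSU q₀ ∣ Nat.card M :=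
    ((card_formGroup_eq hf hq).symm ▸ (card_formGroup_std hq hc).1).trans (Subgroup.card_dvd_of_le hle)
  obtain ⟨p, hchar⟩ := CharP.exists F
  haveI := hchar
  haveI : Fact p.Prime := ⟨CharP.char_is_prime F p⟩
  obtain ⟨n, hp, hn⟩ := FiniteField.card F p
  obtain ⟨a, -, rfl⟩ := (Nat.dvd_prime_pow hp).1 (show q₀ ∣ p ^ (n : ℕ) from hn ▸ hc ▸ dvd_pow_self q₀ two_ne_zero)
  have hq1 : 1 < Fintype.card F := Fintype.one_lt_card
  have ha : 1 ≤ a := by
    rcases Nat.eq_zero_or_pos a with rfl | h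
    · simp [hc] at hq1
    · exact h
  have hcube : (p ^ a) ^ 3 ∣ Nat.card M :=
    dvd_trans (Dvd.dvd.mul_right (Dvd.dvd.mul_right dvd_rfl _) _) hdvd
  cases shape hM with
  | line W h0 h1 hW => exact (not_line (irreducible_form hf hq hc) h0 h1 (hle.trans hW)).elim
  | mono h5 B hM' =>
    exact absurd (hcube.trans (hM' ▸ (card_mono B).dvd)) (Arith.not_sub_mon (q := Fintype.card F) hp ha (Or.inl (by rw [hc, ← pow_mul])))
  | field _ K hK hM' =>
    exact absurd (hcube.trans (hM' ▸ card_field_dvd hK))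
      (Arith.not_sub_singer (q := Fintype.card F) hp ha ⟨a * 2, by rw [hc, ← pow_mul], by omega⟩)
  | sub F₀ r P hr hc' hM' =>
    obtain ⟨b, -, hb⟩ := (Nat.dvd_prime_pow hp).1
      (show Nat.card F₀ ∣ p ^ (n : ℕ) from hn ▸ hc' ▸ dvd_pow_self _ hr.ne_zero)
    have hab : 2 * a = r * b := Nat.pow_right_injective hp.two_le (show p ^ (2 * a) = p ^ (r * b) by
      rw [mul_comm 2, mul_comm r, pow_mul, pow_mul, ← hc, hc', hb])
    exact absurd (hdvd.trans (hb ▸ hM' ▸ card_subGroup_dvd F₀ P)) (Arith.not_unitary_sub hp hr ha hab)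
  | hess p' R hp' hc' h3 hR hM' => exact (prime_ne_pow hp' Nat.prime_two (hc'.symm.trans hc)).elim
  | orth hodd Q hQ hM' =>
    refine absurd (hdvd.trans ?_) (Arith.not_unitary_orth (q₀ := p ^ a) ?_)
    · rw [hM', card_simGroup hQ (cond_two hodd rfl), hc]
      exact Nat.mul_dvd_mul_right (Nat.gcd_dvd_right _ _) _
    · by_contra hlt
      rw [hc] at hodd hq1
      interval_cases hq0 : p ^ a <;> simp [Nat.odd_iff] at hodd hq1
  | unit σ' f' hf' q₁ hc' hq' hM' =>
    obtain rfl : q₁ = p ^ a := Nat.pow_left_injective two_ne_zero (hc'.symm.trans hc)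
    rw [hM', card_formGroup_eq hf' hq', card_formGroup_eq hf hq]
  | psl p' hp' hc' h2 h7 hM' => exact (prime_ne_pow hp' Nat.prime_two (hc'.symm.trans hc)).elim
  | six P p' hcore h5' hsix hle' e hM' =>
    obtain ⟨hp', hsix⟩ := hsix
    rcases hsix with ⟨hc', -⟩ | ⟨hc', h3', h5⟩
    · exact (prime_ne_pow hp' Nat.prime_two (hc'.symm.trans hc)).elim
    obtain hpa : p' = p ^ a := Nat.pow_left_injective two_ne_zero (hc'.symm.trans hc)
    by_cases h2' : p' = 2
    · have hdvd' := hdvd
      rw [← hpa, h2'] at hdvd'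
      have hF4 : Fintype.card F = 4 := by rw [hc', h2']; norm_num
      exact four_case hcore hle' e hle (hf := hf) (by rw [← h2', hpa]; exact hq) hF4
    · refine absurd (hdvd.trans hM') ?_
      rw [← hpa]
      refine Arith.not_unitary_six ?_
      have := hp'.two_le
      have : p' ≠ 4 := fun h => by rw [h] at hp'; norm_num at hp'
      omega
where
  four_case {σ : F ≃+* F} {f : (Fin 3 → F) → (Fin 3 → F) → F} {M P : Subgroup (GL (Fin 3) F)}
      (hcore : IsResidualCore M P) (hM : M ≤ SL3)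
      (e : Nonempty ((P ⧸ (scalars (Fin 3) F).subgroupOf P) ≃* alternatingGroup (Fin 6)))
      (hle : formGroup f ≤ M) (hf : IsUnitaryForm σ f) (hq : IsQPow σ 2) (hF : Fintype.card F = 4) :
      Nat.card M ≤ Nat.card (formGroup f) := by
    classical
    have h2 : (2 : F) = 0 := by
      haveI : CharP F 2 := by
        obtain ⟨p, hp⟩ := CharP.exists F
        haveI := hp
        obtain ⟨n, hp', hn⟩ := FiniteField.card F p
        have hd : p ∣ 2 ^ 2 := by
          rw [show (2 : ℕ) ^ 2 = Fintype.card F by rw [hF]; norm_num, hn]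
          exact dvd_pow_self p n.pos.ne'
        obtain rfl : p = 2 := (Nat.prime_dvd_prime_iff_eq hp' Nat.prime_two).1 (hp'.dvd_of_dvd_pow hd)
        exact hp
      exact CharTwo.two_eq_zero
    have hroot : ∀ l : F, l ^ 5 = 1 → l = 1 := fun l h5 => by
      have h0 : l ≠ 0 := fun e => by simp [e] at h5
      have h3 : l ^ 3 = 1 := by simpa [hF] using FiniteField.pow_card_sub_one_eq_one l h0
      simpa using pow_gcd_eq_one.2 ⟨h5, h3⟩
    have htop := socle_eq_top hcore hM h2 hroot e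
    have h360 : Nat.card (M ⧸ (scalars (Fin 3) F).subgroupOf M) = 360 := by
      obtain ⟨e'⟩ := e
      rw [← Subgroup.card_top (G := M ⧸ (scalars (Fin 3) F).subgroupOf M), ← htop,
        ← Nat.card_congr (socleEquiv hcore).toEquiv, Nat.card_congr e'.toEquiv, card_alt_six]
    have h216 : 216 ∣ Nat.card (formGroup f) := by
      have := (card_formGroup_std hq (by rw [hF]; norm_num)).1
      rwa [← card_formGroup_eq hf hq] at this
    haveI : IsSimpleGroup (M ⧸ (scalars (Fin 3) F).subgroupOf M) := by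
      have h := hcore.simple
      haveI : Nontrivial (socle hcore) := (socleEquiv hcore).symm.toEquiv.nontrivial
      haveI : IsSimpleGroup (socle hcore) :=
        IsSimpleGroup.isSimpleGroup_of_surjective (socleEquiv hcore).toMonoidHom (socleEquiv hcore).surjective
      haveI : Nontrivial (M ⧸ (scalars (Fin 3) F).subgroupOf M) :=
        Finite.one_lt_card_iff_nontrivial.1 (by rw [h360]; norm_num)
      exact IsSimpleGroup.isSimpleGroup_of_surjective
        (((MulEquiv.subgroupCongr htop).trans Subgroup.topEquiv).toMonoidHom) (MulEquiv.surjective _)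
    let π : formGroup f →* M ⧸ (scalars (Fin 3) F).subgroupOf M :=
      (QuotientGroup.mk' _).comp (Subgroup.inclusion hle)
    have hker : Nat.card π.ker ∣ 3 := by
      refine dvd_trans (Subgroup.card_dvd_of_le fun x hx => ?_) (card_scalars_dvd (inf_le_right : formGroup f ≤ SL3))
      rw [Subgroup.mem_subgroupOf]
      exact Subgroup.mem_subgroupOf.1 ((QuotientGroup.eq_one_iff (Subgroup.inclusion hle x)).1 hx)
    have he := π.ker.card_mul_index
    rw [Subgroup.index_ker] at he
    have hMb : Nat.card M ∣ 360 * 3 := card_dvd_three_mul hM (dvd_of_eq h360)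
    have h72 : 72 ∣ Nat.card π.range := by
      rcases (Nat.dvd_prime Nat.prime_three).1 hker with h | h <;> rw [h] at he <;> omega
    by_cases htopπ : π.range = ⊤
    · have hr : Nat.card π.range = 360 := by rw [htopπ, Subgroup.card_top, h360]
      rw [hr] at he
      have hk : Nat.card ((scalars (Fin 3) F).subgroupOf M) ∣ 3 := card_scalars_dvd hM
      have hcM := Subgroup.card_eq_card_quotient_mul_card_subgroup ((scalars (Fin 3) F).subgroupOf M)
      rw [h360] at hcM
      rcases (Nat.dvd_prime Nat.prime_three).1 hker with h | h <;> rw [h] at he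
      · omega
      · rcases (Nat.dvd_prime Nat.prime_three).1 hk with h' | h' <;> rw [h'] at hcM <;> omega
    · exfalso
      have hidx : π.range.index ≤ 5 := by
        have hi := π.range.card_mul_index
        rw [h360] at hi
        obtain ⟨k, hk⟩ := h72
        have : 0 < k := by
          rcases Nat.eq_zero_or_pos k with rfl | h
          · simp at hk; simp [hk] at hi
          · exact h
        nlinarith
      let act := MulAction.toPermHom (M ⧸ (scalars (Fin 3) F).subgroupOf M)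
        ((M ⧸ (scalars (Fin 3) F).subgroupOf M) ⧸ π.range)
      have hk : act.ker = ⊥ := (inferInstance : act.ker.Normal).eq_bot_or_eq_top.resolve_right fun h => htopπ (by
        refine eq_top_iff.2 fun g _ => ?_
        have hg : g • ((1 : M ⧸ (scalars (Fin 3) F).subgroupOf M) :
            (M ⧸ (scalars (Fin 3) F).subgroupOf M) ⧸ π.range) = ((1 : M ⧸ (scalars (Fin 3) F).subgroupOf M) : _) := by
          have h1 := MonoidHom.mem_ker.1 (h ▸ Subgroup.mem_top g : g ∈ act.ker)
          rw [← MulAction.toPerm_apply]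
          exact Equiv.ext_iff.1 h1 ((1 : M ⧸ (scalars (Fin 3) F).subgroupOf M) : _)
        rw [MulAction.Quotient.smul_mk, smul_eq_mul, mul_one, QuotientGroup.eq, mul_one, inv_mem_iff] at hg
        exact hg)
      have hd := Subgroup.card_dvd_of_injective act ((MonoidHom.ker_eq_bot_iff _).1 hk)
      rw [h360, Nat.card_perm, show Nat.card ((M ⧸ (scalars (Fin 3) F).subgroupOf M) ⧸ π.range) = π.range.index
        from rfl] at hd
      have h := hd.trans (Nat.factorial_dvd_factorial hidx)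
      norm_num [Nat.factorial] at h

end CfsgLib.Geo.SL3.Maximal
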